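import Mathlib

/-!
Commutators of powers when the basic commutator is central for both entries.
-/

set_option autoImplicit false

namespace Cfsg.Agent.H24.OrderFive

open scoped commutatorElement

variable {G : Type*} [Group G]

theorem comm_zpow_right {a b : G} (za : Commute ⁅a, b⁆ b) (j : ℤ) : ⁅a, b ^ j⁆ = ⁅a, b⁆ ^ j := by
  have h : a * b * a⁻¹ = ⁅a, b⁆ * b := by simp [commutatorElement_def, mul_assoc]
  rw [commutatorElement_def a (b ^ j), ← conj_zpow, h, za.mul_zpow, mul_inv_cancel_right]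

theorem comm_zpow {a b : G} (za : Commute ⁅a, b⁆ a) (zb : Commute ⁅a, b⁆ b) (i j : ℤ) :
    ⁅a ^ i, b ^ j⁆ = ⁅a, b⁆ ^ (i * j) := by
  have h1 := comm_zpow_right zb j
  have h2 : ⁅b ^ j, a⁆ = (⁅a, b⁆ ^ j)⁻¹ := by rw [← h1, commutatorElement_inv]
  have h3 := comm_zpow_right (a := b ^ j) (b := a) (by rw [h2]; exact (za.zpow_left j).inv_left) i
  rw [h2] at h3
  rw [← commutatorElement_inv, h3, inv_zpow, inv_inv, ← zpow_mul, mul_comm]

theorem comm_mul_left {a m b : G} (h : Commute m b) : ⁅a * m, b⁆ = ⁅a, b⁆ := by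
  rw [commutatorElement_mul_left_eq_conj_mul, commutatorElement_eq_one_iff_mul_comm.2 h.eq, mul_one,
    mul_inv_cancel, one_mul]

theorem comm_mul_right {a b n : G} (h : Commute a n) : ⁅a, b * n⁆ = ⁅a, b⁆ := by
  rw [commutatorElement_mul_right_eq_mul_conj, commutatorElement_eq_one_iff_mul_comm.2 h.eq, mul_one,
    mul_assoc, mul_inv_cancel, mul_one]

theorem comm_eq_one {a b : G} (h : Commute a b) : ⁅a, b⁆ = 1 :=
  commutatorElement_eq_one_iff_mul_comm.2 h.eq

theorem commute_of_comm {a b : G} (h : ⁅a, b⁆ = 1) : Commute a b :=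
  commutatorElement_eq_one_iff_mul_comm.1 h

/-- The general evaluation. -/
theorem comm_eval {a b m n : G} (za : Commute ⁅a, b⁆ a) (zb : Commute ⁅a, b⁆ b) (hmb : Commute m b)
    (han : Commute a n) (hmn : Commute m n) (i j : ℤ) :
    ⁅a ^ i * m, b ^ j * n⁆ = ⁅a, b⁆ ^ (i * j) := by
  rw [comm_mul_left ((hmb.zpow_right j).mul_right hmn), comm_mul_right (han.zpow_left i),
    comm_zpow za zb]

/-- Equal powers of an element of prime order. -/
theorem cast_eq_of_zpow {p : ℕ} [Fact p.Prime] {x : G} (hx : x ≠ 1) (hp : x ^ p = 1) {i j : ℤ}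
    (h : x ^ i = x ^ j) : (i : ZMod p) = j := by
  rw [zpow_eq_zpow_iff_modEq, orderOf_eq_prime hp hx] at h
  exact (ZMod.intCast_eq_intCast_iff _ _ _).2 h

theorem zpow_eq_of_cast {p : ℕ} {x : G} (hp : x ^ p = 1) {i j : ℤ} (h : (i : ZMod p) = j) :
    x ^ i = x ^ j := by
  obtain ⟨k, hk⟩ := (ZMod.intCast_eq_intCast_iff_dvd_sub _ _ _).1 h
  rw [show j = i + p * k by omega, zpow_add, zpow_mul, zpow_natCast, hp, one_zpow, mul_one]

end Cfsg.Agent.H24.OrderFive
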