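import Cfsg.Agent.H24.OrderFive.Bilinear
import Cfsg.Agent.H24.Extraspecial
import Cfsg.Agent.H24.MaxClassLie

/-!
A non-abelian group of order `p ^ 4`: either it has a characteristic series with steps of index `p`, or its
centre has order `p ^ 2` and its derived group order `p`.
-/

set_option autoImplicit false

namespace Cfsg.Agent.H24.OrderFive

open Subgroup
open scoped commutatorElement

variable {U : Type*} [Group U] [Finite U] {p : ℕ} [hp : Fact p.Prime]

omit [Finite U] hp in
theorem commute_mk' {N : Subgroup U} [N.Normal] {a b : U} (h : ⁅a, b⁆ ∈ N) :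
    Commute (QuotientGroup.mk' N a) (QuotientGroup.mk' N b) :=
  commute_of_comm (by rw [← map_commutatorElement]; exact (QuotientGroup.eq_one_iff _).2 h)

/-- A non-abelian group of order `p ^ 4` with centre of order `p ^ 2` has derived group of order `p`. -/
theorem comm_card_of_center (hcard : Nat.card U = p ^ 4) (hna : ¬ IsMulCommutative U)
    (hk : Nat.card (center U) = p ^ 2) : Nat.card (commutator U) = p := by
  have hU : IsPGroup p U := IsPGroup.of_card hcard
  have hcyc : ¬ IsCyclic (U ⧸ center U) := fun h => hna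
    (H24.isMulCommutative_of_cyclic_quotient (le_refl (center U)))
  have hQ2 : Nat.card (U ⧸ center U) = p ^ 2 := by
    have h := Subgroup.card_eq_card_quotient_mul_card_subgroup (center U)
    rw [hcard, hk, show p ^ 4 = p ^ 2 * p ^ 2 by ring] at h
    exact (Nat.eq_of_mul_eq_mul_right (pow_pos hp.out.pos 2) h).symm
  have hpw : ∀ x : U, x ^ p ∈ center U := by
    intro x
    rw [← QuotientGroup.eq_one_iff]
    by_contra h
    have hd : orderOf ((x : U ⧸ center U)) ∣ p ^ 2 := hQ2 ▸ orderOf_dvd_natCard _
    obtain ⟨i, hi, hi'⟩ := (Nat.dvd_prime_pow hp.out).1 hd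
    rcases (show i ≤ 1 ∨ i = 2 by omega) with h1 | h1
    · refine h ?_
      rw [QuotientGroup.mk_pow]
      refine orderOf_dvd_iff_pow_eq_one.1 (hi' ▸ ?_)
      exact (pow_dvd_pow p h1).trans (pow_one p).dvd
    · exact hcyc (isCyclic_of_orderOf_eq_card _ (by rw [hi', h1, hQ2]))
  have hcomm : ∀ a b : U, ⁅a, b⁆ ∈ center U := fun a b => by
    rw [← QuotientGroup.eq_one_iff]
    show QuotientGroup.mk' (center U) ⁅a, b⁆ = 1
    rw [map_commutatorElement, commutatorElement_eq_one_iff_mul_comm]
    exact IsPGroup.commutative_of_card_eq_prime_sq hQ2 _ _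
  obtain ⟨a, b, hab⟩ : ∃ a b : U, ⁅a, b⁆ ≠ 1 := by
    by_contra! h
    exact hna ⟨⟨fun x y => commutatorElement_eq_one_iff_mul_comm.1 (h x y)⟩⟩
  have hwC : ∀ d : U, Commute ⁅a, b⁆ d := fun d => (mem_center_iff.1 (hcomm a b) d).symm
  have hwp : ⁅a, b⁆ ^ p = 1 := by
    rw [← zpow_natCast, ← mul_one (p : ℤ), ← comm_zpow (hwC a) (hwC b), zpow_natCast, zpow_one]
    exact comm_eq_one (mem_center_iff.1 (hpw a) b).symm
  have haZ : a ∉ center U := fun h => hab (comm_eq_one (mem_center_iff.1 h b).symm)
  have : (center U ⊔ zpowers a).Normal := ⟨fun x hx d => by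
    rw [show d * x * d⁻¹ = ⁅d, x⁆ * x by simp [commutatorElement_def, mul_assoc]]
    exact mul_mem (mem_sup_left (hcomm d x)) hx⟩
  have hKa : ∀ x ∈ center U ⊔ zpowers a, Commute x a := by
    intro x hx
    obtain ⟨z, hz, v, ⟨i, rfl⟩, rfl⟩ := mem_sup_of_normal_left.1 hx
    exact (show Commute z a from (mem_center_iff.1 hz a).symm).mul_left ((Commute.refl a).zpow_left i)
  have hbK : b ∉ center U ⊔ zpowers a := fun h => hab (comm_eq_one (hKa b h).symm)
  have hKcard : Nat.card (center U ⊔ zpowers a : Subgroup U) = p ^ 3 := by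
    obtain ⟨i, hi⟩ := IsPGroup.iff_card.1 (hU.to_subgroup (center U ⊔ zpowers a))
    have h1 : p ^ 2 < Nat.card (center U ⊔ zpowers a : Subgroup U) := by
      rw [← hk]
      refine lt_of_le_of_ne (Subgroup.card_le_of_le le_sup_left) fun h => haZ ?_
      rw [Subgroup.eq_of_le_of_card_ge (le_sup_left : center U ≤ center U ⊔ zpowers a) h.ge]
      exact mem_sup_right (mem_zpowers a)
    have h2 : Nat.card (center U ⊔ zpowers a : Subgroup U) < p ^ 4 := by
      rw [← hcard, ← card_top (G := U)]
      refine lt_of_le_of_ne (Subgroup.card_le_of_le le_top) fun h => hbK ?_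
      rw [Subgroup.eq_of_le_of_card_ge le_top h.ge]
      exact mem_top b
    rw [hi] at h1 h2 ⊢
    have := (Nat.pow_lt_pow_iff_right hp.out.one_lt).1 h1
    have := (Nat.pow_lt_pow_iff_right hp.out.one_lt).1 h2
    rw [show i = 3 by omega]
  have : (zpowers ⁅a, b⁆).Normal := H24.normal_of_le_center (zpowers_le.2 (hcomm a b))
  have hle : commutator U ≤ zpowers ⁅a, b⁆ := by
    have hsame : ∀ s : U, Commute (QuotientGroup.mk' (zpowers ⁅a, b⁆) s) (QuotientGroup.mk' (zpowers ⁅a, b⁆) a) →
        Commute (QuotientGroup.mk' (zpowers ⁅a, b⁆) s) (QuotientGroup.mk' (zpowers ⁅a, b⁆) b) →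
        ∀ x, Commute (QuotientGroup.mk' (zpowers ⁅a, b⁆) s) (QuotientGroup.mk' (zpowers ⁅a, b⁆) x) := by
      intro s h1 h2 x
      obtain ⟨j, hj⟩ := H24.exists_pow_mul_mem (p := p) (N := center U ⊔ zpowers a) (M := ⊤) le_top
        (by rw [card_top, hKcard, hcard]; ring) (mem_top b) hbK (mem_top x)
      obtain ⟨z, hz, v, ⟨i, rfl⟩, hv⟩ := mem_sup_of_normal_left.1 hj
      simp only at hv
      rw [show x = b ^ j * (z * a ^ i) by rw [hv, mul_inv_cancel_left], map_mul, map_pow, map_mul, map_zpow]
      exact (h2.pow_right j).mul_right (((show Commute s z from mem_center_iff.1 hz s).map _).mul_right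
        (h1.zpow_right i))
    have hab' := commute_mk' (N := zpowers ⁅a, b⁆) (a := a) (b := b) (mem_zpowers _)
    have hca := hsame a (Commute.refl _) hab'
    have hcb := hsame b hab'.symm (Commute.refl _)
    rw [_root_.commutator_def, commutator_le]
    intro x _ y _
    rw [← QuotientGroup.eq_one_iff]
    show QuotientGroup.mk' _ ⁅x, y⁆ = 1
    rw [map_commutatorElement]
    exact comm_eq_one (hsame x (hca x).symm (hcb x).symm y)
  rw [le_antisymm hle (zpowers_le.2 (by
    rw [_root_.commutator_def]; exact commutator_mem_commutator (mem_top a) (mem_top b))),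
    Nat.card_zpowers, orderOf_eq_prime hwp hab]

theorem four_data (hcard : Nat.card U = p ^ 4) (hna : ¬ IsMulCommutative U)
    (hno : ∀ W : ℕ → Subgroup U, W 0 = ⊥ → W 4 = ⊤ → (∀ (α : MulAut U), ∀ i ≤ 4, ∀ x ∈ W i, α x ∈ W i) →
      (∀ i < 4, W i ≤ W (i + 1) ∧ (W i).relIndex (W (i + 1)) = p) → False) :
    Nat.card (center U) = p ^ 2 ∧ Nat.card (commutator U) = p := by
  have hU : IsPGroup p U := IsPGroup.of_card hcard
  obtain ⟨k, hk0, hk⟩ := IsPGroup.card_center_eq_prime_pow hcard (by norm_num)
  have hQ : Nat.card (U ⧸ center U) = p ^ (4 - k) ∧ k ≤ 4 := by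
    have h := Subgroup.card_eq_card_quotient_mul_card_subgroup (center U)
    obtain ⟨j, hj⟩ := IsPGroup.iff_card.1 (hU.to_quotient (center U))
    rw [hcard, hk, hj, ← pow_add] at h
    have := Nat.pow_right_injective hp.out.two_le h
    exact ⟨by rw [hj]; congr 1; omega, by omega⟩
  have hcyc : ¬ IsCyclic (U ⧸ center U) := fun h => hna
    (H24.isMulCommutative_of_cyclic_quotient (le_refl (center U)))
  have hk2 : k ≤ 2 := by
    by_contra h
    exact hcyc (H24.isCyclic_of_card_pow_le hQ.1 (by omega))
  rcases (show k = 1 ∨ k = 2 by omega) with rfl | rfl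
  · exfalso
    rw [pow_one] at hk
    have hQ3 : Nat.card (U ⧸ center U) = p ^ 3 := hQ.1
    -- the quotient by the centre is not abelian
    have hQna : ¬ IsMulCommutative (U ⧸ center U) := by
      intro hcomm
      have hc : ∀ a b : U, ⁅a, b⁆ ∈ center U := fun a b => by
        rw [← QuotientGroup.eq_one_iff]
        show QuotientGroup.mk' (center U) ⁅a, b⁆ = 1
        rw [map_commutatorElement, commutatorElement_eq_one_iff_mul_comm]
        exact hcomm.is_comm.comm _ _
      have hpw : ∀ x : U, x ^ p ∈ center U := by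
        intro x
        refine mem_center_iff.2 fun y => ?_
        have h1 : ⁅x ^ (p : ℤ), y ^ (1 : ℤ)⁆ = 1 := by
          rw [comm_zpow (a := x) (b := y) (mem_center_iff.1 (hc x y) x).symm (mem_center_iff.1 (hc x y) y).symm, mul_one,
            zpow_natCast, H24.pow_eq_one_of_card_eq hk (hc x y)]
        rw [zpow_natCast, zpow_one] at h1
        exact (commutatorElement_eq_one_iff_mul_comm.1 h1).symm
      obtain ⟨n, -, hn⟩ := H24.espec_card (H24.isExtraspecial_of hU hk (fun h => hna
        ⟨⟨fun x y => (mem_center_iff.1 (h.symm ▸ mem_top x : x ∈ center U) y).symm⟩⟩) hc hpw)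
      rw [hcard] at hn
      have := Nat.pow_right_injective hp.out.two_le hn
      omega
    obtain ⟨j, hj0, hj⟩ := IsPGroup.card_center_eq_prime_pow hQ3 (by norm_num)
    have hj1 : j = 1 := by
      by_contra h
      refine hQna ?_
      have hq := Subgroup.card_eq_card_quotient_mul_card_subgroup (center (U ⧸ center U))
      obtain ⟨i, hi⟩ := IsPGroup.iff_card.1 ((hU.to_quotient (center U)).to_quotient (center (U ⧸ center U)))
      rw [hQ3, hj, hi, ← pow_add] at hq
      have := Nat.pow_right_injective hp.out.two_le hq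
      have := H24.isCyclic_of_card_pow_le hi (by omega)
      exact H24.isMulCommutative_of_cyclic_quotient (le_refl (center (U ⧸ center U)))
    subst hj1
    rw [pow_one] at hj
    set Z2 := (center (U ⧸ center U)).comap (QuotientGroup.mk' (center U)) with hZ2
    have hmem : ∀ x, x ∈ Z2 ↔ ∀ y : U, ⁅x, y⁆ ∈ center U := by
      intro x
      rw [hZ2, mem_comap, mem_center_iff]
      constructor
      · intro h y
        rw [← QuotientGroup.eq_one_iff]
        show QuotientGroup.mk' (center U) ⁅x, y⁆ = 1
        rw [map_commutatorElement, commutatorElement_eq_one_iff_mul_comm]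
        exact (h _).symm
      · intro h q
        obtain ⟨y, rfl⟩ := QuotientGroup.mk'_surjective (center U) q
        exact (commute_mk' (h y)).eq.symm
    have hZle : center U ≤ Z2 := fun x hx => by
      rw [hmem]
      intro y
      rw [commutatorElement_eq_one_iff_mul_comm.2 (mem_center_iff.1 hx y).symm]
      exact one_mem _
    have hZ2card : Nat.card Z2 = p ^ 2 := by
      have h := card_mul_relIndex hZle
      rw [hk, relIndex, show (center U).subgroupOf Z2 = (QuotientGroup.mk' (center U)).ker.subgroupOf Z2 by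
        rw [QuotientGroup.ker_mk']] at h
      rw [← h, sq]
      congr 1
      show ((QuotientGroup.mk' (center U)).ker.subgroupOf Z2).index = p
      rw [← MonoidHom.ker_domRestrict, index_ker, MonoidHom.domRestrict_range, hZ2,
        map_comap_eq_self_of_surjective (QuotientGroup.mk'_surjective _), hj]
    obtain ⟨z2, hz2, hz2Z⟩ := SetLike.exists_of_lt (lt_of_le_of_ne hZle fun h => by
      rw [← h, hk] at hZ2card
      have := Nat.pow_right_injective hp.out.two_le ((pow_one p).trans hZ2card)
      omega)
    set C := centralizer (Z2 : Set U) with hC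
    have hgen : ∀ x ∈ Z2, ∃ a : ℕ, (z2 ^ a)⁻¹ * x ∈ center U := fun x hx =>
      H24.exists_pow_mul_mem (p := p) hZle (by rw [hk, hZ2card, sq]) hz2 hz2Z hx
    let δ : U →* center U := MonoidHom.mk' (fun x => ⟨⁅x, z2⁆, by
        have := (hmem z2).1 hz2 x
        rw [← commutatorElement_inv]; exact inv_mem this⟩) fun x y => Subtype.ext (by
      show ⁅x * y, z2⁆ = ⁅x, z2⁆ * ⁅y, z2⁆
      have hy : ⁅y, z2⁆ ∈ center U := by rw [← commutatorElement_inv]; exact inv_mem ((hmem z2).1 hz2 y)
      rw [commutatorElement_mul_left_eq_conj_mul, mem_center_iff.1 hy x, mul_inv_cancel_right,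
        ← mem_center_iff.1 hy ⁅x, z2⁆])
    have hker : δ.ker = C := by
      ext x
      rw [MonoidHom.mem_ker, hC, mem_centralizer_iff]
      constructor
      · intro h y hy
        have h' : Commute x z2 := commute_of_comm (congrArg Subtype.val h)
        obtain ⟨a, ha⟩ := hgen y hy
        have hcc : Commute x ((z2 ^ a)⁻¹ * y) := mem_center_iff.1 ha x
        have := (h'.pow_right a).mul_right hcc
        rw [mul_inv_cancel_left] at this
        exact this.eq.symm
      · intro h
        exact Subtype.ext (comm_eq_one (show Commute x z2 from (h z2 hz2).symm))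
    have hCidx : C.index = p := by
      have h1 : C.index ∣ p := by
        rw [← hker, index_ker, ← hk]
        exact card_subgroup_dvd_card _
      refine ((Nat.dvd_prime hp.out).1 h1).resolve_left fun h => hz2Z ?_
      rw [index_eq_one] at h
      exact mem_center_iff.2 fun y => ((mem_centralizer_iff.1 (show y ∈ C by rw [h]; exact mem_top y)) z2 hz2).symm
    have hCcard : Nat.card C = p ^ 3 := by
      have h := C.card_mul_index
      rw [hCidx, hcard, show p ^ 4 = p ^ 3 * p by ring] at h
      exact Nat.eq_of_mul_eq_mul_right hp.out.pos h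
    have hZ2C : Z2 ≤ C := by
      intro x hx
      rw [hC, mem_centralizer_iff]
      intro y hy
      obtain ⟨a, ha⟩ := hgen x hx
      obtain ⟨b, hb⟩ := hgen y hy
      have h1 : Commute (z2 ^ b * ((z2 ^ b)⁻¹ * y)) (z2 ^ a * ((z2 ^ a)⁻¹ * x)) := by
        refine Commute.mul_left ?_ (mem_center_iff.1 hb _).symm
        exact ((Commute.refl z2).pow_pow b a).mul_right (mem_center_iff.1 ha _)
      rw [mul_inv_cancel_left, mul_inv_cancel_left] at h1
      exact h1.eq
    have invZ : ∀ (α : MulAut U), ∀ x ∈ center U, α x ∈ center U := fun α x hx =>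
      mem_center_iff.2 fun y => by
        obtain ⟨y, rfl⟩ := α.surjective y
        rw [← map_mul, ← map_mul, mem_center_iff.1 hx y]
    have invZ2 : ∀ (α : MulAut U), ∀ x ∈ Z2, α x ∈ Z2 := fun α x hx => by
      rw [hmem] at hx ⊢
      intro y
      obtain ⟨y, rfl⟩ := α.surjective y
      rw [← map_commutatorElement]
      exact invZ α _ (hx y)
    have invC : ∀ (α : MulAut U), ∀ x ∈ C, α x ∈ C := fun α x hx => by
      rw [hC, mem_centralizer_iff] at hx ⊢
      intro y hy
      have hy' := invZ2 α⁻¹ y hy
      have := congrArg α (hx _ hy')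
      rwa [map_mul, map_mul, MulAut.apply_inv_self] at this
    let W : ℕ → Subgroup U := fun i =>
      if i = 0 then ⊥ else if i = 1 then center U else if i = 2 then Z2 else if i = 3 then C else ⊤
    refine hno W (by simp [W]) (by simp [W]) ?_ ?_
    · intro α i hi x hx
      rcases (show i = 0 ∨ i = 1 ∨ i = 2 ∨ i = 3 ∨ i = 4 by omega) with rfl | rfl | rfl | rfl | rfl <;>
        simp [W] at hx ⊢
      · exact hx
      · exact invZ α x hx
      · exact invZ2 α x hx
      · exact invC α x hx
    · intro i hi
      have key : ∀ {A B : Subgroup U} {a : ℕ}, A ≤ B → Nat.card A = p ^ a → Nat.card B = p ^ (a + 1) →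
          A.relIndex B = p := fun {A B a} hle h1 h2 => by
        have h := card_mul_relIndex hle
        rw [h1, h2, pow_succ] at h
        exact Nat.eq_of_mul_eq_mul_left (pow_pos hp.out.pos a) h
      rcases (show i = 0 ∨ i = 1 ∨ i = 2 ∨ i = 3 by omega) with rfl | rfl | rfl | rfl <;>
        simp only [W, if_pos, one_ne_zero, if_false, OfNat.ofNat_ne_zero,
          OfNat.ofNat_ne_one, Nat.reduceAdd, Nat.reduceEqDiff]
      · exact ⟨bot_le, key (a := 0) bot_le (by simp) (by simpa using hk)⟩
      · exact ⟨hZle, key (a := 1) hZle (by simpa using hk) hZ2card⟩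
      · exact ⟨hZ2C, key (a := 2) hZ2C hZ2card hCcard⟩
      · exact ⟨le_top, key (a := 3) le_top hCcard (by rw [card_top, hcard])⟩
  · exact ⟨hk, comm_card_of_center hcard hna hk⟩

end Cfsg.Agent.H24.OrderFive
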