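import Cfsg.Agent.H24.OrderFive.Cfg

/-!
Automorphisms of the configuration in which the commutator `⁅g, e⁆` commutes with `g` modulo the derived
subgroup of `M`: either there is an abelian maximal subgroup or the weights satisfy `ν = b ^ 2`.
-/

set_option autoImplicit false

namespace Cfsg.Agent.H24.OrderFive

open Subgroup
open scoped commutatorElement

variable {G : Type*} [Group G] {p : ℕ} [hp : Fact p.Prime] {M : Subgroup G} {g e : G}

omit hp in
theorem mk_eq_one {N : Subgroup G} [N.Normal] {x : G} : QuotientGroup.mk' N x = 1 ↔ x ∈ N :=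
  QuotientGroup.eq_one_iff x

omit hp in
theorem commute_mk {N : Subgroup G} [N.Normal] {a b : G} (h : ⁅a, b⁆ ∈ N) :
    Commute (QuotientGroup.mk' N a) (QuotientGroup.mk' N b) :=
  commute_of_comm (by rw [← map_commutatorElement]; exact mk_eq_one.2 h)

omit hp in
theorem comm_swap_mem {N : Subgroup G} {a b : G} (h : ⁅a, b⁆ ∈ N) : ⁅b, a⁆ ∈ N := by
  rw [← commutatorElement_inv]; exact inv_mem h

namespace Cfg

theorem zs_comm_w (c : Cfg p M g e) (x : G) {z : G} (hz : z ∈ zs M) : ⁅x, z⁆ ∈ ⁅M, M⁆ := by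
  have := c.finite
  have := c.w_normal
  have := c.zs_normal
  refine H24.comm_mem_of_relIndex_prime c.isP (M := ⊤) c.w_le_zs le_top (by rw [normalizer_eq_top])
    (by rw [normalizer_eq_top]) ?_ (mem_top x) hz
  have h := card_mul_relIndex c.w_le_zs
  rw [c.cardW, c.cardZ, sq] at h
  exact Nat.eq_of_mul_eq_mul_left hp.out.pos h

theorem zs_pow_w (c : Cfg p M g e) {z : G} (hz : z ∈ zs M) : z ^ p ∈ ⁅M, M⁆ := by
  have := c.finite
  have := c.w_normal
  have h := card_mul_relIndex c.w_le_zs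
  rw [c.cardW, c.cardZ, sq] at h
  have h' : ((⁅M, M⁆ : Subgroup G).subgroupOf (zs M)).index = p := Nat.eq_of_mul_eq_mul_left hp.out.pos h
  have := pow_index_mem ((⁅M, M⁆ : Subgroup G).subgroupOf (zs M)) (⟨z, hz⟩ : zs M)
  rw [h', mem_subgroupOf] at this
  simpa using this

/-- An automorphism inverting `e` makes `⁅g, e⁆` commute with `g` modulo `⁅M, M⁆`. -/
theorem comm_y_mem (c : Cfg p M g e) (hp2 : p ≠ 2) (f : G ≃* G) {s : ℤ} (hs : (s : ZMod p) ^ 2 = 1)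
    (hg : (g ^ s)⁻¹ * f g ∈ M) (he : e * f e ∈ zs M ⊔ zpowers ⁅g, e⁆)
    (hz : ∀ z ∈ zs M, z⁻¹ * f z ∈ ⁅M, M⁆) :
    ⁅g, ⁅g, e⁆⁆ ∈ ⁅M, M⁆ := by
  have := c.finite
  have := c.w_normal
  have := c.zs_normal
  obtain ⟨m, hm, hfg⟩ : ∃ m ∈ M, f g = g ^ s * m := ⟨_, hg, (mul_inv_cancel_left _ _).symm⟩
  obtain ⟨ζ, hζ, hfe⟩ : ∃ ζ ∈ zs M ⊔ zpowers ⁅g, e⁆, f e = e ^ (-1 : ℤ) * ζ :=
    ⟨_, he, by rw [zpow_neg_one, inv_mul_cancel_left]⟩
  let π2 := QuotientGroup.mk' (zs M)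
  have hζg : Commute (π2 g) (π2 ζ) := by
    obtain ⟨z, hz', v, ⟨l, rfl⟩, rfl⟩ := mem_sup_of_normal_left.1 hζ
    show Commute (π2 g) (π2 (z * ⁅g, e⁆ ^ l))
    rw [map_mul, map_zpow, mk_eq_one.2 hz', one_mul]
    exact (commute_mk (c.comm_y_zs g)).zpow_right l
  have h2 : (⁅g, e⁆ ^ (-s))⁻¹ * f ⁅g, e⁆ ∈ zs M := by
    rw [← mk_eq_one, map_mul, map_inv, map_zpow, inv_mul_eq_one, map_commutatorElement f, hfg, hfe,
      map_commutatorElement, map_commutatorElement, map_mul, map_mul, map_zpow, map_zpow]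
    rw [comm_eval (a := π2 g) (b := π2 e) (m := π2 m) (n := π2 ζ)
      (by rw [← map_commutatorElement]; exact commute_mk (comm_swap_mem (c.comm_y_zs g)))
      (by rw [← map_commutatorElement]; exact commute_mk (comm_swap_mem (c.comm_y_zs e)))
      (commute_mk (c.comm_M_zs hm c.eM)) hζg
      (commute_mk (c.comm_M_zs hm (sup_le c.zs_le_M (zpowers_le.2 c.y_mem) hζ))), mul_neg_one]
  obtain ⟨ζ', hζ', hfy⟩ : ∃ ζ' ∈ zs M, f ⁅g, e⁆ = ⁅g, e⁆ ^ (-s) * ζ' :=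
    ⟨_, h2, (mul_inv_cancel_left _ _).symm⟩
  let π := QuotientGroup.mk' (⁅M, M⁆ : Subgroup G)
  obtain ⟨c0, hc0, hc0'⟩ : ∃ c0 ∈ zs M, ⁅g, ⁅g, e⁆⁆ = c0 := ⟨_, c.comm_y_zs g, rfl⟩
  rw [hc0']
  have h1 : π (f c0) = π c0 ^ (s * -s) := by
    rw [← hc0', map_commutatorElement f, hfy, hfg]
    show π ⁅_, _⁆ = π ⁅g, ⁅g, e⁆⁆ ^ _
    rw [map_commutatorElement, map_commutatorElement π g, map_mul, map_mul, map_zpow, map_zpow]
    exact comm_eval
      (by rw [← map_commutatorElement]; exact commute_mk (comm_swap_mem (c.zs_comm_w g (c.comm_y_zs g))))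
      (by rw [← map_commutatorElement]; exact commute_mk (commutator_mem_commutator (zs_le_M c (c.comm_y_zs g)) c.y_mem))
      (commute_mk (commutator_mem_commutator hm c.y_mem)) (commute_mk (c.zs_comm_w g hζ'))
      (commute_mk (commutator_mem_commutator hm (c.zs_le_M hζ'))) _ _
  have h3 : π (f c0) = π c0 := by
    have h := hz c0 hc0
    rw [← mk_eq_one, map_mul, map_inv, inv_mul_eq_one] at h
    exact h.symm
  rw [← mk_eq_one]
  by_contra hne
  have h4 := cast_eq_of_zpow (p := p) hne (by rw [← map_pow]; exact mk_eq_one.2 (c.zs_pow_w hc0))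
    (i := s * -s) (j := 1) (by rw [zpow_one, ← h1, h3])
  push_cast at h4
  rw [mul_neg, ← sq, hs] at h4
  have h5 : ((2 : ℕ) : ZMod p) = 0 := by push_cast; linear_combination -h4
  rw [ZMod.natCast_eq_zero_iff] at h5
  exact hp2 ((Nat.prime_dvd_prime_iff_eq hp.out Nat.prime_two).1 h5)

/-- `g` acts quadratically on `M` modulo `⁅M, M⁆`. -/
theorem quad (c : Cfg p M g e) (hA : ⁅g, ⁅g, e⁆⁆ ∈ ⁅M, M⁆) {x : G} (hx : x ∈ M) :
    ⁅g, ⁅g, x⁆⁆ ∈ ⁅M, M⁆ := by
  have := c.finite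
  have := c.w_normal
  obtain ⟨j, l, z, hz, rfl⟩ := c.coords hx
  let π := QuotientGroup.mk' (⁅M, M⁆ : Subgroup G)
  have h1 : Commute (π g) (π (⁅g, e⁆ ^ l * z)) := by
    rw [map_mul, map_zpow]
    exact ((commute_mk hA).zpow_right l).mul_right (commute_mk (c.zs_comm_w g hz))
  rw [← mk_eq_one, map_commutatorElement]
  refine comm_eq_one ?_
  rw [map_commutatorElement, map_mul, comm_mul_right h1, map_zpow, comm_zpow_right]
  · rw [← map_commutatorElement]; exact (commute_mk hA).zpow_right j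
  · rw [← map_commutatorElement]; exact commute_mk (commutator_mem_commutator c.y_mem c.eM)

/-- Replace `g` by an element commuting with the commutator. -/
theorem adjust (c : Cfg p M g e) (hA : ⁅g, ⁅g, e⁆⁆ ∈ ⁅M, M⁆) :
    ∃ u : G, Cfg p M u e ∧ ⁅u, ⁅u, e⁆⁆ = 1 ∧
      zs M ⊔ zpowers ⁅u, e⁆ = zs M ⊔ zpowers ⁅g, e⁆ := by
  have := c.finite
  have := c.normal
  obtain ⟨k, hk⟩ := mem_zpowers_of_prime (p := p) c.cardW c.w_mem c.w_ne (inv_mem hA)
  have hy : ⁅e ^ k, ⁅g, e⁆⁆ = ⁅e, ⁅g, e⁆⁆ ^ k := by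
    conv_lhs => arg 2; rw [← zpow_one ⁅g, e⁆]
    rw [comm_zpow (c.comm_w c.w_mem _) (c.comm_w c.w_mem _), mul_one]
  have hu : ⁅e ^ k * g, ⁅g, e⁆⁆ = 1 := by
    rw [commutatorElement_mul_left_eq_conj_mul, hy, hk, (c.comm_w hA (e ^ k)).symm.eq, mul_inv_cancel_right,
      mul_inv_cancel]
  have hy' : ⁅e ^ k * g, e⁆ = ⁅e, ⁅g, e⁆⁆ ^ k * ⁅g, e⁆ := by
    rw [← hy, commutatorElement_mul_left_eq_conj_mul, comm_eq_one ((Commute.refl e).zpow_left k), mul_one]
    simp [commutatorElement_def, mul_assoc]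
  have hw : ⁅e, ⁅g, e⁆⁆ ^ k ∈ ⁅M, M⁆ := zpow_mem c.w_mem k
  refine ⟨e ^ k * g, ⟨c.card, c.cardM, c.cardZ, c.cardW, fun h => c.gM ((mul_mem_cancel_left
    (zpow_mem c.eM k)).1 h), c.eM, fun h => c.yZ ((mul_mem_cancel_left (c.w_le_zs hw)).1 (hy' ▸ h))⟩, ?_, ?_⟩
  · rw [hy', commutatorElement_mul_right_eq_mul_conj, hu, mul_one, mul_inv_cancel_right]
    exact comm_eq_one (c.comm_w hw _).symm
  · rw [hy']
    refine le_antisymm (sup_le le_sup_left (zpowers_le.2 (Subgroup.mul_mem _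
      (mem_sup_left (c.w_le_zs hw)) (mem_sup_right (mem_zpowers _))))) (sup_le le_sup_left (zpowers_le.2 ?_))
    have h := Subgroup.mul_mem (zs M ⊔ zpowers (⁅e, ⁅g, e⁆⁆ ^ k * ⁅g, e⁆))
      (mem_sup_left (inv_mem (c.w_le_zs hw))) (mem_sup_right (mem_zpowers _))
    rwa [inv_mul_cancel_left] at h

section
variable {u : G} (c : Cfg p M u e) (hu : ⁅u, ⁅u, e⁆⁆ = 1)
include c hu

theorem abelian_of_commute (hz : ∀ z ∈ zs M, ⁅u, z⁆ = 1) :
    ∃ A : Subgroup G, IsMulCommutative A ∧ A.index = p := by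
  have := c.finite
  let A := Subgroup.closure (({u, ⁅u, e⁆} : Set G) ∪ (zs M : Set G))
  have hA : IsMulCommutative A := by
    refine Subgroup.isMulCommutative_closure ?_
    rintro a ((rfl | rfl) | ha) b ((rfl | rfl) | hb)
    · rfl
    · exact (commute_of_comm hu).eq
    · exact (commute_of_comm (hz b hb)).eq
    · exact (commute_of_comm hu).symm.eq
    · rfl
    · exact (c.commute_zs hb c.y_mem).symm.eq
    · exact (commute_of_comm (hz a ha)).symm.eq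
    · exact (c.commute_zs ha c.y_mem).eq
    · exact (c.commute_zs ha (c.zs_le_M hb)).eq
  have huA : u ∈ A := subset_closure (Or.inl (Set.mem_insert u _))
  have hKA : zs M ⊔ zpowers ⁅u, e⁆ ≤ A := sup_le (fun z hz => subset_closure (Or.inr hz))
    (zpowers_le.2 (subset_closure (Or.inl (Set.mem_insert_of_mem u rfl))))
  obtain ⟨k, hk⟩ := IsPGroup.iff_card.1 (c.isP.to_subgroup A)
  have h1 : p ^ 3 < Nat.card A := by
    rw [← c.cardK]
    refine lt_of_le_of_ne (Subgroup.card_le_of_le hKA) fun h => c.gM ?_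
    rw [← Subgroup.eq_of_le_of_card_ge hKA h.ge] at huA
    exact sup_le c.zs_le_M (zpowers_le.2 c.y_mem) huA
  rw [hk] at h1
  have hk4 := (Nat.pow_lt_pow_iff_right hp.out.one_lt).1 h1
  obtain ⟨B, hB⟩ := Sylow.exists_subgroup_card_pow_prime (G := A) p (n := 4) (hk ▸ pow_dvd_pow p hk4)
  refine ⟨B.map A.subtype, ⟨⟨?_⟩⟩, ?_⟩
  · rintro ⟨_, a, -, rfl⟩ ⟨_, b, -, rfl⟩
    exact Subtype.ext (congrArg (fun x : A => (x : G)) (hA.is_comm.comm a b))
  · have h := (B.map A.subtype).card_mul_index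
    rw [card_map_of_injective A.subtype_injective, hB, c.card, show p ^ 5 = p ^ 4 * p by ring] at h
    exact Nat.eq_of_mul_eq_mul_left (pow_pos hp.out.pos 4) h

theorem comm_gen_y (i : ℤ) (j : ℤ) {η : G} (hη : η ∈ zs M ⊔ zpowers ⁅u, e⁆) :
    ⁅u ^ i * (e ^ j * η), ⁅u, e⁆⁆ = ⁅e, ⁅u, e⁆⁆ ^ j := by
  have := c.zs_normal
  obtain ⟨z, hz, v, ⟨l, rfl⟩, rfl⟩ := mem_sup_of_normal_left.1 hη
  rw [commutatorElement_mul_left_eq_conj_mul, comm_eq_one ((commute_of_comm hu).zpow_left i), mul_one,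
    (c.commute_zs hz (zpow_mem c.y_mem l)).eq, c.comm_coords_y j l hz,
    ((c.comm_w c.w_mem (u ^ i)).zpow_left j).symm.eq, mul_inv_cancel_right]

theorem coordsK (x : G) : ∃ i j : ℤ, ∃ η ∈ zs M ⊔ zpowers ⁅u, e⁆, x = u ^ i * (e ^ j * η) := by
  obtain ⟨i, m, hm, rfl⟩ := c.coordsG x
  obtain ⟨j, l, z, hz, rfl⟩ := c.coords hm
  exact ⟨i, j, _, mul_mem (mem_sup_right (zpow_mem_zpowers _ l)) (mem_sup_left hz), rfl⟩

theorem eq_of_comm_y {x : G} (hx : Commute x ⁅u, e⁆) : ∃ i : ℤ, ∃ η ∈ zs M ⊔ zpowers ⁅u, e⁆, x = u ^ i * η := by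
  obtain ⟨i, j, η, hη, rfl⟩ := coordsK c hu x
  have h1 := comm_eq_one hx
  rw [comm_gen_y c hu i j hη] at h1
  have hj := cast_eq_of_zpow (p := p) c.w_ne (c.w_exp c.w_mem) (i := j) (j := 0)
    (by rw [zpow_zero]; exact h1)
  rw [Int.cast_zero, ZMod.intCast_zmod_eq_zero_iff_dvd] at hj
  exact ⟨i, e ^ j * η, Subgroup.mul_mem _ (mem_sup_left (c.e_zpow hj)) hη, rfl⟩

theorem y_ne : ∀ [(zs M).Normal], QuotientGroup.mk' (zs M) ⁅u, e⁆ ≠ 1 :=
  fun h => c.yZ (mk_eq_one.1 h)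

theorem y_pow : ⁅u, e⁆ ^ p ∈ ⁅M, M⁆ := by
  have := c.w_normal
  rw [← mk_eq_one, map_pow, map_commutatorElement, ← zpow_natCast, ← comm_zpow_right, ← map_zpow,
    ← map_commutatorElement, zpow_natCast, mk_eq_one]
  · exact c.zs_comm_w u c.e_pow
  · rw [← map_commutatorElement]
    exact commute_mk (commutator_mem_commutator c.y_mem c.eM)

theorem y_zpow {l : ℤ} (h : (p : ℤ) ∣ l) : ⁅u, e⁆ ^ l ∈ ⁅M, M⁆ := by
  obtain ⟨k, rfl⟩ := h
  rw [zpow_mul, zpow_natCast]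
  exact zpow_mem (y_pow c hu) k

theorem zs_centralizer {z0 : G} (hz0 : z0 ∈ zs M) (hne : ⁅u, z0⁆ ≠ 1) {z : G} (hz : z ∈ zs M)
    (h : Commute z u) : z ∈ ⁅M, M⁆ := by
  have := c.finite
  set C := zs M ⊓ centralizer ({u} : Set G)
  have hle : ⁅M, M⁆ ≤ C := le_inf c.w_le_zs fun w hw =>
    mem_centralizer_singleton_iff.2 (c.comm_w hw u).eq
  have hlt : C < zs M := lt_of_le_of_ne inf_le_left fun hC => hne (comm_eq_one (Commute.symm
    (show Commute z0 u from mem_centralizer_singleton_iff.1 (mem_inf.1 (hC ▸ hz0)).2)))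
  obtain ⟨k, hk⟩ := IsPGroup.iff_card.1 (c.isP.to_subgroup C)
  have h2 : Nat.card C < p ^ 2 := by
    rw [← c.cardZ]
    exact lt_of_le_of_ne (Subgroup.card_le_of_le hlt.le) fun e' =>
      hlt.ne (Subgroup.eq_of_le_of_card_ge hlt.le e'.ge)
  rw [hk] at h2
  have hk2 := (Nat.pow_lt_pow_iff_right hp.out.one_lt).1 h2
  rw [Subgroup.eq_of_le_of_card_ge hle (by
    rw [hk, c.cardW]; exact (Nat.pow_le_pow_right hp.out.pos (show k ≤ 1 by omega)).trans_eq (pow_one p))]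
  exact ⟨hz, mem_centralizer_singleton_iff.2 h.eq⟩

theorem center_eq {z0 : G} (hz0 : z0 ∈ zs M) (hne : ⁅u, z0⁆ ≠ 1) : center G = ⁅M, M⁆ := by
  refine le_antisymm (fun x hx => ?_) c.w_le_center
  have hxc : ∀ b, Commute x b := fun b => (mem_center_iff.1 hx b).symm
  obtain ⟨i, η, hη, rfl⟩ := eq_of_comm_y c hu (hxc ⁅u, e⁆)
  have := c.w_normal
  have := c.zs_normal
  obtain ⟨z, hz, v, ⟨l, rfl⟩, rfl⟩ := mem_sup_of_normal_left.1 hη
  have hi : (p : ℤ) ∣ i := by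
    have h1 : QuotientGroup.mk' (zs M) ⁅u ^ i * (z * ⁅u, e⁆ ^ l), e⁆ = 1 := by
      rw [comm_eq_one (hxc e), map_one]
    rw [map_commutatorElement, map_mul, map_mul, mk_eq_one.2 hz, one_mul, map_zpow, map_zpow,
      comm_mul_left ((commute_mk (c.comm_M_zs c.y_mem c.eM)).zpow_left l), ← zpow_one (QuotientGroup.mk' (zs M) e),
      comm_zpow, mul_one, ← map_commutatorElement] at h1
    rotate_left
    · rw [← map_commutatorElement]; exact commute_mk (comm_swap_mem (c.comm_y_zs u))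
    · rw [← map_commutatorElement]; exact commute_mk (comm_swap_mem (c.comm_y_zs e))
    have h2 := cast_eq_of_zpow (p := p) (x := QuotientGroup.mk' (zs M) ⁅u, e⁆) (y_ne c hu) (by
      rw [← map_pow]; exact mk_eq_one.2 (c.w_le_zs (y_pow c hu))) (i := i) (j := 0)
      (by rw [zpow_zero]; exact h1)
    rwa [Int.cast_zero, ZMod.intCast_zmod_eq_zero_iff_dvd] at h2
  have hui : u ^ i ∈ zs M ⊔ zpowers ⁅u, e⁆ := by
    obtain ⟨k, rfl⟩ := hi
    have := c.normal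
    refine c.mem_K_of_commute ?_ ((commute_of_comm hu).zpow_left _)
    rw [zpow_mul, zpow_natCast]
    refine zpow_mem ?_ k
    have h := pow_index_mem M u
    rwa [c.index] at h
  obtain ⟨z', hz', v', ⟨l', rfl⟩, hv⟩ := mem_sup_of_normal_left.1 (Subgroup.mul_mem _ hui hη)
  simp only at hv hx
  rw [← hv] at hx ⊢
  have hl : (p : ℤ) ∣ l' := by
    have h1 := comm_eq_one (mem_center_iff.1 hx e : Commute e (z' * ⁅u, e⁆ ^ l'))
    rw [(c.commute_zs hz' (zpow_mem c.y_mem l')).eq, comm_mul_right ((c.commute_zs hz' c.eM).symm),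
      comm_zpow_right (c.comm_w c.w_mem _)] at h1
    have h2 := cast_eq_of_zpow (p := p) c.w_ne (c.w_exp c.w_mem) (i := l') (j := 0)
      (by rw [zpow_zero]; exact h1)
    rwa [Int.cast_zero, ZMod.intCast_zmod_eq_zero_iff_dvd] at h2
  exact zs_centralizer c hu hz0 hne (mul_mem hz' (c.w_le_zs (y_zpow c hu hl)))
    (mem_center_iff.1 hx u).symm

theorem commutator_le_D {x : G} (hx : x ∈ commutator G) :
    ∃ r : ℤ, ∃ w ∈ ⁅M, M⁆, x = ⁅u, e⁆ ^ r * w := by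
  have := c.w_normal
  have hyx : ∀ b : G, ⁅b, ⁅u, e⁆⁆ ∈ ⁅M, M⁆ := by
    intro b
    obtain ⟨i, j, η, hη, rfl⟩ := coordsK c hu b
    rw [comm_gen_y c hu i j hη]
    exact zpow_mem c.w_mem j
  set D := ⁅M, M⁆ ⊔ zpowers ⁅u, e⁆ with hD
  have : D.Normal := ⟨fun d hd b => by
    have h : D ≤ D.comap (MulAut.conj b).toMonoidHom := by
      refine sup_le (fun w hw => mem_sup_left ((c.w_normal).conj_mem w hw b)) (zpowers_le.2 ?_)
      show b * ⁅u, e⁆ * b⁻¹ ∈ D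
      rw [show b * ⁅u, e⁆ * b⁻¹ = ⁅b, ⁅u, e⁆⁆ * ⁅u, e⁆ by simp [commutatorElement_def, mul_assoc]]
      exact Subgroup.mul_mem _ (mem_sup_left (hyx b)) (mem_sup_right (mem_zpowers _))
    exact h hd⟩
  have hcomm : ∀ a b : G, Commute (QuotientGroup.mk' D a) (QuotientGroup.mk' D b) := by
    have hall : ∀ s : G, (Commute (QuotientGroup.mk' D s) (QuotientGroup.mk' D u)) →
        (Commute (QuotientGroup.mk' D s) (QuotientGroup.mk' D e)) →
        (∀ z ∈ zs M, Commute (QuotientGroup.mk' D s) (QuotientGroup.mk' D z)) →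
        ∀ b, Commute (QuotientGroup.mk' D s) (QuotientGroup.mk' D b) := by
      intro s h1 h2 h3 b
      obtain ⟨i, m, hm, rfl⟩ := c.coordsG b
      obtain ⟨j, l, z, hz, rfl⟩ := c.coords hm
      simp only [map_mul, map_zpow]
      refine (h1.zpow_right i).mul_right ((h2.zpow_right j).mul_right (((?_ : Commute _ _).zpow_right l).mul_right (h3 z hz)))
      rw [mk_eq_one.2 (show ⁅u, e⁆ ∈ D from mem_sup_right (mem_zpowers _))]
      exact Commute.one_right _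
    have hzc : ∀ z ∈ zs M, ∀ b, Commute (QuotientGroup.mk' D z) (QuotientGroup.mk' D b) := fun z hz =>
      hall z (commute_mk (mem_sup_left (comm_swap_mem (c.zs_comm_w u hz))))
        (commute_mk (mem_sup_left (comm_swap_mem (c.zs_comm_w e hz))))
        (fun z' hz' => commute_mk (mem_sup_left (c.zs_comm_w z hz')))
    have hec : ∀ b, Commute (QuotientGroup.mk' D e) (QuotientGroup.mk' D b) :=
      hall e (commute_mk (comm_swap_mem (mem_sup_right (mem_zpowers _)))) (Commute.refl _)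
        (fun z hz => (hzc z hz e).symm)
    have huc : ∀ b, Commute (QuotientGroup.mk' D u) (QuotientGroup.mk' D b) :=
      hall u (Commute.refl _) (hec u).symm (fun z hz => (hzc z hz u).symm)
    exact fun a => hall a (huc a).symm (hec a).symm (fun z hz => (hzc z hz a).symm)
  have hle : commutator G ≤ D := by
    rw [_root_.commutator_def, commutator_le]
    intro a _ b _
    rw [← mk_eq_one, map_commutatorElement]
    exact comm_eq_one (hcomm a b)
  obtain ⟨w, hw, v, ⟨r, rfl⟩, rfl⟩ := mem_sup_of_normal_left.1 (hle hx)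
  exact ⟨r, w, hw, (c.comm_w hw _).eq⟩

/-- The weight relation. -/
theorem rigid {z0 : G} (hz0 : z0 ∈ zs M) (hne : ⁅u, z0⁆ ≠ 1) (f : G ≃* G) :
    ∃ b ν l : ℤ, ∃ w ∈ ⁅M, M⁆, f z0 = ⁅u, e⁆ ^ l * (z0 ^ ν * w) ∧ (ν : ZMod p) = (b : ZMod p) ^ 2 ∧
      (b : ZMod p) ≠ 0 ∧ ∃ i : ℤ, ∃ η ∈ zs M ⊔ zpowers ⁅u, e⁆, f e = u ^ i * (e ^ b * η) := by
  have := c.finite
  have := c.w_normal
  have := c.zs_normal
  have hW := center_eq c hu hz0 hne
  have hfW : ∀ x, f x ∈ ⁅M, M⁆ ↔ x ∈ ⁅M, M⁆ := by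
    intro x
    rw [← hW, mem_center_iff, mem_center_iff]
    constructor
    · intro h b
      exact f.injective (by rw [map_mul, map_mul]; exact h (f b))
    · intro h b
      obtain ⟨b, rfl⟩ := f.surjective b
      rw [← map_mul, ← map_mul, h b]
  obtain ⟨r, wy, hwy, hfy⟩ := commutator_le_D c hu (show f ⁅u, e⁆ ∈ commutator G by
    rw [map_commutatorElement, _root_.commutator_def]
    exact commutator_mem_commutator (mem_top _) (mem_top _))
  have hr : (r : ZMod p) ≠ 0 := by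
    intro h
    rw [ZMod.intCast_zmod_eq_zero_iff_dvd] at h
    exact c.yZ (c.w_le_zs ((hfW _).1 (hfy ▸ mul_mem (y_zpow c hu h) hwy)))
  -- the image of `u` commutes with `⁅u, e⁆`
  have hfu1 : Commute (f u) (⁅u, e⁆ ^ r) := by
    have h : Commute (f u) (f ⁅u, e⁆) := commute_of_comm (by rw [← map_commutatorElement, hu, map_one])
    rw [hfy] at h
    have := h.mul_right (c.comm_w hwy (f u)).symm.inv_right
    rwa [mul_inv_cancel_right] at this
  have hfu2 : Commute (f u) ⁅u, e⁆ := by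
    obtain ⟨i, j, η, hη, hfu⟩ := coordsK c hu (f u)
    rw [hfu] at hfu1 ⊢
    have h1 := comm_eq_one hfu1
    rw [comm_zpow_right ?_, comm_gen_y c hu i j hη, ← zpow_mul] at h1
    swap
    · rw [comm_gen_y c hu i j hη]; exact (c.comm_w c.w_mem _).zpow_left j
    have h2 := cast_eq_of_zpow (p := p) c.w_ne (c.w_exp c.w_mem) (i := j * r) (j := 0)
      (by rw [zpow_zero]; exact h1)
    push_cast at h2
    refine commute_of_comm ?_
    rw [comm_gen_y c hu i j hη, zpow_eq_of_cast (p := p) (c.w_exp c.w_mem) (j := (0 : ℤ))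
      (by rw [Int.cast_zero]; exact (mul_eq_zero.1 h2).resolve_right hr), zpow_zero]
  obtain ⟨a, η, hη, hfu⟩ := eq_of_comm_y c hu hfu2
  obtain ⟨i, b, η', hη', hfe⟩ := coordsK c hu (f e)
  -- the image of `z0`
  let π := QuotientGroup.mk' (⁅M, M⁆ : Subgroup G)
  have hfz1 : ∀ x, ⁅x, f z0⁆ ∈ ⁅M, M⁆ := fun x => by
    obtain ⟨x, rfl⟩ := f.surjective x
    rw [← map_commutatorElement, hfW]
    exact c.zs_comm_w x hz0
  obtain ⟨i0, j0, η0, hη0, hfz⟩ := coordsK c hu (f z0)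
  have hKM : zs M ⊔ zpowers ⁅u, e⁆ ≤ M := sup_le c.zs_le_M (zpowers_le.2 c.y_mem)
  have hKe : ∀ η1 ∈ zs M ⊔ zpowers ⁅u, e⁆, Commute (π η1) (π e) := fun η1 h1 =>
    commute_mk (commutator_mem_commutator (hKM h1) c.eM)
  have hKu : ∀ η1 ∈ zs M ⊔ zpowers ⁅u, e⁆, ⁅u, η1⁆ ∈ ⁅M, M⁆ := by
    intro η1 h1
    obtain ⟨z, hz, v, ⟨l, rfl⟩, rfl⟩ := mem_sup_of_normal_left.1 h1
    rw [comm_mul_right ((commute_of_comm hu).zpow_right l)]
    exact c.zs_comm_w u hz
  have hKu' : ∀ η1 ∈ zs M ⊔ zpowers ⁅u, e⁆, Commute (π u) (π η1) := fun η1 h1 => commute_mk (hKu η1 h1)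
  have hzu : Commute (π ⁅u, e⁆) (π u) := commute_mk (comm_swap_mem (by rw [hu]; exact one_mem _))
  have hze : Commute (π ⁅u, e⁆) (π e) := commute_mk (commutator_mem_commutator c.y_mem c.eM)
  have hyp : π ⁅u, e⁆ ^ p = 1 := by rw [← map_pow]; exact mk_eq_one.2 (y_pow c hu)
  have hy1 : π ⁅u, e⁆ ≠ 1 := fun h => c.yZ (c.w_le_zs (mk_eq_one.1 h))
  have hj0 : (p : ℤ) ∣ j0 := by
    have h1 : π ⁅u, f z0⁆ = 1 := mk_eq_one.2 (hfz1 u)
    rw [hfz, map_commutatorElement, map_mul, map_mul, map_zpow, map_zpow,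
      commutatorElement_mul_right_eq_mul_conj,
      comm_eq_one ((Commute.refl (π u)).zpow_right i0), one_mul, comm_mul_right (hKu' η0 hη0),
      comm_zpow_right (by rw [← map_commutatorElement]; exact hze), ← map_commutatorElement,
      ((hzu.zpow_left j0).zpow_right i0).symm.eq, mul_inv_cancel_right] at h1
    have h2 := cast_eq_of_zpow (p := p) hy1 hyp (i := j0) (j := 0) (by rw [zpow_zero]; exact h1)
    rwa [Int.cast_zero, ZMod.intCast_zmod_eq_zero_iff_dvd] at h2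
  have hη0' : e ^ j0 * η0 ∈ zs M ⊔ zpowers ⁅u, e⁆ :=
    Subgroup.mul_mem _ (mem_sup_left (c.e_zpow hj0)) hη0
  have hi0 : (p : ℤ) ∣ i0 := by
    have h1 : π ⁅f z0, e⁆ = 1 := mk_eq_one.2 (comm_swap_mem (hfz1 e))
    rw [hfz, map_commutatorElement, map_mul, map_zpow, comm_mul_left (hKe _ hη0'),
      ← zpow_one (π e), comm_zpow, mul_one, ← map_commutatorElement] at h1
    rotate_left
    · rw [← map_commutatorElement]; exact hzu
    · rw [← map_commutatorElement]; exact hze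
    have h2 := cast_eq_of_zpow (p := p) hy1 hyp (i := i0) (j := 0) (by rw [zpow_zero]; exact h1)
    rwa [Int.cast_zero, ZMod.intCast_zmod_eq_zero_iff_dvd] at h2
  have hfzK : f z0 ∈ zs M ⊔ zpowers ⁅u, e⁆ := by
    rw [hfz]
    refine Subgroup.mul_mem _ ?_ hη0'
    obtain ⟨k, rfl⟩ := hi0
    have := c.normal
    refine c.mem_K_of_commute ?_ ((commute_of_comm hu).zpow_left _)
    rw [zpow_mul, zpow_natCast]
    refine zpow_mem ?_ k
    have h := pow_index_mem M u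
    rwa [c.index] at h
  obtain ⟨z, hz, v, ⟨l, rfl⟩, hzv⟩ := mem_sup_of_normal_left.1 hfzK
  simp only at hzv
  -- `zs M` is generated by `z0` over `⁅M, M⁆`
  have hz0W : z0 ∉ ⁅M, M⁆ := fun h => hne (comm_eq_one (c.comm_w h u).symm)
  obtain ⟨ν, hν⟩ : ∃ ν : ℤ, (z0 ^ ν)⁻¹ * z ∈ ⁅M, M⁆ := by
    obtain ⟨ν, hν⟩ := H24.exists_pow_mul_mem (p := p) (N := ⁅M, M⁆) (M := zs M) c.w_le_zs
      (by rw [c.cardW, c.cardZ, sq]) hz0 hz0W hz
    exact ⟨ν, by rwa [zpow_natCast]⟩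
  obtain ⟨wz, hwz, rfl⟩ : ∃ wz ∈ ⁅M, M⁆, z = z0 ^ ν * wz := ⟨_, hν, (mul_inv_cancel_left _ _).symm⟩
  have hfz' : f z0 = ⁅u, e⁆ ^ l * (z0 ^ ν * wz) := by
    rw [← hzv, (c.commute_zs hz (zpow_mem c.y_mem l)).eq]
  -- `f ⁅u, e⁆`
  have hab : (r : ZMod p) = (a * b : ℤ) := by
    refine cast_eq_of_zpow (p := p) hy1 hyp ?_
    have h := congrArg π hfy
    rw [map_mul, map_zpow, mk_eq_one.2 hwy, mul_one, map_commutatorElement, map_commutatorElement,
      hfu, hfe, map_mul, map_mul, map_mul, map_zpow, map_zpow, map_zpow,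
      commutatorElement_mul_right_eq_mul_conj,
      comm_mul_left (((hKu' η hη).symm).zpow_right i),
      comm_eq_one ((Commute.refl (π u)).zpow_left a |>.zpow_right i), one_mul,
      comm_eval (by rw [← map_commutatorElement]; exact hzu) (by rw [← map_commutatorElement]; exact hze)
        (hKe η hη) (hKu' η' hη') (commute_mk (commutator_mem_commutator (hKM hη) (hKM hη'))),
      ← map_commutatorElement, ((hzu.zpow_left (a * b)).zpow_right i).symm.eq, mul_inv_cancel_right] at h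
    exact h.symm
  push_cast at hab
  have hb : (b : ZMod p) ≠ 0 := fun h => hr (by rw [hab, h, mul_zero])
  -- `f ⁅u, z0⁆`
  have hw1 : ⁅u, z0⁆ ∈ ⁅M, M⁆ := c.zs_comm_w u hz0
  have hf1 : f ⁅u, z0⁆ = ⁅u, z0⁆ ^ (a * ν) := by
    rw [map_commutatorElement, hfu, hfz', commutatorElement_mul_right_eq_mul_conj,
      comm_eq_one, one_mul, comm_eval (c.comm_w hw1 u) (c.comm_w hw1 z0)
        ((c.commute_zs hz0 (hKM hη)).symm) (c.comm_w hwz u).symm (c.comm_w hwz η).symm,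
      ((c.comm_w hw1 _).zpow_left (a * ν)).symm.eq, mul_inv_cancel_right]
    refine ((commute_of_comm hu).zpow_zpow a l).mul_left ?_
    obtain ⟨z', hz', v', ⟨l', rfl⟩, rfl⟩ := mem_sup_of_normal_left.1 hη
    exact ((c.commute_zs hz' c.y_mem).mul_left ((Commute.refl _).zpow_left l')).zpow_right l
  -- `f ⁅e, ⁅u, e⁆⁆`
  have hw2 := c.w_mem
  have hf2 : f ⁅e, ⁅u, e⁆⁆ = ⁅e, ⁅u, e⁆⁆ ^ (b * r) := by
    rw [map_commutatorElement, hfy, comm_mul_right (c.comm_w hwy _).symm, hfe, comm_zpow_right ?_,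
      comm_gen_y c hu i b hη', ← zpow_mul]
    rw [comm_gen_y c hu i b hη']
    exact (c.comm_w hw2 _).zpow_left b
  obtain ⟨m, hm⟩ := mem_zpowers_of_prime (p := p) c.cardW hw1 hne hw2
  have h3 : ⁅e, ⁅u, e⁆⁆ ^ (a * ν) = ⁅e, ⁅u, e⁆⁆ ^ (b * r) := by
    rw [← hf2, ← hm, map_zpow, hf1, ← zpow_mul, ← zpow_mul, mul_comm]
  have h4 := cast_eq_of_zpow (p := p) c.w_ne (c.w_exp hw2) h3
  push_cast at h4
  rw [hab] at h4
  have ha : (a : ZMod p) ≠ 0 := fun h => hr (by rw [hab, h, zero_mul])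
  exact ⟨b, ν, l, wz, hwz, hfz', mul_left_cancel₀ ha (by rw [h4]; ring), hb, i, η', hη', hfe⟩

/-- An automorphism fixing `zs M` modulo `⁅M, M⁆` moves `e` to its `± 1` power. -/
theorem sq_eq_one {z0 : G} (hz0 : z0 ∈ zs M) (hne : ⁅u, z0⁆ ≠ 1) (f : G ≃* G) {μ : ℤ}
    (he : (e ^ μ)⁻¹ * f e ∈ zs M ⊔ zpowers ⁅u, e⁆) (hz : z0⁻¹ * f z0 ∈ ⁅M, M⁆) : (μ : ZMod p) ^ 2 = 1 := by
  have := c.finite
  have := c.w_normal
  have := c.zs_normal
  obtain ⟨b, ν, l, w, hw, hfz, hνb, -, i, η, hη, hfe⟩ := rigid c hu hz0 hne f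
  have hbμ : (b : ZMod p) = μ := by
    refine cast_eq_of_zpow (p := p) c.w_ne (c.w_exp c.w_mem) ?_
    have h1 := comm_gen_y c hu i b hη
    obtain ⟨z, hz', v, ⟨q, rfl⟩, hzv⟩ := mem_sup_of_normal_left.1 he
    simp only at hzv
    rw [← hfe, show f e = e ^ μ * (⁅u, e⁆ ^ q * z) by
        rw [← (c.commute_zs hz' (zpow_mem c.y_mem q)).eq, hzv, mul_inv_cancel_left],
      c.comm_coords_y μ q hz'] at h1
    exact h1.symm
  have hz0W : z0 ∉ ⁅M, M⁆ := fun h => hne (comm_eq_one (c.comm_w h u).symm)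
  let π := QuotientGroup.mk' (⁅M, M⁆ : Subgroup G)
  have h2 : π z0 = π ⁅u, e⁆ ^ l * π z0 ^ ν := by
    have h := hfz
    rw [show f z0 = z0 * (z0⁻¹ * f z0) by simp] at h
    have h' := congrArg π h
    rwa [map_mul, mk_eq_one.2 hz, mul_one, map_mul, map_mul, map_zpow, map_zpow, mk_eq_one.2 hw,
      mul_one] at h'
  have hl : (p : ℤ) ∣ l := by
    have := c.zs_normal
    have h : ⁅u, e⁆ ^ l ∈ zs M := by
      have h3 : π (⁅u, e⁆ ^ l * (z0 ^ ν * z0⁻¹)) = 1 := by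
        rw [map_mul, map_mul, map_zpow, map_zpow, map_inv, ← mul_assoc, ← h2, mul_inv_cancel]
      exact (mul_mem_cancel_right (mul_mem (zpow_mem hz0 ν) (inv_mem hz0))).1
        (c.w_le_zs (mk_eq_one.1 h3))
    have h4 := cast_eq_of_zpow (p := p) (x := QuotientGroup.mk' (zs M) ⁅u, e⁆) (y_ne c hu) (by
      rw [← map_pow]; exact mk_eq_one.2 (c.w_le_zs (y_pow c hu))) (i := l) (j := 0)
      (by rw [zpow_zero, ← map_zpow]; exact mk_eq_one.2 h)
    rwa [Int.cast_zero, ZMod.intCast_zmod_eq_zero_iff_dvd] at h4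
  have hν1 : ((1 : ℤ) : ZMod p) = ν := by
    refine cast_eq_of_zpow (p := p) (x := π z0) (fun h => hz0W (mk_eq_one.1 h))
      (by rw [← map_pow]; exact mk_eq_one.2 (c.zs_pow_w hz0)) ?_
    rw [zpow_one]
    conv_lhs => rw [h2]
    rw [← map_zpow π ⁅u, e⁆, mk_eq_one.2 (y_zpow c hu hl), one_mul]
  rw [← hbμ, ← hνb, ← hν1, Int.cast_one]

/-- For `p = 3` every automorphism fixes `z0` modulo the derived group. -/
theorem fixed_three (hp3 : p = 3) {z0 : G} (hz0 : z0 ∈ zs M) (hne : ⁅u, z0⁆ ≠ 1) :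
    z0 ∉ commutator G ∧ ∀ f : G ≃* G, z0⁻¹ * f z0 ∈ commutator G := by
  have := c.w_normal
  refine ⟨fun h => ?_, fun f => ?_⟩
  · obtain ⟨r, w, hw, he⟩ := commutator_le_D c hu h
    exact hne (comm_eq_one (he ▸ ((commute_of_comm hu).zpow_right r).mul_right (c.comm_w hw u).symm))
  obtain ⟨b, ν, l, w, hw, hfz, hνb, hb, -⟩ := rigid c hu hz0 hne f
  have hy : ⁅u, e⁆ ∈ commutator G := by
    rw [_root_.commutator_def]; exact commutator_mem_commutator (mem_top _) (mem_top _)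
  have hWD : ⁅M, M⁆ ≤ commutator G := by
    rw [_root_.commutator_def]; exact commutator_mono le_top le_top
  have hν : (p : ℤ) ∣ ν - 1 := by
    subst hp3
    have h : (b : ZMod 3) ^ 2 = 1 := ZMod.pow_card_sub_one_eq_one hb
    rw [h] at hνb
    rw [← ZMod.intCast_zmod_eq_zero_iff_dvd]
    push_cast
    rw [hνb, sub_self]
  have : (commutator G).Normal := inferInstance
  rw [← mk_eq_one, map_mul, map_inv, hfz, map_mul, map_mul, mk_eq_one.2 (zpow_mem hy l),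
    mk_eq_one.2 (hWD hw), one_mul, mul_one, inv_mul_eq_one]
  obtain ⟨k, hk⟩ := hν
  have hpk : z0 ^ ((p : ℤ) * k) ∈ commutator G := by
    rw [zpow_mul, zpow_natCast]; exact zpow_mem (hWD (c.zs_pow_w hz0)) k
  rw [show ν = 1 + p * k by omega, zpow_add, zpow_one, map_mul, mk_eq_one.2 hpk, mul_one]

end

end Cfg

end Cfsg.Agent.H24.OrderFive
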