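import Cfsg.Agent.H24.OrderFive.Top
import Cfsg.Agent.H24.OrderFive.Four
import Cfsg.Agent.H24.OrderFive.Rigid
import Cfsg.Agent.H29.EssentialChain

/-!
An essential subgroup of order `p ^ 4` in a group of order `p ^ 5` without abelian subgroup of index `p`.
-/

set_option autoImplicit false

namespace Cfsg.Agent.H24.OrderFive

open Subgroup Cfsg.FusionSystem
open Agent.H93
open scoped commutatorElement

variable {Ω : Type*} [Group Ω] {S : Subgroup Ω} [Finite S] {p : ℕ} [hp : Fact p.Prime] {F : FusionSystem S}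

/-- The restriction of an action to an invariant subgroup. -/
def restrictAut {V A : Type*} [Group V] [Group A] (φ : A →* MulAut V) (N : Subgroup V)
    (h : ∀ a, ∀ x ∈ N, φ a x ∈ N) : A →* MulAut N :=
  MonoidHom.mk' (fun a => MonoidHom.toMulEquiv
      (((φ a).toMonoidHom.comp N.subtype).codRestrict N fun x => h a x x.2)
      (((φ a⁻¹).toMonoidHom.comp N.subtype).codRestrict N fun x => h a⁻¹ x x.2)
      (MonoidHom.ext fun x => Subtype.ext (by simp))
      (MonoidHom.ext fun x => Subtype.ext (by simp)))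
    fun a b => MulEquiv.ext fun x => Subtype.ext (by simp)

@[simp] theorem restrictAut_apply {V A : Type*} [Group V] [Group A] (φ : A →* MulAut V) (N : Subgroup V)
    (h : ∀ a, ∀ x ∈ N, φ a x ∈ N) (a : A) (x : N) : ((restrictAut φ N h a x : N) : V) = φ a x := rfl

omit hp in
/-- A normal subgroup of index `p`. -/
theorem normalizerIn_eq (hS : IsPGroup p S) {E : Subgroup Ω} (hES : E ≤ S) [Fact p.Prime] {n : ℕ}
    (hcard : Nat.card S = p ^ (n + 1)) (hE : Nat.card E = p ^ n) : normalizerIn S E = S := by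
  have := finite_of_le (normalizerIn_le S E)
  have hlt : E < S := lt_of_le_of_ne hES fun h => by
    rw [h, hcard] at hE
    exact absurd (Nat.pow_right_injective (Fact.out : p.Prime).two_le hE) (by omega)
  refine Subgroup.eq_of_le_of_card_ge (normalizerIn_le S E) ?_
  obtain ⟨k, hk⟩ := IsPGroup.iff_card.1 (isPGroup_of_le hS (normalizerIn_le S E))
  have h1 : p ^ n < p ^ k := by
    rw [← hE, ← hk]
    exact lt_of_le_of_ne (Subgroup.card_le_of_le (le_normalizerIn hES)) fun e =>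
      (lt_normalizerIn hS hlt).ne (Subgroup.eq_of_le_of_card_ge (le_normalizerIn hES) e.ge)
  rw [hcard, hk]
  exact Nat.pow_le_pow_right (Fact.out : p.Prime).pos
    ((Nat.pow_lt_pow_iff_right (Fact.out : p.Prime).one_lt).1 h1)

/-- The configuration and the tori of an essential subgroup of index `p`. -/
theorem four_cfg (hS : IsPGroup p S) (hF : F.IsSaturated p) (hp2 : p ≠ 2) (hcard : Nat.card S = p ^ 5)
    (hnab : ∀ A : Subgroup S, IsMulCommutative A → A.index ≠ p) {E : Subgroup Ω} (hE : F.IsEssential p E)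
    (hE4 : Nat.card E = p ^ 4) :
    ∃ g e : S, Cfg p (E.subgroupOf S) g e ∧
      ⁅g, ⁅g, e⁆⁆ ∈ ⁅E.subgroupOf S, E.subgroupOf S⁆ ∧
      ∀ l k : ℤ, (p : ℤ) ∣ l * k - 1 → ∃ f ∈ F.autGroup S,
        (e ^ k)⁻¹ * f e ∈ zs (E.subgroupOf S) ⊔ zpowers ⁅g, e⁆ ∧
        (∀ z ∈ zs (E.subgroupOf S), z⁻¹ * f z ∈ ⁅E.subgroupOf S, E.subgroupOf S⁆) ∧
        (g ^ (l * l))⁻¹ * f g ∈ E.subgroupOf S := by
  classical
  have hES : E ≤ S := hE.2.1.1
  have := finite_of_le hES
  have := finite_mulAut hES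
  have hN := normalizerIn_eq (n := 4) hS hES hcard hE4
  have hMcard : Nat.card (E.subgroupOf S) = p ^ 4 := by
    rw [Nat.card_congr (subgroupOfEquivOfLe hES).toEquiv, hE4]
  set M := E.subgroupOf S with hM
  have hMidx : M.index = p := by
    have h := M.card_mul_index
    rw [hMcard, hcard, show p ^ 5 = p ^ 4 * p by ring] at h
    exact Nat.eq_of_mul_eq_mul_left (pow_pos hp.out.pos 4) h
  have hna : ¬ IsMulCommutative E := fun h => hnab M
    ⟨⟨fun a b => Subtype.ext (Subtype.ext (congrArg (fun y : E => (y : Ω))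
      (h.is_comm.comm ⟨((a : S) : Ω), a.2⟩ ⟨((b : S) : Ω), b.2⟩)))⟩⟩ hMidx
  obtain ⟨hZ, hW⟩ := four_data (U := E) hE4 hna fun W h0 h4 hinv hstep =>
    H29.not_isEssential_of_chain hS F E 4 W h0 h4 hinv hstep hE
  -- the chain below the centre
  have hcomm : ∀ a b : E, ⁅a, b⁆ ∈ center E := by
    intro a b
    have hQ : Nat.card (E ⧸ center E) = p ^ 2 := by
      have h := Subgroup.card_eq_card_quotient_mul_card_subgroup (center E)
      rw [hE4, hZ, show p ^ 4 = p ^ 2 * p ^ 2 by ring] at h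
      exact (Nat.eq_of_mul_eq_mul_right (pow_pos hp.out.pos 2) h).symm
    rw [← QuotientGroup.eq_one_iff]
    show QuotientGroup.mk' (center E) ⁅a, b⁆ = 1
    rw [map_commutatorElement, commutatorElement_eq_one_iff_mul_comm]
    exact (IsPGroup.isMulCommutative_of_card_eq_prime_sq hQ).is_comm.comm _ _
  have hWZ : commutator E ≤ center E := by
    rw [_root_.commutator_def, commutator_le]; exact fun a _ b _ => hcomm a b
  have invZ : ∀ α ∈ F.autGroup E, ∀ x ∈ center E, α x ∈ center E := fun α _ x hx =>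
    mem_center_iff.2 fun y => by
      obtain ⟨y, rfl⟩ := α.surjective y
      rw [← map_mul, ← map_mul, mem_center_iff.1 hx y]
  have invW : ∀ α ∈ F.autGroup E, ∀ x ∈ commutator E, α x ∈ commutator E := fun α _ x hx => by
    have h : (commutator E).map (α : E →* E) = commutator E := by
      rw [_root_.commutator_def, map_commutator, Subgroup.map_top_of_surjective _ α.surjective]
    exact h ▸ mem_map_of_mem _ hx
  have hfixW : ∀ α : MulAut E, (∀ x : E, x⁻¹ * α x ∈ center E) → ∀ x ∈ commutator E, α x = x := by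
    intro α h x hx
    rw [_root_.commutator_def] at hx
    refine (commutator_le (H₃ := MonoidHom.eqLocus α.toMonoidHom (MonoidHom.id E))).2 (fun a _ b _ => ?_) hx
    show α ⁅a, b⁆ = ⁅a, b⁆
    obtain ⟨za, hza, ea⟩ : ∃ z ∈ center E, α a = a * z := ⟨_, h a, (mul_inv_cancel_left _ _).symm⟩
    obtain ⟨zb, hzb, eb⟩ : ∃ z ∈ center E, α b = b * z := ⟨_, h b, (mul_inv_cancel_left _ _).symm⟩
    rw [map_commutatorElement, ea, eb, comm_mul_left (show Commute za (b * zb) from (mem_center_iff.1 hza _).symm),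
      comm_mul_right (show Commute a zb from mem_center_iff.1 hzb a)]
  let W : ℕ → Subgroup E := fun i =>
    if i = 0 then ⊥ else if i = 1 then commutator E else if i = 2 then center E else ⊤
  have hWinv : ∀ α ∈ F.autGroup E, ∀ i ≤ 3, ∀ x ∈ W i, α x ∈ W i := by
    intro α hα i hi x hx
    rcases (show i = 0 ∨ i = 1 ∨ i = 2 ∨ i = 3 by omega) with rfl | rfl | rfl | rfl <;> simp [W] at hx ⊢
    · exact hx
    · exact invW α hα x hx
    · exact invZ α hα x hx
  have hchain : ∀ a ∈ F.autGroup E, (∀ x, x⁻¹ * a x ∈ center E) →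
      (∀ x ∈ center E, x⁻¹ * a x ∈ commutator E) → a ∈ Inn E := by
    intro a ha h1 h2
    refine mem_inn_of_chain hS hE 3 W (by simp [W]) (by simp [W]) hWinv ha fun i hi x hx => ?_
    rcases (show i = 0 ∨ i = 1 ∨ i = 2 by omega) with rfl | rfl | rfl <;> simp [W] at hx ⊢
    · exact ⟨by rw [hfixW a h1 x hx, inv_mul_cancel], invW a ha x hx⟩
    · exact ⟨h2 x hx, invZ a ha x hx⟩
    · exact h1 x
  -- the element outside `E`
  obtain ⟨g, -, hgM⟩ : ∃ g ∈ (⊤ : Subgroup S), g ∉ M := SetLike.exists_of_lt (lt_top_iff_ne_top.2 fun h => by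
    rw [h, index_top] at hMidx; exact hp.out.ne_one hMidx.symm)
  have hgN : (g : Ω) ∈ normalizerIn S E := by rw [hN]; exact g.2
  have hgE : (g : Ω) ∉ E := hgM
  -- conjugation on `E` and commutators in `S`
  let τ : F.autGroup E := nAut F hES ⟨g, hgN⟩
  let j : E →* S := Subgroup.inclusion hES
  have hjM : ∀ x : E, j x ∈ M := fun x => x.2
  have hjZ : ∀ {x : E}, j x ∈ zs M ↔ x ∈ center E := fun {x} => mem_zs_center hES x
  have hjW : ∀ {x : E}, j x ∈ ⁅M, M⁆ ↔ x ∈ commutator E := fun {x} => mem_comm_iff hES x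
  have hjτ : ∀ x : E, j ((τ : MulAut E) x * x⁻¹) = ⁅g, j x⁆ := fun x => Subtype.ext rfl
  have hMn : M.Normal := normal_of_index_eq_minFac_card (by
    rw [hMidx, hcard, Nat.pow_minFac (by norm_num), hp.out.minFac_eq])
  obtain ⟨e₀, he₀⟩ : ∃ e : E, ⁅g, j e⁆ ∉ zs M := by
    by_contra! h
    apply hgE
    have hτ1 : ∀ x, x⁻¹ * (τ : MulAut E) x ∈ center E := fun x => by
      have h1 : (τ : MulAut E) x * x⁻¹ ∈ center E := hjZ.1 (by rw [hjτ]; exact h x)
      rw [show x⁻¹ * (τ : MulAut E) x = x⁻¹ * ((τ : MulAut E) x * x⁻¹) * x by simp [mul_assoc],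
        ← mem_center_iff.1 h1 x⁻¹ |>.symm]
      simpa [mul_assoc] using h1
    have hmem : (τ : MulAut E) ∈ Inn E := by
      refine hchain _ τ.2 hτ1 fun x hx => ?_
      have hWn : (⁅M, M⁆ : Subgroup S).Normal := inferInstance
      have hZn : (zs M).Normal := by unfold zs; infer_instance
      have hle : ⁅M, M⁆ ≤ zs M := by
        rw [commutator_le]
        intro a ha b hb
        exact hjZ.2 (hcomm ⟨a, ha⟩ ⟨b, hb⟩)
      have h2 := H24.comm_mem_of_relIndex_prime hS (M := ⊤) hle le_top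
        (by rw [normalizer_eq_top]) (by rw [normalizer_eq_top]) ?_ (mem_top g) (hjZ.2 hx)
      · have h3 : (τ : MulAut E) x * x⁻¹ ∈ commutator E := hjW.1 (by rw [hjτ]; exact h2)
        rwa [show x⁻¹ * (τ : MulAut E) x = (τ : MulAut E) x * x⁻¹ by
          rw [← mem_center_iff.1 (inv_mem hx) ((τ : MulAut E) x)]]
      · have h3 := card_mul_relIndex hle
        rw [hM, card_zs hES, hZ, show Nat.card (⁅E.subgroupOf S, E.subgroupOf S⁆ : Subgroup S) = p by
          rw [← card_map_of_injective S.subtype_injective, comm_map hES,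
            card_map_of_injective E.subtype_injective, hW], sq] at h3
        exact Nat.eq_of_mul_eq_mul_left hp.out.pos h3
    obtain ⟨u, hu⟩ : ∃ u : E, MulAut.conj u = (τ : MulAut E) := hmem
    have h1 : (u : Ω)⁻¹ * g ∈ centralizerIn S E := by
      refine mem_centralizerIn.2 ⟨mul_mem (inv_mem (hES u.2)) g.2, fun x hx => ?_⟩
      have e : (u : Ω) * x * (u : Ω)⁻¹ = (g : Ω) * x * (g : Ω)⁻¹ := by
        have h2 := congrArg (fun f : MulAut E => ((f ⟨x, hx⟩ : E) : Ω)) hu
        simp only [τ, nAut_apply, MulAut.conj_apply, Subgroup.coe_mul, InvMemClass.coe_inv] at h2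
        exact h2
      calc (u : Ω)⁻¹ * g * x * ((u : Ω)⁻¹ * g)⁻¹ = (u : Ω)⁻¹ * (g * x * (g : Ω)⁻¹) * u := by simp [mul_assoc]
        _ = x := by rw [← e]; simp [mul_assoc]
    simpa using E.mul_mem u.2 (hE.1.2 E (isConj_refl F hES) h1)
  set e : S := j e₀ with he
  have cfg : Cfg p M g e := ⟨hcard, hMcard, by rw [hM, card_zs hES, hZ], by
    rw [hM, ← card_map_of_injective S.subtype_injective, comm_map hES,
      card_map_of_injective E.subtype_injective, hW], hgM, hjM e₀, he₀⟩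
  have := cfg.zs_normal
  have := cfg.w_normal
  -- the module
  have hQ2 : Nat.card (E ⧸ center E) = p ^ 2 := by
    have h := Subgroup.card_eq_card_quotient_mul_card_subgroup (center E)
    rw [hE4, hZ, show p ^ 4 = p ^ 2 * p ^ 2 by ring] at h
    exact (Nat.eq_of_mul_eq_mul_right (pow_pos hp.out.pos 2) h).symm
  let V2 := (center E).map (QuotientGroup.mk' (commutator E))
  have hV2 : ∀ a : F.autGroup E, ∀ x ∈ V2,
      quotAut (commutator E) (F.autGroup E) invW a x ∈ V2 := by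
    rintro a _ ⟨x, hx, rfl⟩
    exact ⟨_, invZ _ a.2 x hx, rfl⟩
  letI : CommGroup (E ⧸ center E) := { (inferInstance : Group (E ⧸ center E)) with
    mul_comm := (IsPGroup.isMulCommutative_of_card_eq_prime_sq hQ2).is_comm.comm }
  letI : CommGroup V2 := { (inferInstance : Group V2) with
    mul_comm := fun a b => Subtype.ext (by
      obtain ⟨x, hx, hxa⟩ := a.2
      obtain ⟨y, -, hyb⟩ := b.2
      show (a : E ⧸ commutator E) * b = b * a
      rw [← hxa, ← hyb, ← map_mul, ← map_mul, mem_center_iff.1 hx y]) }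
  let ρ : F.autGroup E →* MulAut ((E ⧸ center E) × V2) :=
    MonoidHom.mk' (fun a => MulEquiv.prodCongr (quotAut (center E) (F.autGroup E) invZ a)
      (restrictAut (quotAut (commutator E) (F.autGroup E) invW) V2 hV2 a))
      fun a b => MulEquiv.ext fun x => by
        show ((_ : E ⧸ center E), (_ : V2)) = _
        simp only [map_mul, MulAut.mul_apply]
        rfl
  have hρ1 : ∀ (a : F.autGroup E) (m : (E ⧸ center E) × V2),
      (ρ a m).1 = quotAut (center E) (F.autGroup E) invZ a m.1 := fun _ _ => rfl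
  have hρ2 : ∀ (a : F.autGroup E) (m : (E ⧸ center E) × V2),
      ((ρ a m).2 : E ⧸ commutator E) = quotAut (commutator E) (F.autGroup E) invW a m.2 := fun _ _ => rfl
  have hxp : ∀ x : E, x ^ p ∈ center E := by
    intro x
    rw [← QuotientGroup.eq_one_iff]
    have hj : j x ^ p ∈ zs M := by
      have := cfg.finite
      obtain ⟨a, l, z, hz, hx'⟩ := cfg.coords (hjM x)
      have hy : ⁅g, e⁆ ^ p ∈ zs M := by
        have h := pow_index_mem ((zs M).subgroupOf (zs M ⊔ zpowers ⁅g, e⁆))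
          (⟨_, mem_sup_right (mem_zpowers ⁅g, e⁆)⟩ : ↥(zs M ⊔ zpowers ⁅g, e⁆))
        have hidx : ((zs M).subgroupOf (zs M ⊔ zpowers ⁅g, e⁆)).index = p := by
          have h := card_mul_relIndex (le_sup_left : zs M ≤ zs M ⊔ zpowers ⁅g, e⁆)
          rw [cfg.cardZ, cfg.cardK, show p ^ 3 = p ^ 2 * p by ring] at h
          exact Nat.eq_of_mul_eq_mul_left (pow_pos hp.out.pos 2) h
        rw [hidx, mem_subgroupOf] at h
        simpa using h
      rw [← mk_eq_one, map_pow, hx', map_mul, map_mul, map_zpow, map_zpow, mk_eq_one.2 hz, mul_one,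
        (((commute_mk (cfg.comm_M_zs cfg.eM cfg.y_mem)).zpow_left a).zpow_right l).mul_pow,
        ← map_zpow, ← map_pow, ← zpow_natCast (e ^ a), ← zpow_mul, mk_eq_one.2 (cfg.e_zpow (dvd_mul_left _ _)),
        one_mul, ← zpow_natCast, ← zpow_mul, mul_comm, zpow_mul, zpow_natCast, ← map_pow, mk_eq_one.2 hy,
        one_zpow]
    exact (QuotientGroup.eq_one_iff _).2 (hjZ.1 (by rwa [map_pow]))
  have hexp : ∀ m : (E ⧸ center E) × V2, m ^ p = 1 := by
    rintro ⟨a, b⟩
    refine Prod.ext ?_ (Subtype.ext ?_)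
    · show a ^ p = 1
      induction a using QuotientGroup.induction_on with | H a => ?_
      rw [← QuotientGroup.mk_pow]
      exact (QuotientGroup.eq_one_iff _).2 (hxp a)
    · show ((b : E ⧸ commutator E)) ^ p = 1
      obtain ⟨x, hx, hxb⟩ := b.2
      rw [← hxb, ← map_pow]
      exact (QuotientGroup.eq_one_iff _).2 (hjW.1 (by rw [map_pow]; exact cfg.zs_pow_w (hjZ.2 hx)))
  have hker : ∀ a, ρ a = 1 → (a : MulAut E) ∈ Inn E := by
    intro a ha
    refine hchain _ a.2 (fun x => ?_) fun x hx => ?_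
    · have h := congrArg Prod.fst (DFunLike.congr_fun ha ((x : E ⧸ center E), 1))
      rw [hρ1, MulAut.one_apply] at h
      exact (QuotientGroup.eq).1 h.symm
    · have h := congrArg (fun m : (E ⧸ center E) × V2 => (m.2 : E ⧸ commutator E))
        (DFunLike.congr_fun ha (1, ⟨_, x, hx, rfl⟩))
      simp only [hρ2, MulAut.one_apply] at h
      exact (QuotientGroup.eq).1 h.symm
  have hinn : ∀ a : F.autGroup E, (a : MulAut E) ∈ Inn E → ρ a = 1 := by
    intro a ha
    obtain ⟨u, hu⟩ : ∃ u : E, MulAut.conj u = (a : MulAut E) := ha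
    refine MulEquiv.ext fun m => Prod.ext ?_ (Subtype.ext ?_)
    · rw [hρ1, MulAut.one_apply]
      obtain ⟨x, hx⟩ := QuotientGroup.mk'_surjective (center E) m.1
      rw [← hx, QuotientGroup.mk'_apply, quotAut_mk, ← hu, MulAut.conj_apply, QuotientGroup.mk_mul,
        QuotientGroup.mk_mul, QuotientGroup.mk_inv, mul_comm (u : E ⧸ center E), mul_inv_cancel_right]
    · rw [hρ2, MulAut.one_apply]
      obtain ⟨x, hx, hxb⟩ := m.2.2
      rw [← hxb, QuotientGroup.mk'_apply, quotAut_mk, ← hu, MulAut.conj_apply, mem_center_iff.1 hx u,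
        mul_inv_cancel_right]
  -- the transvection
  have hy : ⁅g, e⁆ ∈ M := cfg.y_mem
  let y₀ : E := ⟨((⁅g, e⁆ : S) : Ω), hy⟩
  have hjy : j y₀ = ⁅g, e⁆ := rfl
  have hcoord : ∀ x : E, ∃ a : ℤ, (x⁻¹ * (τ : MulAut E) x) * (y₀ ^ a)⁻¹ ∈ center E ∧
      (e ^ a)⁻¹ * j x ∈ zs M ⊔ zpowers ⁅g, e⁆ := by
    intro x
    have := cfg.k_normal
    obtain ⟨a, l, z, hz, hx⟩ := cfg.coords (hjM x)
    refine ⟨a, ?_, ?_⟩
    · rw [← hjZ, map_mul, map_inv, map_zpow, hjy, show x⁻¹ * (τ : MulAut E) x = x⁻¹ * ((τ : MulAut E) x * x⁻¹) * x by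
          simp [mul_assoc], map_mul, map_mul, map_inv, hjτ, ← mk_eq_one, map_mul, map_mul, map_mul, map_inv,
          map_inv, map_zpow]
      have h1 : Commute (QuotientGroup.mk' (zs M) g) (QuotientGroup.mk' (zs M) (⁅g, e⁆ ^ l * z)) := by
        rw [map_mul, map_zpow, mk_eq_one.2 hz, mul_one]
        exact (commute_mk (cfg.comm_y_zs g)).zpow_right l
      have h2 : QuotientGroup.mk' (zs M) ⁅g, j x⁆ = QuotientGroup.mk' (zs M) ⁅g, e⁆ ^ a := by
        rw [hx, map_commutatorElement, map_mul, comm_mul_right h1, map_zpow, comm_zpow_right,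
          map_commutatorElement]
        rw [← map_commutatorElement]
        exact commute_mk (cfg.comm_M_zs cfg.y_mem cfg.eM)
      rw [h2, ((commute_mk (cfg.comm_M_zs (hjM x) cfg.y_mem)).zpow_right a).inv_left.eq, mul_assoc _ _ (QuotientGroup.mk' (zs M) (j x)),
        inv_mul_cancel, mul_one, mul_inv_cancel]
    · rw [hx, inv_mul_cancel_left]
      exact mul_mem (mem_sup_right (zpow_mem_zpowers _ l)) (mem_sup_left hz)
  have move : ∀ m, ∃ i : ℤ, ρ τ m = m * (((y₀ : E ⧸ center E), 1) : (E ⧸ center E) × V2) ^ i := by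
    intro m
    obtain ⟨x, hx⟩ := QuotientGroup.mk'_surjective (center E) m.1
    obtain ⟨a, ha, -⟩ := hcoord x
    refine ⟨a, Prod.ext ?_ (Subtype.ext ?_)⟩
    · rw [hρ1, ← hx, QuotientGroup.mk'_apply, quotAut_mk, Prod.fst_mul, Prod.pow_fst, ← hx,
        QuotientGroup.mk'_apply, ← QuotientGroup.mk_zpow]
      show ((τ : MulAut E) x : E ⧸ center E) = _
      have h := (QuotientGroup.eq_one_iff _).2 ha
      rw [QuotientGroup.mk_mul, QuotientGroup.mk_mul, QuotientGroup.mk_inv, QuotientGroup.mk_inv,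
        mul_inv_eq_one, inv_mul_eq_iff_eq_mul] at h
      exact h
    · obtain ⟨x', hx', hxb⟩ := m.2.2
      rw [hρ2, Prod.snd_mul, Prod.pow_snd, one_zpow, mul_one, ← hxb, QuotientGroup.mk'_apply, quotAut_mk]
      refine (QuotientGroup.eq.2 ?_).symm
      rw [← hjW, map_mul, map_inv]
      have h2 : ⁅g, j x'⁆ ∈ ⁅M, M⁆ := cfg.zs_comm_w g (hjZ.2 hx')
      have h3 : j ((τ : MulAut E) x') = ⁅g, j x'⁆ * j x' := by
        rw [← hjτ, map_mul, map_inv, inv_mul_cancel_right]
      rw [h3, (cfg.comm_w h2 (j x')).eq, inv_mul_cancel_left]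
      exact h2
  have fix : ∀ n, ρ (nAut F hES n) ((y₀ : E ⧸ center E), 1) = ((y₀ : E ⧸ center E), 1) := by
    intro n
    refine Prod.ext ?_ (Subtype.ext ?_)
    · rw [hρ1, quotAut_mk]
      refine (QuotientGroup.eq.2 ?_).symm
      rw [← hjZ, map_mul, map_inv, hjy]
      have h3 : j (((nAut F hES n : F.autGroup E) : MulAut E) y₀) =
          ⁅(⟨n, n.2.1⟩ : S), ⁅g, e⁆⁆ * ⁅g, e⁆ := Subtype.ext (by
        simp only [commutatorElement_def, Subgroup.coe_mul, InvMemClass.coe_inv]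
        rw [inv_mul_cancel_right]
        rfl)
      rw [h3, ← mul_assoc]
      simpa using (inferInstance : (zs M).Normal).conj_mem _ (cfg.comm_y_zs ⟨n, n.2.1⟩) ⁅g, e⁆⁻¹
    · rw [hρ2]
      show quotAut (commutator E) (F.autGroup E) invW _ 1 = 1
      exact map_one _
  obtain ⟨-, htor⟩ := essential_torus hS hF hE hES hexp ρ hker hinn ⟨g, hgN⟩ hgE
    (z := (((y₀ : E ⧸ center E), 1) : (E ⧸ center E) × V2)) move fix
  have main : ∀ l k : ℤ, (p : ℤ) ∣ l * k - 1 → ∃ f ∈ F.autGroup S,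
      (e ^ k)⁻¹ * f e ∈ zs M ⊔ zpowers ⁅g, e⁆ ∧
      (∀ z ∈ zs M, z⁻¹ * f z ∈ ⁅M, M⁆) ∧ (g ^ (l * l))⁻¹ * f g ∈ M := by
    intro l k hlk
    obtain ⟨α, -, hαfix, hαk, φ, hφ, hφα, hφt⟩ := htor l k hlk
    obtain ⟨f, hf, hfv⟩ := extend_to_top hS hF hφ fun R hR => by
      have := finite_of_le hR.2.1.1
      rw [hN]
      exact lt_of_le_of_ne (Subgroup.card_le_of_le hR.2.1.1) fun e' =>
        IsEssential.ne_self hS hF hR (Subgroup.eq_of_le_of_card_ge hR.2.1.1 e'.ge)
    have hfj : ∀ x : E, f (j x) = j ((α : MulAut E) x) := fun x => Subtype.ext (by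
      rw [hfv _ (by rw [hN]; exact (j x).2)]
      exact hφα x)
    refine ⟨f, hf, ?_, fun z hz => ?_, ?_⟩
    · obtain ⟨a, ha, hb⟩ := hcoord ((e₀ ^ k)⁻¹ * (α : MulAut E) e₀)
      have h0 : j ((e₀ ^ k)⁻¹ * (α : MulAut E) e₀) = (e ^ k)⁻¹ * f e := by
        rw [map_mul, map_inv, map_zpow, ← hfj]
      have h := hαk ((e₀ : E ⧸ center E), 1)
      have h1 := congrArg Prod.fst h
      simp only [hρ1, Prod.fst_mul, Prod.fst_inv, Prod.pow_fst, quotAut_mk] at h1
      rw [← QuotientGroup.mk_zpow, ← QuotientGroup.mk_inv, ← QuotientGroup.mk_mul, quotAut_mk] at h1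
      have h2 := (QuotientGroup.eq).1 h1.symm
      have h3 : y₀ ^ a ∈ center E := by
        have h4 := mul_mem (inv_mem ha) h2
        generalize (e₀ ^ k)⁻¹ * (α : MulAut E) e₀ = x at h4
        simpa [mul_assoc, τ] using h4
      have ha0 : (p : ℤ) ∣ a := by
        have := cfg.finite
        have h4 : QuotientGroup.mk' (zs M) ⁅g, e⁆ ^ a = 1 := by
          rw [← map_zpow, mk_eq_one, ← hjy, ← map_zpow, hjZ]; exact h3
        have hyp : QuotientGroup.mk' (zs M) ⁅g, e⁆ ^ p = 1 := by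
          rw [← map_pow, mk_eq_one, ← hjy, ← map_pow, hjZ]; exact hxp y₀
        have h5 := cast_eq_of_zpow (p := p) (x := QuotientGroup.mk' (zs M) ⁅g, e⁆)
          (fun h => cfg.yZ (mk_eq_one.1 h)) hyp (i := a) (j := 0) (by rw [zpow_zero]; exact h4)
        rwa [Int.cast_zero, ZMod.intCast_zmod_eq_zero_iff_dvd] at h5
      rw [← h0, ← mul_inv_cancel_left (e ^ a) (j _)]
      exact Subgroup.mul_mem _ (mem_sup_left (cfg.e_zpow ha0)) hb
    · obtain ⟨hzE, -⟩ := (mem_zs_iff hES).1 hz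
      obtain ⟨x, rfl⟩ : ∃ x : E, j x = z := ⟨⟨z, hzE⟩, rfl⟩
      have hx := hjZ.1 hz
      obtain ⟨v, hv⟩ : ∃ v : V2, (v : E ⧸ commutator E) = QuotientGroup.mk' (commutator E) x :=
        ⟨⟨_, x, hx, rfl⟩, rfl⟩
      have h := hαfix (1, v) (Prod.ext (by rw [hρ1]; exact map_one _) (Subtype.ext (by
        rw [hρ2, hv, QuotientGroup.mk'_apply, quotAut_mk]
        refine (QuotientGroup.eq.2 ?_).symm
        rw [← hjW, map_mul, map_inv]
        have h2 : ⁅g, j x⁆ ∈ ⁅M, M⁆ := cfg.zs_comm_w g hz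
        have h3 : j ((τ : MulAut E) x) = ⁅g, j x⁆ * j x := by
          rw [← hjτ, map_mul, map_inv, inv_mul_cancel_right]
        rw [h3, (cfg.comm_w h2 (j x)).eq, inv_mul_cancel_left]
        exact h2)))
      obtain ⟨i, hi⟩ := h
      have h4 := congrArg (fun m : (E ⧸ center E) × V2 => (m.2 : E ⧸ commutator E)) hi
      simp only [Prod.pow_snd, one_zpow, Prod.snd_mul, Prod.snd_inv, Subgroup.coe_mul, InvMemClass.coe_inv,
        OneMemClass.coe_one, hρ2, hv, QuotientGroup.mk'_apply, quotAut_mk] at h4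
      rw [hfj, ← map_inv, ← map_mul, hjW]
      exact (QuotientGroup.eq).1 (inv_mul_eq_one.1 h4.symm)
    · show (((g ^ (l * l))⁻¹ * f g : S) : Ω) ∈ E
      rw [Subgroup.coe_mul, InvMemClass.coe_inv, SubgroupClass.coe_zpow, hfv g hgN]
      exact hφt
  refine ⟨g, e, cfg, ?_, main⟩
  obtain ⟨f, -, he', hz', hg'⟩ := main (-1) (-1) (by simp)
  refine cfg.comm_y_mem hp2 f (s := ((-1 : ℤ) * -1)) (by norm_num) hg' ?_ hz'
  rwa [zpow_neg_one, inv_inv] at he'

end Cfsg.Agent.H24.OrderFive
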