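import Cfsg.Agent.H24.OrderFive.Rigid

/-!
Automorphisms of the configuration of maximal class: if `g` is raised to the power `a` modulo `M` then `e`
is raised to `a ^ 2` and the centre to `a ^ 5`.
-/

set_option autoImplicit false

namespace Cfsg.Agent.H24.OrderFive

open Subgroup
open scoped commutatorElement

variable {G : Type*} [Group G] {p : ℕ} [hp : Fact p.Prime] {M : Subgroup G} {g e : G}

namespace Cfg

theorem zs_map (c : Cfg p M g e) (f : G ≃* G) (hfM : ∀ x, f x ∈ M ↔ x ∈ M) (x : G) :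
    f x ∈ zs M ↔ x ∈ zs M := by
  simp only [zs, mem_inf, hfM, mem_centralizer_iff, SetLike.mem_coe]
  refine and_congr_right fun _ => ⟨fun h y hy => f.injective ?_, fun h y hy => ?_⟩
  · rw [map_mul, map_mul]; exact h (f y) ((hfM y).2 hy)
  · obtain ⟨y, rfl⟩ := f.surjective y
    rw [← map_mul, ← map_mul, h y ((hfM y).1 hy)]

section
variable (c : Cfg p M g e) (hc : ⁅g, ⁅g, e⁆⁆ ∉ ⁅M, M⁆) (hZ : center G = ⁅M, M⁆)
include c hc hZ

theorem comm_g_ne : ⁅g, ⁅g, ⁅g, e⁆⁆⁆ ≠ 1 := by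
  intro h
  refine hc (hZ ▸ mem_center_iff.2 fun x => ?_)
  obtain ⟨i, m, hm, rfl⟩ := c.coordsG x
  exact ((((commute_of_comm h).symm).zpow_right i).mul_right (c.commute_zs (c.comm_y_zs g) hm)).eq.symm

theorem zs_gen {z : G} (hz : z ∈ zs M) : ∃ k : ℕ, (⁅g, ⁅g, e⁆⁆ ^ k)⁻¹ * z ∈ ⁅M, M⁆ := by
  have := c.finite
  have := c.w_normal
  exact H24.exists_pow_mul_mem (p := p) c.w_le_zs (by rw [c.cardW, c.cardZ, sq]) (c.comm_y_zs g) hc hz

/-- The weights. -/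
theorem max_rigid (f : G ≃* G) (hfM : ∀ x, f x ∈ M ↔ x ∈ M) {a : ℤ} (ha : (g ^ a)⁻¹ * f g ∈ M) :
    (a : ZMod p) ≠ 0 ∧ (∃ b : ℤ, (b : ZMod p) = (a : ZMod p) ^ 2 ∧
      ∃ η ∈ zs M ⊔ zpowers ⁅g, e⁆, f e = e ^ b * η) ∧ ∀ w ∈ ⁅M, M⁆, f w = w ^ (a ^ 5) := by
  have := c.finite
  have := c.normal
  have := c.w_normal
  have := c.zs_normal
  obtain ⟨m, hm, hfg⟩ : ∃ m ∈ M, f g = g ^ a * m := ⟨_, ha, (mul_inv_cancel_left _ _).symm⟩
  obtain ⟨b, l, ζ, hζ, hfe⟩ := c.coords ((hfM e).2 c.eM)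
  have ha0 : (a : ZMod p) ≠ 0 := by
    intro h
    rw [ZMod.intCast_zmod_eq_zero_iff_dvd] at h
    obtain ⟨k, rfl⟩ := h
    refine c.gM ((hfM g).1 (hfg ▸ mul_mem ?_ hm))
    rw [zpow_mul, zpow_natCast]
    refine zpow_mem ?_ k
    have h := pow_index_mem M g
    rwa [c.index] at h
  let π2 := QuotientGroup.mk' (zs M)
  have hηM : ⁅g, e⁆ ^ l * ζ ∈ M := mul_mem (zpow_mem c.y_mem l) (c.zs_le_M hζ)
  have h2 : (⁅g, e⁆ ^ (a * b))⁻¹ * f ⁅g, e⁆ ∈ zs M := by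
    rw [← mk_eq_one, map_mul, map_inv, map_zpow, inv_mul_eq_one, map_commutatorElement f, hfg, hfe,
      map_commutatorElement, map_commutatorElement, map_mul π2 (g ^ a), map_mul π2 (e ^ b), map_zpow,
      map_zpow]
    exact (comm_eval (by rw [← map_commutatorElement]; exact commute_mk (comm_swap_mem (c.comm_y_zs g)))
      (by rw [← map_commutatorElement]; exact commute_mk (comm_swap_mem (c.comm_y_zs e)))
      (commute_mk (c.comm_M_zs hm c.eM)) (by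
        rw [map_mul π2, map_zpow, mk_eq_one.2 hζ, mul_one]
        exact (commute_mk (c.comm_y_zs g)).zpow_right l)
      (commute_mk (c.comm_M_zs hm hηM)) _ _).symm
  obtain ⟨ζ', hζ', hfy⟩ : ∃ ζ' ∈ zs M, f ⁅g, e⁆ = ⁅g, e⁆ ^ (a * b) * ζ' :=
    ⟨_, h2, (mul_inv_cancel_left _ _).symm⟩
  let π := QuotientGroup.mk' (⁅M, M⁆ : Subgroup G)
  obtain ⟨w', hw', hfc⟩ : ∃ w' ∈ ⁅M, M⁆, f ⁅g, ⁅g, e⁆⁆ = ⁅g, ⁅g, e⁆⁆ ^ (a * (a * b)) * w' := by
    refine ⟨_, ?_, (mul_inv_cancel_left _ _).symm⟩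
    rw [← mk_eq_one, map_mul, map_inv, map_zpow, inv_mul_eq_one, map_commutatorElement f g, hfy, hfg]
    show π ⁅g, ⁅g, e⁆⁆ ^ _ = π ⁅_, _⁆
    rw [map_commutatorElement π g ⁅g, e⁆, map_commutatorElement π (g ^ a * m), map_mul π (g ^ a),
      map_mul π (⁅g, e⁆ ^ (a * b)), map_zpow, map_zpow]
    exact (comm_eval
      (by rw [← map_commutatorElement]; exact commute_mk (comm_swap_mem (c.zs_comm_w g (c.comm_y_zs g))))
      (by rw [← map_commutatorElement]; exact commute_mk (commutator_mem_commutator (zs_le_M c (c.comm_y_zs g)) c.y_mem))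
      (commute_mk (commutator_mem_commutator hm c.y_mem)) (commute_mk (c.zs_comm_w g hζ'))
      (commute_mk (commutator_mem_commutator hm (c.zs_le_M hζ'))) _ _).symm
  have hw1 : ⁅g, ⁅g, ⁅g, e⁆⁆⁆ ∈ ⁅M, M⁆ := c.zs_comm_w g (c.comm_y_zs g)
  have hf1 : f ⁅g, ⁅g, ⁅g, e⁆⁆⁆ = ⁅g, ⁅g, ⁅g, e⁆⁆⁆ ^ (a * (a * (a * b))) := by
    rw [map_commutatorElement, hfc, hfg]
    exact comm_eval (c.comm_w hw1 _) (c.comm_w hw1 _) (c.commute_zs (c.comm_y_zs g) hm).symm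
      (c.comm_w hw' g).symm (c.comm_w hw' m).symm _ _
  have hf2 : f ⁅e, ⁅g, e⁆⁆ = ⁅e, ⁅g, e⁆⁆ ^ (b * (a * b)) := by
    rw [map_commutatorElement, hfy, hfe]
    exact comm_eval (c.comm_w c.w_mem _) (c.comm_w c.w_mem _)
      (((Commute.refl _).zpow_left l).mul_left (c.commute_zs hζ c.y_mem))
      (c.commute_zs hζ' c.eM).symm (c.commute_zs hζ' hηM).symm _ _
  have hb0 : (b : ZMod p) ≠ 0 := by
    intro h
    refine c.yZ ((zs_map c f hfM _).1 (hfy ▸ mul_mem ?_ hζ'))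
    have h' : ((a * b : ℤ) : ZMod p) = ((0 : ℤ) : ZMod p) := by push_cast; rw [h, mul_zero]
    rw [← mk_eq_one, map_zpow, zpow_eq_of_cast (p := p) ?_ h', zpow_zero]
    have hy := pow_index_mem ((zs M).subgroupOf (zs M ⊔ zpowers ⁅g, e⁆))
      (⟨_, mem_sup_right (mem_zpowers ⁅g, e⁆)⟩ : ↥(zs M ⊔ zpowers ⁅g, e⁆))
    have hidx : ((zs M).subgroupOf (zs M ⊔ zpowers ⁅g, e⁆)).index = p := by
      have h := card_mul_relIndex (le_sup_left : zs M ≤ zs M ⊔ zpowers ⁅g, e⁆)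
      rw [c.cardZ, c.cardK, show p ^ 3 = p ^ 2 * p by ring] at h
      exact Nat.eq_of_mul_eq_mul_left (pow_pos hp.out.pos 2) h
    rw [hidx, mem_subgroupOf] at hy
    rw [← map_pow]
    exact mk_eq_one.2 (by simpa using hy)
  obtain ⟨k, hk⟩ := mem_zpowers_of_prime (p := p) c.cardW hw1 (comm_g_ne c hc hZ) c.w_mem
  have h3 : ⁅e, ⁅g, e⁆⁆ ^ (a * (a * (a * b))) = ⁅e, ⁅g, e⁆⁆ ^ (b * (a * b)) := by
    rw [← hf2, ← hk, map_zpow, hf1, ← zpow_mul, ← zpow_mul, mul_comm]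
  have h4 := cast_eq_of_zpow (p := p) c.w_ne (c.w_exp c.w_mem) h3
  push_cast at h4
  have hb : (b : ZMod p) = (a : ZMod p) ^ 2 :=
    mul_left_cancel₀ (mul_ne_zero ha0 hb0) (by linear_combination -h4)
  refine ⟨ha0, ⟨b, hb, _, mul_mem (mem_sup_right (zpow_mem_zpowers _ l)) (mem_sup_left hζ), hfe⟩,
    fun w hw => ?_⟩
  obtain ⟨i, rfl⟩ := mem_zpowers_of_prime (p := p) c.cardW hw1 (comm_g_ne c hc hZ) hw
  rw [map_zpow, hf1, ← zpow_mul, ← zpow_mul]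
  refine zpow_eq_of_cast (p := p) (c.w_exp hw1) ?_
  push_cast
  rw [hb]; ring

/-- For `p = 3` every automorphism fixes `e` modulo the derived group. -/
theorem max_fixed_three (hp3 : p = 3) :
    e ∉ commutator G ∧ ∀ f : G ≃* G, (∀ x, f x ∈ M ↔ x ∈ M) → e⁻¹ * f e ∈ commutator G := by
  have := c.finite
  have := c.k_normal
  have hD : ∀ x y : G, ⁅x, y⁆ ∈ commutator G := fun x y => by
    rw [_root_.commutator_def]; exact commutator_mem_commutator (mem_top _) (mem_top _)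
  have hle : commutator G ≤ zs M ⊔ zpowers ⁅g, e⁆ := by
    have hQ : Nat.card (G ⧸ (zs M ⊔ zpowers ⁅g, e⁆)) = p ^ 2 := by
      have h := (zs M ⊔ zpowers ⁅g, e⁆).card_mul_index
      rw [c.cardK, c.card, show p ^ 5 = p ^ 3 * p ^ 2 by ring] at h
      rw [← index_eq_card]
      exact Nat.eq_of_mul_eq_mul_left (pow_pos hp.out.pos 3) h
    rw [_root_.commutator_def, commutator_le]
    intro x _ y _
    rw [← mk_eq_one, map_commutatorElement]
    exact comm_eq_one (IsPGroup.commutative_of_card_eq_prime_sq hQ _ _)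
  refine ⟨fun h => c.eK (hle h), fun f hfM => ?_⟩
  obtain ⟨a, m, hm, hfg⟩ := c.coordsG (f g)
  obtain ⟨ha, ⟨b, hb, η, hη, hfe⟩, -⟩ := max_rigid c hc hZ f hfM (a := a)
    (by rw [hfg, inv_mul_cancel_left]; exact hm)
  have hW : ⁅M, M⁆ ≤ commutator G := by rw [_root_.commutator_def]; exact commutator_mono le_top le_top
  have hzD : zs M ≤ commutator G := fun z hz => by
    obtain ⟨k, hk⟩ := zs_gen c hc hZ hz
    rw [← mul_inv_cancel_left (⁅g, ⁅g, e⁆⁆ ^ k) z]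
    exact mul_mem (pow_mem (hD _ _) k) (hW hk)
  have hKD : zs M ⊔ zpowers ⁅g, e⁆ ≤ commutator G := sup_le hzD (zpowers_le.2 (hD _ _))
  have hb1 : (p : ℤ) ∣ b - 1 := by
    subst hp3
    rw [← ZMod.intCast_zmod_eq_zero_iff_dvd]
    push_cast
    rw [hb, show (a : ZMod 3) ^ 2 = 1 from ZMod.pow_card_sub_one_eq_one ha, sub_self]
  rw [hfe, ← mul_assoc, ← zpow_neg_one, ← zpow_add]
  refine mul_mem (hzD (c.e_zpow ?_)) (hKD hη)
  rwa [show (-1 : ℤ) + b = b - 1 by ring]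

end

end Cfg

end Cfsg.Agent.H24.OrderFive
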