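import Cfsg.Agent.H24.MaxClassUniform
import Cfsg.Agent.H24.OrderFive.Four
import Cfsg.Agent.H24.OrderFive.MaxRigid

/-!
The configuration of a group of maximal class and order `p ^ 5` without abelian subgroup of index `p`.
-/

set_option autoImplicit false

namespace Cfsg.Agent.H24.OrderFive

open Subgroup
open scoped commutatorElement

variable {G : Type*} [Group G] [Finite G] {p : ℕ} [hp : Fact p.Prime]

omit [Finite G] in
theorem card_zs_eq (M : Subgroup G) : Nat.card (zs M) = Nat.card (center M) := by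
  have h : zs M = (center M).map M.subtype := by
    ext x
    constructor
    · intro hx
      exact ⟨⟨x, hx.1⟩, mem_center_iff.2 fun y => Subtype.ext (mem_centralizer_iff.1 hx.2 y y.2), rfl⟩
    · rintro ⟨y, hy, rfl⟩
      exact ⟨y.2, mem_centralizer_iff.2 fun z hz => congrArg Subtype.val (mem_center_iff.1 hy ⟨z, hz⟩)⟩
  rw [h, card_map_of_injective M.subtype_injective]

theorem twoStep_map (f : G ≃* G) (i : ℕ) (x : G) : f x ∈ twoStep G i ↔ x ∈ twoStep G i := by
  have hl : ∀ j y, f y ∈ lcw G j ↔ y ∈ lcw G j := fun j y => by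
    conv_lhs => rw [← map_lcw (f : G →* G) f.surjective j]
    exact mem_map_iff_mem (f := (f : G →* G)) f.injective
  rw [mem_twoStep, mem_twoStep]
  constructor
  · intro h u hu
    rw [← hl, map_commutatorElement]
    exact h (f u) ((hl i u).2 hu)
  · intro h u hu
    obtain ⟨u, rfl⟩ := f.surjective u
    rw [← map_commutatorElement, hl]
    exact h u ((hl i u).1 hu)

theorem max_cfg (S : MaxSetting G p 5) (hnab : ∀ A : Subgroup G, IsMulCommutative A → A.index ≠ p) :
    (twoStep G 3).index = p ∧ center G ≤ lcw G 3 ∧ Nat.card (center G) = p ∧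
      Nat.card (lcw G 3) = p ^ 2 ∧ lcw G 3 ≤ zs (twoStep G 3) ∧
      ∀ g : G, g ∉ twoStep G 3 → ∃ e : G, Cfg p (twoStep G 3) g e ∧
        ⁅g, ⁅g, e⁆⁆ ∉ ⁅twoStep G 3, twoStep G 3⁆ ∧ center G = ⁅twoStep G 3, twoStep G 3⁆ := by
  set M := twoStep G 3 with hM
  have hidx : M.index = p := S.index_twoStep (by omega) (by omega)
  have hMc : Nat.card M = p ^ 4 := by
    have h := M.card_mul_index
    rw [hidx, S.card, show p ^ 5 = p ^ 4 * p by ring] at h
    exact Nat.eq_of_mul_eq_mul_right hp.out.pos h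
  have h5 : lcw G 5 = ⊥ := S.lcw_top_eq
  have h2M : lcw G 2 ≤ M := lcw_two_le_twoStep (by omega)
  have h3c : ∀ u ∈ lcw G 3, ∀ m ∈ M, Commute u m := fun u hu m hm => by
    have h := (mem_twoStep.1 hm) u hu
    rw [show 3 + 2 = 5 from rfl, h5] at h
    exact commute_of_comm (mem_bot.1 h)
  have h3zs : lcw G 3 ≤ zs M := fun u hu =>
    ⟨h2M (lcw_le (by omega) hu), mem_centralizer_iff.2 fun m hm => (h3c u hu m hm).eq.symm⟩
  have h3card : Nat.card (lcw G 3) = p ^ 2 := by rw [S.card_lcw (by omega) (by omega)]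
  have h4card : Nat.card (lcw G 4) = p := by rw [S.card_lcw (by omega) (by omega), pow_one]
  have hna : ¬ IsMulCommutative M := fun h => hnab M h hidx
  have hzc : Nat.card (zs M) = p ^ 2 := by
    obtain ⟨k, hk⟩ := IsPGroup.iff_card.1 (S.isP.to_subgroup (zs M))
    have h1 : p ^ 2 ≤ Nat.card (zs M) := h3card ▸ Subgroup.card_le_of_le h3zs
    rw [hk] at h1 ⊢
    have h1' := (Nat.pow_le_pow_iff_right hp.out.one_lt).1 h1
    by_contra hne
    refine hna ?_
    have hc : Nat.card (center M) = p ^ k := by rw [← card_zs_eq, hk]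
    have hq := Subgroup.card_eq_card_quotient_mul_card_subgroup (center M)
    obtain ⟨j, hj⟩ := IsPGroup.iff_card.1 ((S.isP.to_subgroup M).to_quotient (center M))
    rw [hMc, hc, hj, ← pow_add] at hq
    have := Nat.pow_right_injective hp.out.two_le hq
    have hk3 : k ≠ 2 := fun h => hne (by rw [h])
    have := H24.isCyclic_of_card_pow_le hj (by omega)
    exact H24.isMulCommutative_of_cyclic_quotient (le_refl (center M))
  have hzs3 : zs M = lcw G 3 := (Subgroup.eq_of_le_of_card_ge h3zs (by rw [hzc, h3card])).symm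
  have hW : Nat.card (⁅M, M⁆ : Subgroup G) = p := by
    rw [← map_subtype_commutator, card_map_of_injective M.subtype_injective]
    exact comm_card_of_center hMc hna (by rw [← card_zs_eq]; exact hzc)
  have hcM : center G ≤ M := fun z hz => mem_twoStep.2 fun u _ => by
    rw [comm_eq_one (show Commute u z from mem_center_iff.1 hz u)]; exact one_mem _
  have hcle : center G ≤ lcw G 3 := fun z hz => hzs3 ▸ (⟨hcM hz, center_le_centralizer _ hz⟩ : z ∈ zs M)
  have h4c : lcw G 4 ≤ center G := fun z hz => mem_center_iff.2 fun x => by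
    have h := comm_mem_lcw (i := 4) (j := 1) (by omega) le_rfl hz (lcw_one (G := G) ▸ mem_top x)
    rw [h5] at h
    exact (commute_of_comm (mem_bot.1 h)).eq.symm
  have hcc : Nat.card (center G) = p := by
    obtain ⟨k, hk⟩ := IsPGroup.iff_card.1 (S.isP.to_subgroup (center G))
    have h1 : p ^ 1 ≤ Nat.card (center G) := by rw [pow_one, ← h4card]; exact Subgroup.card_le_of_le h4c
    have h2 : Nat.card (center G) < p ^ 2 := by
      rw [← h3card]
      refine lt_of_le_of_ne (Subgroup.card_le_of_le hcle) fun h => S.twoStep_ne_top (i := 3) (by omega) (by omega) ?_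
      have he := Subgroup.eq_of_le_of_card_ge hcle h.ge
      refine eq_top_iff.2 fun x _ => mem_twoStep.2 fun u hu => ?_
      rw [← he] at hu
      rw [comm_eq_one (show Commute u x from (mem_center_iff.1 hu x).symm)]
      exact one_mem _
    rw [hk] at h1 h2 ⊢
    have := (Nat.pow_le_pow_iff_right hp.out.one_lt).1 h1
    have := (Nat.pow_lt_pow_iff_right hp.out.one_lt).1 h2
    rw [show k = 1 by omega, pow_one]
  refine ⟨hidx, hcle, hcc, h3card, h3zs, fun g hg => ?_⟩
  have c0 : ∀ e, e ∈ M → ⁅g, e⁆ ∉ zs M → Cfg p M g e := fun e he hy => ⟨S.card, hMc, hzc, hW, hg, he, hy⟩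
  have hMn : M.Normal := normal_of_index_eq_minFac_card (by
    rw [hidx, S.card, Nat.pow_minFac (by norm_num), hp.out.minFac_eq])
  have hWn : (⁅M, M⁆ : Subgroup G).Normal := inferInstance
  have hWc : ⁅M, M⁆ ≤ center G := by
    intro w hw
    refine mem_center_iff.2 fun x => ?_
    have h := H24.comm_mem_of_relIndex_prime S.isP (A := ⊥) (B := ⁅M, M⁆) (M := ⊤) bot_le le_top
      (by rw [normalizer_eq_top]) (by rw [normalizer_eq_top]) (by rw [relIndex_bot_left, hW])
      (g := x) (mem_top _) hw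
    exact commutatorElement_eq_one_iff_mul_comm.1 (mem_bot.1 h)
  have hWeq : center G = ⁅M, M⁆ := (Subgroup.eq_of_le_of_card_ge hWc (by rw [hcc, hW])).symm
  have h4eq : center G = lcw G 4 := (Subgroup.eq_of_le_of_card_ge h4c (by rw [hcc, h4card])).symm
  obtain ⟨e, he, hy⟩ : ∃ e ∈ M, ⁅g, e⁆ ∉ zs M := by
    by_contra! h
    refine S.lcw_not_le (i := 2) (by omega) (by omega) ?_
    rw [lcw_two, _root_.commutator_def, commutator_le]
    intro a _ b _
    rw [hzs3] at h
    let π := QuotientGroup.mk' (lcw G 3)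
    have hMM : ∀ x ∈ M, ∀ y ∈ M, Commute (π x) (π y) := fun x hx y hy =>
      commute_mk (hcle (hWc (commutator_mem_commutator hx hy)))
    have hgM : ∀ x ∈ M, Commute (π g) (π x) := fun x hx => commute_mk (h x hx)
    have hdec : ∀ x : G, ∃ i : ℕ, ∃ m ∈ M, x = g ^ i * m := fun x => by
      obtain ⟨i, hi⟩ := H24.exists_pow_mul_mem (p := p) (N := M) (M := ⊤) le_top
        (by rw [Subgroup.card_top, S.card, hMc]; ring) (mem_top g) hg (mem_top x)
      exact ⟨i, _, hi, (mul_inv_cancel_left _ _).symm⟩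
    obtain ⟨i, m, hm, rfl⟩ := hdec a
    obtain ⟨i', m', hm', rfl⟩ := hdec b
    rw [← mk_eq_one, map_commutatorElement, map_mul, map_mul, map_pow, map_pow]
    refine comm_eq_one (Commute.mul_left ?_ ?_)
    · exact ((Commute.refl _).pow_pow i i').mul_right ((hgM m' hm').pow_left i)
    · exact ((hgM m hm).symm.pow_right i').mul_right (hMM m hm m' hm')
  have c := c0 e he hy
  refine ⟨e, c, fun hc => ?_, hWeq⟩
  -- otherwise the lower central series would stop
  refine S.lcw_not_le (i := 3) (by omega) (by omega) ?_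
  rw [← hWeq, h4eq] at hc
  have hy2 : ⁅g, e⁆ ∈ lcw G 2 := by
    rw [lcw_two, _root_.commutator_def]; exact commutator_mem_commutator (mem_top _) (mem_top _)
  have hy3 : ⁅g, e⁆ ∉ lcw G 3 := fun h => hy (h3zs h)
  let π := QuotientGroup.mk' (lcw G 4)
  have hym : ∀ m ∈ M, Commute (π m) (π ⁅g, e⁆) := fun m hm =>
    commute_mk (h4eq ▸ hWc (commutator_mem_commutator hm c.y_mem))
  have hyall : ∀ x, Commute (π ⁅g, e⁆) (π x) := fun x => by
    obtain ⟨i, m, hm, rfl⟩ := c.coordsG x
    rw [map_mul, map_zpow]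
    exact (((commute_mk hc).zpow_left i).mul_left (hym m hm)).symm
  show lcw G (2 + 1) ≤ lcw G 4
  rw [lcw_succ (by omega), commutator_le]
  intro a ha b _
  obtain ⟨i, hi⟩ := S.exists_pow (i := 2) le_rfl (by omega) hy2 hy3 ha
  rw [show a = ⁅g, e⁆ ^ i * ((⁅g, e⁆ ^ i)⁻¹ * a) by rw [mul_inv_cancel_left], ← mk_eq_one,
    map_commutatorElement, map_mul, map_pow]
  refine comm_eq_one (((hyall b).pow_left i).mul_left ?_)
  exact commute_mk (comm_mem_lcw (i := 3) (j := 1) (by omega) le_rfl hi (lcw_one (G := G) ▸ mem_top b))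

end Cfsg.Agent.H24.OrderFive
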