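import Cfsg.Agent.H24.OrderFive.Top
import Cfsg.Agent.H24.SmallSelfCentralizing

/-!
Tori of an essential subgroup with an invariant quotient of order `p ^ 2` on which the outer automizer is
faithful.
-/

set_option autoImplicit false

namespace Cfsg.Agent.H24.OrderFive

open Subgroup Cfsg.FusionSystem
open Agent.H93
open scoped commutatorElement

variable {Ω : Type*} [Group Ω] {S : Subgroup Ω} [Finite S] {p : ℕ} [hp : Fact p.Prime] {F : FusionSystem S}

theorem rank_two_torus (hS : IsPGroup p S) (hF : F.IsSaturated p) {E : Subgroup Ω} (hE : F.IsEssential p E)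
    (hES : E ≤ S) (A : Subgroup E) [A.Normal] (hA : ∀ a ∈ F.autGroup E, ∀ x ∈ A, a x ∈ A)
    (hQ : Nat.card (E ⧸ A) = p ^ 2) (hexpA : ∀ x : E, x ^ p ∈ A)
    (hker : ∀ a ∈ F.autGroup E, (∀ x, x⁻¹ * a x ∈ A) → a ∈ Inn E) :
    ∃ (t : normalizerIn S E) (b : E), (t : Ω) ∉ E ∧ b ∉ A ∧
      (∀ n ∈ normalizerIn S E, ∃ i : ℕ, ((t : Ω) ^ i)⁻¹ * n ∈ E) ∧
      (∀ x, ∃ i : ℤ, (b ^ i)⁻¹ * (x⁻¹ * (nAut F hES t : MulAut E) x) ∈ A) ∧
      b⁻¹ * (nAut F hES t : MulAut E) b ∈ A ∧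
      (∀ x, x⁻¹ * (nAut F hES t : MulAut E) x ∈ A → ∃ i : ℤ, (b ^ i)⁻¹ * x ∈ A) ∧
      ∀ l k : ℤ, (p : ℤ) ∣ l * k - 1 → ∃ α : F.autGroup E, (b ^ l)⁻¹ * (α : MulAut E) b ∈ A ∧
        (∀ x, ∃ i : ℤ, (b ^ i)⁻¹ * ((x ^ k)⁻¹ * (α : MulAut E) x) ∈ A) ∧
        ∃ φ : Ω → Ω, Mor F (normalizerIn S E) (normalizerIn S E) φ ∧
          (∀ x : E, φ x = (((α : MulAut E) x : E) : Ω)) := by
  classical
  have := finite_of_le hES
  have := finite_mulAut hES
  have hCE : centralizerIn S E ≤ E := hE.1.2 E (isConj_refl F hES)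
  have hlt : E < normalizerIn S E :=
    lt_normalizerIn hS (lt_of_le_of_ne hES (IsEssential.ne_self hS hF hE))
  -- subgroups of `↥S`
  let j : E →* S := Subgroup.inclusion hES
  have hjinj : Function.Injective j := Subgroup.inclusion_injective hES
  set A₀ := A.map j with hA₀
  set E₀ := E.subgroupOf S with hE₀
  set N₀ := (normalizerIn S E).subgroupOf S with hN₀
  have hAE : A₀ ≤ E₀ := by rintro _ ⟨x, -, rfl⟩; exact x.2
  have hEN : E₀ ≤ N₀ := fun x hx => hlt.le hx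
  have hjn : ∀ (n : normalizerIn S E) (x : E),
      j ((nAut F hES n : MulAut E) x) = ⟨n, n.2.1⟩ * j x * (⟨n, n.2.1⟩ : S)⁻¹ := fun n x => rfl
  have hNA : N₀ ≤ normalizer (A₀ : Set S) := fun n hn => mem_normalizer_iff.2 fun x => by
    constructor
    · rintro ⟨y, hy, rfl⟩
      exact ⟨_, hA _ (nAut F hES ⟨n, hn⟩).2 y hy, hjn ⟨n, hn⟩ y⟩
    · rintro ⟨y, hy, hxy⟩
      refine ⟨_, hA _ (nAut F hES ⟨n, hn⟩⁻¹).2 y hy, ?_⟩
      rw [hjn, hxy]
      show n⁻¹ * (n * x * n⁻¹) * n⁻¹⁻¹ = x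
      simp [mul_assoc]
  have hNE : N₀ ≤ normalizer (E₀ : Set S) := fun n hn => mem_normalizer_iff.2 fun x =>
    mem_normalizer_iff.1 (show (n : Ω) ∈ normalizerIn S E from hn).2 x
  have hEA : ¬ E₀ ≤ A₀ := by
    intro h
    have h1 : A = ⊤ := eq_top_iff.2 fun x _ => by
      obtain ⟨y, hy, hyx⟩ := h (show j x ∈ E₀ from x.2)
      exact hjinj hyx ▸ hy
    have h2 : Nat.card (E ⧸ A) = 1 := by rw [← index_eq_card, h1, index_top]
    rw [hQ] at h2
    exact absurd (Nat.pow_eq_one.1 h2) (by have := hp.out.one_lt; omega)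
  obtain ⟨b', hb', hbA, hbc⟩ := exists_central_mod_in hS hEN hNA hNE hEA
  obtain ⟨b, rfl⟩ : ∃ b : E, j b = b' := ⟨⟨b', hb'⟩, rfl⟩
  have hbA' : b ∉ A := fun h => hbA ⟨b, h, rfl⟩
  have hfixb : ∀ n : normalizerIn S E, b⁻¹ * (nAut F hES n : MulAut E) b ∈ A := by
    intro n
    obtain ⟨y, hy, hyc⟩ := hbc ⟨n, n.2.1⟩ n.2
    have h1 : (nAut F hES n : MulAut E) b = y * b := hjinj (by
      rw [map_mul, hyc, hjn, commutatorElement_def, inv_mul_cancel_right])
    rw [h1, ← mul_assoc]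
    simpa using (inferInstance : A.Normal).conj_mem y hy b⁻¹
  -- the module
  letI : CommGroup (E ⧸ A) := { (inferInstance : Group (E ⧸ A)) with
    mul_comm := (IsPGroup.isMulCommutative_of_card_eq_prime_sq hQ).is_comm.comm }
  have hexp : ∀ m : E ⧸ A, m ^ p = 1 := fun m => QuotientGroup.induction_on m fun x => by
    rw [← QuotientGroup.mk_pow]; exact (QuotientGroup.eq_one_iff _).2 (hexpA x)
  have hb1 : (b : E ⧸ A) ≠ 1 := fun h => hbA' ((QuotientGroup.eq_one_iff b).1 h)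
  set Z := zpowers (b : E ⧸ A) with hZ
  have hZc : Nat.card Z = p := by rw [hZ, Nat.card_zpowers, orderOf_eq_prime (hexp _) hb1]
  obtain ⟨n₀, hn₀, hn₀E⟩ := SetLike.exists_of_lt hlt
  let t : normalizerIn S E := ⟨n₀, hn₀⟩
  let ρ := quotAut A (F.autGroup E) hA
  have hker' : ∀ a, ρ a = 1 → (a : MulAut E) ∈ Inn E := fun a ha => hker _ a.2 fun x => by
    have h := DFunLike.congr_fun ha (x : E ⧸ A)
    rw [quotAut_mk, MulAut.one_apply] at h
    exact QuotientGroup.eq.1 h.symm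
  have hinn : ∀ a : F.autGroup E, (a : MulAut E) ∈ Inn E → ρ a = 1 := fun a ha => by
    obtain ⟨u, hu⟩ : ∃ u : E, MulAut.conj u = (a : MulAut E) := ha
    refine MulEquiv.ext fun m => QuotientGroup.induction_on m fun x => ?_
    rw [quotAut_mk, MulAut.one_apply, ← hu, MulAut.conj_apply, QuotientGroup.mk_mul, QuotientGroup.mk_mul,
      QuotientGroup.mk_inv, mul_comm (u : E ⧸ A), mul_inv_cancel_right]
  have hfix : ∀ n, ρ (nAut F hES n) (b : E ⧸ A) = b := fun n => by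
    rw [quotAut_mk]; exact (QuotientGroup.eq.2 (hfixb n)).symm
  -- conjugation acts trivially on the quotient by the fixed line
  have hmove : ∀ (n : normalizerIn S E) (m : E ⧸ A), m⁻¹ * ρ (nAut F hES n) m ∈ Z := by
    intro n m
    induction m using QuotientGroup.induction_on with | H x => ?_
    let B := Z.comap (QuotientGroup.mk' A)
    have hAB : A ≤ B := fun y hy => by
      show (y : E ⧸ A) ∈ Z
      rw [(QuotientGroup.eq_one_iff y).2 hy]; exact one_mem _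
    have hBidx : B.index = p := by
      rw [index_comap_of_surjective Z (QuotientGroup.mk'_surjective A)]
      have h := Z.card_mul_index
      rw [hZc, hQ, sq] at h
      exact Nat.eq_of_mul_eq_mul_left hp.out.pos h
    have hBinv : ∀ (n : normalizerIn S E), ∀ y ∈ B, (nAut F hES n : MulAut E) y ∈ B := by
      intro n y hy
      obtain ⟨i, hi⟩ := (show (y : E ⧸ A) ∈ Z from hy)
      show (((nAut F hES n : MulAut E) y : E) : E ⧸ A) ∈ Z
      have e1 := quotAut_mk A (F.autGroup E) hA (nAut F hES n) y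
      rw [← e1, ← hi, map_zpow, show quotAut A (F.autGroup E) hA (nAut F hES n) (b : E ⧸ A) = b from hfix n]
      exact zpow_mem_zpowers _ i
    have hB0N : N₀ ≤ normalizer (B.map j : Set S) := fun n hn => mem_normalizer_iff.2 fun x => by
      constructor
      · rintro ⟨y, hy, rfl⟩
        exact ⟨_, hBinv ⟨n, hn⟩ y hy, hjn ⟨n, hn⟩ y⟩
      · rintro ⟨y, hy, hxy⟩
        refine ⟨_, hBinv ⟨n, hn⟩⁻¹ y hy, ?_⟩
        rw [hjn, hxy]
        show n⁻¹ * (n * x * n⁻¹) * n⁻¹⁻¹ = x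
        simp [mul_assoc]
    have hjtop : (⊤ : Subgroup E).map j = E₀ := by
      ext y
      exact ⟨fun ⟨z, _, hz⟩ => hz ▸ z.2, fun hy => ⟨⟨y, hy⟩, mem_top _, rfl⟩⟩
    have h := H24.comm_mem_of_relIndex_prime hS (A := B.map j) (B := E₀) (M := N₀)
      (by rw [← hjtop]; exact map_mono le_top) hEN hB0N hNE
      (by rw [← hjtop, relIndex_map_map_of_injective _ _ hjinj, relIndex_top_right, hBidx])
      (g := ⟨n, n.2.1⟩) n.2 (b := j x) x.2
    obtain ⟨y, hy, hyc⟩ := h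
    have h1 : (nAut F hES n : MulAut E) x = y * x := hjinj (by
      rw [map_mul, hyc, hjn, commutatorElement_def, inv_mul_cancel_right])
    rw [quotAut_mk, h1, QuotientGroup.mk_mul, mul_comm (y : E ⧸ A), inv_mul_cancel_left]
    exact hy
  have move : ∀ m, ∃ i : ℤ, ρ (nAut F hES t) m = m * (b : E ⧸ A) ^ i := fun m => by
    obtain ⟨i, hi⟩ := hmove t m
    exact ⟨i, by rw [show (b : E ⧸ A) ^ i = _ from hi, mul_inv_cancel_left]⟩
  obtain ⟨hgen, htor⟩ := essential_torus hS hF hE hES hexp ρ hker' hinn t hn₀E move hfix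
  have hτ1 : ρ (nAut F hES t) ≠ 1 := by
    intro h
    obtain ⟨u, hu⟩ : ∃ u : E, MulAut.conj u = ((nAut F hES t : F.autGroup E) : MulAut E) := hker' _ h
    have h1 : (u : Ω)⁻¹ * n₀ ∈ centralizerIn S E := by
      refine mem_centralizerIn.2 ⟨mul_mem (inv_mem (hES u.2)) hn₀.1, fun x hx => ?_⟩
      have e : (u : Ω) * x * (u : Ω)⁻¹ = n₀ * x * n₀⁻¹ := by
        have h2 := congrArg (fun f : MulAut E => ((f ⟨x, hx⟩ : E) : Ω)) hu
        simp only [nAut_apply, MulAut.conj_apply, Subgroup.coe_mul, InvMemClass.coe_inv] at h2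
        exact h2
      calc (u : Ω)⁻¹ * n₀ * x * ((u : Ω)⁻¹ * n₀)⁻¹ = (u : Ω)⁻¹ * (n₀ * x * n₀⁻¹) * u := by simp [mul_assoc]
        _ = x := by rw [← e]; simp [mul_assoc]
    exact hn₀E (by simpa using E.mul_mem u.2 (hCE h1))
  have hline : ∀ m : E ⧸ A, ρ (nAut F hES t) m = m → m ∈ Z := by
    intro m hm
    let Fx : Subgroup (E ⧸ A) := MonoidHom.eqLocus (ρ (nAut F hES t)).toMonoidHom (MonoidHom.id _)
    have hle : Z ≤ Fx := zpowers_le.2 (hfix t)
    have hne : Fx ≠ ⊤ := fun h => hτ1 (MulEquiv.ext fun m => show m ∈ Fx by rw [h]; exact mem_top m)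
    obtain ⟨k, hk⟩ := IsPGroup.iff_card.1 ((IsPGroup.of_card hQ).to_subgroup Fx)
    have h2 : Nat.card Fx < p ^ 2 := by
      rw [← hQ, ← card_top (G := E ⧸ A)]
      exact lt_of_le_of_ne (Subgroup.card_le_of_le le_top) fun e' =>
        hne (Subgroup.eq_of_le_of_card_ge le_top e'.ge)
    rw [hk] at h2
    have hk2 := (Nat.pow_lt_pow_iff_right hp.out.one_lt).1 h2
    rw [Subgroup.eq_of_le_of_card_ge hle (by
      rw [hk, hZc]; exact (Nat.pow_le_pow_right hp.out.pos (show k ≤ 1 by omega)).trans_eq (pow_one p))]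
    exact hm
  have toA : ∀ (x : E), (x : E ⧸ A) ∈ Z → ∃ i : ℤ, (b ^ i)⁻¹ * x ∈ A := fun x hx => by
    obtain ⟨i, hi⟩ := hx
    exact ⟨i, QuotientGroup.eq.1 ((QuotientGroup.mk_zpow A b i).trans hi)⟩
  refine ⟨t, b, hn₀E, hbA', hgen, fun x => toA _ ?_, hfixb t, fun x hx => toA x (hline _ ?_),
    fun l k hlk => ?_⟩
  · rw [QuotientGroup.mk_mul, QuotientGroup.mk_inv]
    exact hmove t x
  · rw [quotAut_mk]; exact (QuotientGroup.eq.2 hx).symm
  obtain ⟨α, hαb, -, hαk, φ, hφ, hφα, -⟩ := htor l k hlk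
  refine ⟨α, ?_, fun x => toA _ ?_, φ, hφ, hφα⟩
  · refine QuotientGroup.eq.1 ?_
    rw [QuotientGroup.mk_zpow]
    exact hαb.symm
  · rw [QuotientGroup.mk_mul, QuotientGroup.mk_inv, QuotientGroup.mk_zpow]
    exact hline _ (hαk (x : E ⧸ A))

end Cfsg.Agent.H24.OrderFive
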