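import Cfsg.Agent.H93.PearlData
import Cfsg.Agent.H24.OrderFive.MaxCfg
import Cfsg.Agent.H24.OrderFive.RankTwo

/-!
Pearls in a saturated fusion system over a group of order `p ^ 5`.
-/

set_option autoImplicit false

namespace Cfsg.Agent.H24.OrderFive

open Subgroup Cfsg.FusionSystem
open Agent.H93
open scoped commutatorElement

variable {Ω : Type*} [Group Ω] {S : Subgroup Ω} [Finite S] {p : ℕ} [hp : Fact p.Prime] {F : FusionSystem S}

/-- `E` is elementary abelian of order `p ^ 2` or extraspecial of order `p ^ 3` and exponent `p`. -/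
def IsPearl (p : ℕ) (E : Subgroup Ω) : Prop :=
  (Nat.card E = p ^ 2 ∧ Cfsg.IsElementaryAbelian p E) ∨
    (Nat.card E = p ^ 3 ∧ Cfsg.IsExtraspecial p E ∧ ∀ x ∈ E, x ^ p = 1)

theorem not_comm_of_extraspecial {E : Subgroup Ω} (hc : Nat.card E = p ^ 3) (he : Cfsg.IsExtraspecial p E) :
    ¬ IsMulCommutative E := by
  intro h
  have h1 : center E = ⊤ := eq_top_iff.2 fun x _ => mem_center_iff.2 fun y => h.is_comm.comm y x
  have h2 := he.2
  rw [h1, Subgroup.card_top, hc] at h2
  have := Nat.pow_right_injective hp.out.two_le (h2.trans (pow_one p).symm)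
  omega

theorem maxSetting_of_pearl (hS : IsPGroup p S) (hcard : Nat.card S = p ^ 5) {E : Subgroup Ω}
    (hE : F.IsEssential p E) (h : IsPearl p E) : H24.MaxSetting S p 5 := by
  have hcl := (H93.pearl_class_data hS F E hE (h.imp (fun h => ⟨h.1, fun x hx => ⟨h.2.2 x hx, h.2.1⟩⟩)
    fun h => ⟨h.1, not_comm_of_extraspecial h.1 h.2.1⟩) hcard (by norm_num)).1
  refine ⟨hS, hcard, by norm_num, fun h4 => ?_⟩
  have := hS.isNilpotent
  have := Subgroup.lowerCentralSeries_eq_bot_iff_nilpotencyClass_le.mp h4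
  omega

/-- The torus data of a pearl. -/
theorem pearl_torus (hS : IsPGroup p S) (hF : F.IsSaturated p) {E : Subgroup Ω} (hE : F.IsEssential p E)
    (hES : E ≤ S) (h : IsPearl p E) :
    ∃ A : Subgroup E, ∃ _ : A.Normal, (Nat.card E = p ^ 2 → A = ⊥) ∧ (Nat.card E = p ^ 3 → A = center E) ∧
    A ≤ center E ∧ (∀ u v : E, ⁅u, v⁆ ∈ A) ∧ (∀ x : E, x ^ p ∈ A) ∧ A ≤ commutator E ∧
    ∃ (t : normalizerIn S E) (b : E), (t : Ω) ∉ E ∧ b ∉ A ∧
      (∀ n ∈ normalizerIn S E, ∃ i : ℕ, ((t : Ω) ^ i)⁻¹ * n ∈ E) ∧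
      (∀ x, ∃ i : ℤ, (b ^ i)⁻¹ * (x⁻¹ * (nAut F hES t : MulAut E) x) ∈ A) ∧
      b⁻¹ * (nAut F hES t : MulAut E) b ∈ A ∧
      (∀ x, x⁻¹ * (nAut F hES t : MulAut E) x ∈ A → ∃ i : ℤ, (b ^ i)⁻¹ * x ∈ A) ∧
      ∀ l k : ℤ, (p : ℤ) ∣ l * k - 1 → ∃ α : F.autGroup E, (b ^ l)⁻¹ * (α : MulAut E) b ∈ A ∧
        (∀ x, ∃ i : ℤ, (b ^ i)⁻¹ * ((x ^ k)⁻¹ * (α : MulAut E) x) ∈ A) ∧
        ∃ φ : Ω → Ω, Mor F (normalizerIn S E) (normalizerIn S E) φ ∧
          (∀ x : E, φ x = (((α : MulAut E) x : E) : Ω)) := by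
  have := finite_of_le hES
  have := finite_mulAut hES
  rcases h with ⟨hc, hab, hexp⟩ | ⟨hc, he, hexp⟩
  · have hcomm : ∀ u v : E, ⁅u, v⁆ ∈ (⊥ : Subgroup E) := fun u v =>
      mem_bot.2 (commutatorElement_eq_one_iff_mul_comm.2 (hab.is_comm.comm u v))
    have hp' : ∀ x : E, x ^ p ∈ (⊥ : Subgroup E) := fun x =>
      mem_bot.2 (Subtype.ext (by simpa using hexp x x.2))
    refine ⟨⊥, inferInstance, fun _ => rfl, fun h => ?_, bot_le, hcomm, hp', bot_le, ?_⟩
    · rw [hc] at h
      have := Nat.pow_right_injective hp.out.two_le h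
      omega
    · refine rank_two_torus hS hF hE hES ⊥ (fun a _ x hx => by
        rw [mem_bot.1 hx, map_one]; exact one_mem _) ?_ hp' fun a _ ha => ?_
      · rw [← index_eq_card, index_bot, hc]
      · rw [show a = 1 from MulEquiv.ext fun x => (inv_mul_eq_one.1 (mem_bot.1 (ha x))).symm]
        exact one_mem _
  · have hcomm : ∀ u v : E, ⁅u, v⁆ ∈ center E := H24.espec_comm_mem he
    have hp' : ∀ x : E, x ^ p ∈ center E := fun x => by
      rw [show x ^ p = 1 from Subtype.ext (by simpa using hexp x x.2)]; exact one_mem _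
    refine ⟨center E, inferInstance, fun h => ?_, fun _ => rfl, le_rfl, hcomm, hp', he.1.2.2.ge, ?_⟩
    · rw [hc] at h
      have := Nat.pow_right_injective hp.out.two_le h
      omega
    have invZ : ∀ α : MulAut E, ∀ x ∈ center E, α x ∈ center E := fun α x hx => mem_center_iff.2 fun y => by
      obtain ⟨y, rfl⟩ := α.surjective y
      rw [← map_mul, ← map_mul, mem_center_iff.1 hx y]
    refine rank_two_torus hS hF hE hES (center E) (fun a _ => invZ a) ?_ hp' fun a ha hax => ?_
    · have h := Subgroup.card_eq_card_quotient_mul_card_subgroup (center E)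
      rw [hc, he.2, show p ^ 3 = p ^ 2 * p by ring] at h
      exact (Nat.eq_of_mul_eq_mul_right hp.out.pos h).symm
    have hfix : ∀ x ∈ center E, a x = x := fun x hx => by
      rw [← he.1.2.2, _root_.commutator_def] at hx
      refine (commutator_le (H₃ := MonoidHom.eqLocus a.toMonoidHom (MonoidHom.id E))).2 (fun u _ v _ => ?_) hx
      show a ⁅u, v⁆ = ⁅u, v⁆
      obtain ⟨zu, hzu, eu⟩ : ∃ z ∈ center E, a u = u * z := ⟨_, hax u, (mul_inv_cancel_left _ _).symm⟩
      obtain ⟨zv, hzv, ev⟩ : ∃ z ∈ center E, a v = v * z := ⟨_, hax v, (mul_inv_cancel_left _ _).symm⟩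
      rw [map_commutatorElement, eu, ev,
        comm_mul_left (show Commute zu (v * zv) from (mem_center_iff.1 hzu _).symm),
        comm_mul_right (show Commute u zv from mem_center_iff.1 hzv u)]
    refine mem_inn_of_chain hS hE 2 (fun i => if i = 0 then ⊥ else if i = 1 then center E else ⊤)
      rfl rfl (fun α _ i hi x hx => ?_) ha fun i hi x hx => ?_
    · rcases (show i = 0 ∨ i = 1 ∨ i = 2 by omega) with rfl | rfl | rfl <;> simp at hx ⊢
      · exact hx
      · exact invZ α x hx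
    · rcases (show i = 0 ∨ i = 1 by omega) with rfl | rfl <;> simp at hx ⊢
      · exact ⟨by rw [hfix x hx, inv_mul_cancel], invZ a x hx⟩
      · exact hax x

/-- A pearl is quadratic in the sense of the focal argument. -/
theorem pearl_quad (hS : IsPGroup p S) (hF : F.IsSaturated p) {E : Subgroup Ω} (hE : F.IsEssential p E)
    (h : IsPearl p E) {Q : Type*} [CommGroup Q] :
    ∃ g ∈ normalizerIn S E, (∀ n ∈ normalizerIn S E, ∃ i : ℕ, (g ^ i)⁻¹ * n ∈ E) ∧
      ∀ (η : E →* Q) (x : E), ∀ h : g * (g * x * g⁻¹ * (x : Ω)⁻¹) * g⁻¹ *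
        (g * x * g⁻¹ * (x : Ω)⁻¹)⁻¹ ∈ E, η ⟨_, h⟩ = 1 := by
  have hES : E ≤ S := hE.2.1.1
  obtain ⟨A, hAn, -, -, -, hcomm, -, hAc, t, b, -, -, hgen, hmove, hfixb, -, -⟩ := pearl_torus hS hF hE hES h
  refine ⟨t, t.2, hgen, fun η x hx => ?_⟩
  set τ : MulAut E := ((nAut F hES t : F.autGroup E) : MulAut E) with hτ
  have hη : ∀ a ∈ A, η a = 1 := fun a ha => by
    have h1 : commutator E ≤ η.ker := by
      rw [_root_.commutator_def, commutator_le]
      intro u _ v _
      rw [MonoidHom.mem_ker, map_commutatorElement]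
      exact commutatorElement_eq_one_iff_mul_comm.2 (mul_comm _ _)
    exact h1 (hAc ha)
  have e : (⟨_, hx⟩ : E) = τ (τ x * x⁻¹) * (τ x * x⁻¹)⁻¹ := Subtype.ext rfl
  have hc : ∀ u v : E, η (u * v * u⁻¹) = η v := fun u v => by
    rw [map_mul, map_mul, map_inv, mul_inv_cancel_comm]
  obtain ⟨i, hi⟩ := hmove x
  obtain ⟨a, ha, hab⟩ : ∃ a ∈ A, τ x = x * (b ^ i * a) :=
    ⟨_, hi, by rw [mul_inv_cancel_left, mul_inv_cancel_left]⟩
  have hτA : ∀ a ∈ A, η (τ a) = 1 := fun a ha => by
    have h1 : commutator E ≤ (η.comp τ.toMonoidHom).ker := by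
      rw [_root_.commutator_def, commutator_le]
      intro u _ v _
      rw [MonoidHom.mem_ker, map_commutatorElement]
      exact commutatorElement_eq_one_iff_mul_comm.2 (mul_comm _ _)
    exact h1 (hAc ha)
  have h2 : η (τ b) = η b := by
    have := hη _ hfixb
    rwa [map_mul, map_inv, inv_mul_eq_one, eq_comm] at this
  have e1 : η (τ x) = η x * η b ^ i := by rw [hab, map_mul, map_mul, map_zpow, hη a ha, mul_one]
  have e2 : η (τ (τ x)) = η (τ x) * η b ^ i := by
    conv_lhs => rw [hab]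
    rw [map_mul τ, map_mul τ, map_zpow τ, map_mul η, map_mul η, map_zpow η, h2, hτA a ha, mul_one]
  have e3 : η (τ x⁻¹) = (η (τ x))⁻¹ := by rw [map_inv, map_inv]
  have key : ∀ u v : Q, u * v * v * (u * v)⁻¹ = u * v * u⁻¹ := fun u v => by
    rw [mul_comm u v, mul_inv_cancel_right, mul_comm (v * u) v, mul_inv_cancel_right]
  rw [e, map_mul η, map_inv η, mul_inv_eq_one, map_mul τ, map_mul η, e3, e2, e1, map_mul η, map_inv η, e1]
  exact key _ _

/-- An element with a power prime to `p` in a normal subgroup of index `p` lies in it. -/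
theorem mem_of_zpow_mem {G : Type*} [Group G] {M : Subgroup G} [M.Normal] (hM : M.index = p) {b : G} {i : ℤ}
    (hi : ¬ (p : ℤ) ∣ i) (h : b ^ i ∈ M) : b ∈ M := by
  obtain ⟨a1, a2, ha⟩ := (Prime.coprime_iff_not_dvd (Nat.prime_iff_prime_int.1 hp.out)).2 hi
  rw [← zpow_one b, ← ha, zpow_add, mul_comm a1, mul_comm a2, zpow_mul, zpow_mul, zpow_natCast]
  have h1 := pow_index_mem M b
  rw [hM] at h1
  exact mul_mem (zpow_mem h1 a1) (zpow_mem h a2)

/-- The weight of the centre of a pearl against the weight outside `twoStep`. -/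
theorem pearl_weights (hS : IsPGroup p S) (hF : F.IsSaturated p) (hcard : Nat.card S = p ^ 5)
    (hnab : ∀ A : Subgroup S, IsMulCommutative A → A.index ≠ p) {E : Subgroup Ω} (hE : F.IsEssential p E)
    (h : IsPearl p E) (hbig : ∀ R, F.IsEssential p R → Nat.card R ≤ Nat.card E)
    (l k : ℤ) (hlk : (p : ℤ) ∣ l * k - 1) :
    (Nat.card E = p ^ 2 → (k : ZMod p) ^ 5 = l) ∧ (Nat.card E = p ^ 3 → (k : ZMod p) ^ 5 = 1) := by
  have hES : E ≤ S := hE.2.1.1
  have := finite_of_le hES
  have hCE : centralizerIn S E ≤ E := hE.1.2 E (isConj_refl F hES)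
  have Ms := maxSetting_of_pearl hS hcard hE h
  obtain ⟨hMidx, hc3, hcc, h3card, h3zs, hcfg⟩ := max_cfg Ms hnab
  set M := H24.twoStep S 3
  have hMn : M.Normal := normal_of_index_eq_minFac_card (by
    rw [hMidx, hcard, Nat.pow_minFac (by norm_num), hp.out.minFac_eq])
  obtain ⟨A, hAn, hA2, hA3, hAZ, hcomm, hpw, -, t, b, -, hbA, -, -, -, hline, htor⟩ :=
    pearl_torus hS hF hE hES h
  let j : E →* S := Subgroup.inclusion hES
  have hjinj : Function.Injective j := Subgroup.inclusion_injective hES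
  have hcard23 : Nat.card E = p ^ 2 ∨ Nat.card E = p ^ 3 := h.imp And.left And.left
  -- the centre of `S`
  have hcE : ∀ z ∈ center S, ∃ y : E, j y = z ∧ y ∈ center E := fun z hz => by
    have hz' : (z : Ω) ∈ E := hCE (mem_centralizerIn.2 ⟨z.2, fun y hy => by
      have h := congrArg (fun u : S => (u : Ω)) (mem_center_iff.1 hz ⟨y, hES hy⟩)
      simp only [Subgroup.coe_mul] at h
      rw [← h, mul_inv_cancel_right]⟩)
    refine ⟨⟨z, hz'⟩, rfl, mem_center_iff.2 fun y => hjinj ?_⟩
    rw [map_mul, map_mul]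
    exact mem_center_iff.1 hz (j y)
  -- `E` is not inside `M`
  obtain ⟨x, hx⟩ : ∃ x : E, j x ∉ M := by
    by_contra! hall
    have h3E : ∀ u ∈ H24.lcw S 3, ∃ y : E, j y = u ∧ y ∈ center E := by
      intro u hu
      have hz := (h3zs hu).2
      have hu' : (u : Ω) ∈ E := hCE (mem_centralizerIn.2 ⟨u.2, fun y hy => by
        have h := congrArg (fun v : S => (v : Ω)) (mem_centralizer_iff.1 hz (j ⟨y, hy⟩) (hall ⟨y, hy⟩))
        simp only [Subgroup.coe_mul] at h
        change y * (u : Ω) = u * y at h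
        rw [← h, mul_inv_cancel_right]⟩)
      refine ⟨⟨u, hu'⟩, rfl, mem_center_iff.2 fun y => hjinj ?_⟩
      rw [map_mul, map_mul]
      exact mem_centralizer_iff.1 hz (j y) (hall y)
    have hle : H24.lcw S 3 ≤ (center E).map j := fun u hu => by
      obtain ⟨y, hy, hyc⟩ := h3E u hu
      exact ⟨y, hyc, hy⟩
    have hc := Subgroup.card_le_of_le hle
    rw [h3card, card_map_of_injective hjinj] at hc
    rcases h with ⟨he2, -, -⟩ | ⟨-, he, -⟩
    · have heq := Subgroup.eq_of_le_of_card_ge hle (by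
        rw [card_map_of_injective hjinj, h3card, ← he2]; exact Subgroup.card_le_card_group _)
      have hMC : ∀ m ∈ M, (m : Ω) ∈ E := fun m hm => hCE (mem_centralizerIn.2 ⟨m.2, fun y hy => by
        have hy0 : (⟨y, hy⟩ : E) ∈ center E := by
          rw [Subgroup.eq_top_of_card_eq (center E) (le_antisymm (Subgroup.card_le_card_group _)
            (he2 ▸ hc))]
          exact mem_top _
        have hy3 : j ⟨y, hy⟩ ∈ H24.lcw S 3 := heq ▸ mem_map_of_mem j hy0
        have h := congrArg (fun v : S => (v : Ω)) (mem_centralizer_iff.1 (h3zs hy3).2 m hm)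
        simp only [Subgroup.coe_mul] at h
        change (m : Ω) * y = y * m at h
        rw [h, mul_inv_cancel_right]⟩)
      have hMcard : Nat.card M = p ^ 4 := by
        have h := M.card_mul_index
        rw [hMidx, hcard, show p ^ 5 = p ^ 4 * p by ring] at h
        exact Nat.eq_of_mul_eq_mul_right hp.out.pos h
      have h2 : Nat.card M ≤ Nat.card E := Nat.card_le_card_of_injective (fun m : M => (⟨_, hMC m m.2⟩ : E))
        fun a b e => Subtype.ext (Subtype.ext (congrArg (fun u : E => (u : Ω)) e))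
      rw [hMcard, he2] at h2
      have := (Nat.pow_le_pow_iff_right hp.out.one_lt).1 h2
      omega
    · rw [he.2] at hc
      have := (Nat.pow_le_pow_iff_right hp.out.one_lt).1 (hc.trans_eq (pow_one p).symm)
      omega
  -- `A` and `b` lie in `M`
  have hcM : center S ≤ M := fun z hz => (h3zs (hc3 hz)).1
  have hAM : ∀ a ∈ A, j a ∈ M := by
    intro a ha
    rcases hcard23 with h2 | h3
    · rw [hA2 h2, mem_bot] at ha
      rw [ha, map_one]; exact one_mem _
    · have he : Cfsg.IsExtraspecial p E := by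
        rcases h with ⟨h2, -⟩ | ⟨-, he, -⟩
        · have := Nat.pow_right_injective hp.out.two_le (h2.symm.trans h3); omega
        · exact he
      have hle : center S ≤ (center E).map j := fun z hz => by
        obtain ⟨y, hy, hyc⟩ := hcE z hz
        exact ⟨y, hyc, hy⟩
      have heq := Subgroup.eq_of_le_of_card_ge hle (by rw [card_map_of_injective hjinj, he.2, hcc])
      rw [hA3 h3] at ha
      exact hcM (heq ▸ mem_map_of_mem j ha)
  have hBidx : (M.comap j).index = p := by
    rw [index_comap]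
    exact ((Nat.dvd_prime hp.out).1 (hMidx ▸ relIndex_dvd_index_of_normal M j.range)).resolve_left
      fun h1 => hx (relIndex_eq_one.1 h1 ⟨x, rfl⟩)
  have hBline : ∀ y, j y ∈ M → ∃ i : ℤ, (b ^ i)⁻¹ * y ∈ A := by
    intro y hy
    refine hline y ?_
    let N₀ := (normalizerIn S E).subgroupOf S
    have hNn : ∀ (n : S) (hn : n ∈ N₀) (u : E),
        j ((nAut F hES ⟨n, hn⟩ : MulAut E) u) = n * j u * n⁻¹ := fun n hn u => rfl
    have hnorm : ∀ C : Subgroup E, (∀ n : normalizerIn S E, ∀ u ∈ C, (nAut F hES n : MulAut E) u ∈ C) →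
        N₀ ≤ normalizer (C.map j : Set S) := fun C hC n hn => mem_normalizer_iff.2 fun z => by
      constructor
      · rintro ⟨u, hu, rfl⟩
        exact ⟨_, hC ⟨n, hn⟩ u hu, hNn n hn u⟩
      · rintro ⟨u, hu, huz⟩
        refine ⟨_, hC ⟨n, hn⟩⁻¹ u hu, ?_⟩
        show n⁻¹ * j u * n⁻¹⁻¹ = z
        rw [huz]; simp [mul_assoc]
    have hAinv : ∀ n : normalizerIn S E, ∀ u ∈ A, (nAut F hES n : MulAut E) u ∈ A := by
      intro n u hu
      rcases hcard23 with h2 | h3
      · rw [hA2 h2, mem_bot] at hu ⊢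
        rw [hu, map_one]
      · rw [hA3 h3] at hu ⊢
        refine mem_center_iff.2 fun v => ?_
        obtain ⟨v, rfl⟩ := (nAut F hES n : MulAut E).surjective v
        rw [← map_mul, ← map_mul, mem_center_iff.1 hu v]
    have hBinv : ∀ n : normalizerIn S E, ∀ u ∈ M.comap j, (nAut F hES n : MulAut E) u ∈ M.comap j :=
      fun n u hu => hMn.conj_mem (j u) hu ⟨n, n.2.1⟩
    have hidxA : A.index = p ^ 2 := by
      rcases hcard23 with h2 | h3
      · rw [hA2 h2, index_bot, h2]
      · have he : Cfsg.IsExtraspecial p E := by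
          rcases h with ⟨h2, -⟩ | ⟨-, he, -⟩
          · have := Nat.pow_right_injective hp.out.two_le (h2.symm.trans h3); omega
          · exact he
        have h := (center E).card_mul_index
        rw [he.2, h3, show p ^ 3 = p * p ^ 2 by ring] at h
        rw [hA3 h3]
        exact Nat.eq_of_mul_eq_mul_left hp.out.pos h
    have hrel : A.relIndex (M.comap j) = p := by
      have h := relIndex_mul_index (show A ≤ M.comap j from hAM)
      rw [hBidx, hidxA, sq] at h
      exact Nat.eq_of_mul_eq_mul_right hp.out.pos h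
    obtain ⟨u, hu, huc⟩ := H24.comm_mem_of_relIndex_prime hS (A := A.map j) (B := (M.comap j).map j) (M := N₀)
      (map_mono hAM) (fun z hz => by
        obtain ⟨u, -, rfl⟩ := hz
        exact le_normalizerIn hES u.2)
      (hnorm A hAinv) (hnorm _ hBinv) (by rw [relIndex_map_map_of_injective _ _ hjinj, hrel])
      (g := ⟨t, t.2.1⟩) t.2 (b := j y) ⟨y, hy, rfl⟩
    have h1 : (nAut F hES t : MulAut E) y = u * y := hjinj (by
      rw [map_mul, huc, commutatorElement_def, inv_mul_cancel_right]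
      rfl)
    rw [h1, ← mul_assoc]
    simpa using hAn.conj_mem u hu y⁻¹
  have hbM : j b ∈ M := by
    obtain ⟨y, hy, hyA⟩ : ∃ y ∈ M.comap j, y ∉ A := by
      by_contra! hle
      have h1 := index_dvd_of_le (show M.comap j ≤ A from hle)
      have h2 : A.index = p ∨ A.index = 1 := ((Nat.dvd_prime hp.out).1 (hBidx ▸ h1)).symm
      have hq : A.index = p ^ 2 := by
        rcases hcard23 with h2 | h3
        · rw [hA2 h2, index_bot, h2]
        · have he : Cfsg.IsExtraspecial p E := by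
            rcases h with ⟨h2, -⟩ | ⟨-, he, -⟩
            · have := Nat.pow_right_injective hp.out.two_le (h2.symm.trans h3); omega
            · exact he
          have h := (center E).card_mul_index
          rw [he.2, h3, show p ^ 3 = p * p ^ 2 by ring] at h
          rw [hA3 h3]
          exact Nat.eq_of_mul_eq_mul_left hp.out.pos h
      have := hp.out.two_le
      rw [hq, sq] at h2
      rcases h2 with h2 | h2 <;> nlinarith
    obtain ⟨i, hi⟩ := hBline y hy
    refine mem_of_zpow_mem hMidx (i := i) (fun hdvd => hyA ?_) ?_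
    · obtain ⟨q, rfl⟩ := hdvd
      have hb0 : b ^ ((p : ℤ) * q) ∈ A := by
        rw [zpow_mul, zpow_natCast]
        exact zpow_mem (hpw b) q
      simpa using mul_mem hb0 hi
    · have h1 := hAM _ hi
      rw [map_mul, map_inv, map_zpow] at h1
      exact (inv_mem_iff (H := M) (x := j b ^ i)).1 ((mul_mem_cancel_right (show j y ∈ M from hy)).1 h1)
  -- the automorphism
  obtain ⟨α, hαb, hαk, φ, hφ, hφα⟩ := htor l k hlk
  obtain ⟨f, hf, hfv⟩ := extend_to_top hS hF hφ fun R hR => by
    have := finite_of_le (normalizerIn_le S E)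
    refine (hbig R hR).trans_lt (lt_of_le_of_ne (Subgroup.card_le_of_le (le_normalizerIn hES)) fun e' => ?_)
    exact (lt_normalizerIn hS (lt_of_le_of_ne hES (IsEssential.ne_self hS hF hE))).ne
      (Subgroup.eq_of_le_of_card_ge (le_normalizerIn hES) e'.ge)
  have hfj : ∀ u : E, f (j u) = j ((α : MulAut E) u) := fun u => Subtype.ext (by
    rw [hfv _ (le_normalizerIn hES u.2)]
    exact hφα u)
  obtain ⟨i, hi⟩ := hαk x
  have hfx : (j x ^ k)⁻¹ * f (j x) ∈ M := by
    rw [hfj, ← map_zpow, ← map_inv, ← map_mul, ← mul_inv_cancel_left (b ^ i) (_ * _), map_mul]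
    exact mul_mem (by rw [map_zpow]; exact zpow_mem hbM i) (hAM _ hi)
  obtain ⟨e, cfg, hc, hZW⟩ := hcfg (j x) hx
  obtain ⟨-, -, hw⟩ := cfg.max_rigid hc hZW f (fun z => twoStep_map f 3 z) hfx
  refine ⟨fun h2 => ?_, fun h3 => ?_⟩
  · have hA := hA2 h2
    have hfb : f (j b) = j b ^ l := by
      rw [hA, mem_bot, inv_mul_eq_one] at hαb
      rw [hfj, ← hαb, map_zpow]
    have hb1 : j b ≠ 1 := fun e => hbA (by
      rw [hA, mem_bot]; exact hjinj (e.trans (map_one j).symm))
    have hbW : j b ∈ ⁅M, M⁆ := by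
      obtain ⟨z, hz, hz1⟩ : ∃ z ∈ center S, z ≠ 1 := by
        refine ((center S).bot_or_exists_ne_one).resolve_left fun h => ?_
        rw [h, card_bot] at hcc
        exact hp.out.ne_one hcc.symm
      obtain ⟨y, hy, -⟩ := hcE z hz
      obtain ⟨i, hi⟩ := hBline y (hy ▸ hcM hz)
      rw [hA, mem_bot, inv_mul_eq_one] at hi
      have hzi : j b ^ i = z := by rw [← map_zpow, hi, hy]
      obtain ⟨q, hq⟩ := mem_zpowers_of_prime (p := p) (W := zpowers (j b)) (by
        rw [Nat.card_zpowers]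
        refine orderOf_eq_prime ?_ hb1
        have h0 := hpw b
        rw [hA, mem_bot] at h0
        rw [← map_pow, h0, map_one]) (x := z) (hzi ▸ zpow_mem_zpowers _ i) hz1 (mem_zpowers _)
      rw [← hq, ← hZW]
      exact zpow_mem hz q
    have h1 := hw _ hbW
    rw [hfb] at h1
    have h2 := cast_eq_of_zpow hb1 (cfg.w_exp hbW) h1
    push_cast at h2
    exact h2.symm
  · have hA := hA3 h3
    obtain ⟨a', ha', hαb'⟩ : ∃ a' ∈ A, (α : MulAut E) b = b ^ l * a' :=
      ⟨_, hαb, (mul_inv_cancel_left _ _).symm⟩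
    obtain ⟨a, ha, hαx'⟩ : ∃ a ∈ A, (α : MulAut E) x = x ^ k * (b ^ i * a) :=
      ⟨_, hi, by rw [mul_inv_cancel_left, mul_inv_cancel_left]⟩
    have hcA : ∀ {u : E}, u ∈ A → ∀ v : E, Commute u v := fun hu v => (mem_center_iff.1 (hAZ hu) v).symm
    have hfw : (α : MulAut E) ⁅x, b⁆ = ⁅x, b⁆ := by
      have hkl : ((k * l : ℤ) : ZMod p) = ((1 : ℤ) : ZMod p) := by
        rw [mul_comm]
        exact ((ZMod.intCast_eq_intCast_iff_dvd_sub _ _ _).2 hlk).symm
      have hcxb : ∀ v, Commute ⁅x, b⁆ v := hcA (hcomm x b)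
      rw [map_commutatorElement, hαb', hαx', comm_eval (hcxb x) (hcxb b)
        (((Commute.refl b).zpow_left i).mul_left (hcA ha b)) (hcA ha' x).symm (hcA ha' _).symm,
        zpow_eq_of_cast (p := p) ?_ hkl, zpow_one]
      rw [← zpow_natCast, ← mul_one (p : ℤ), ← comm_zpow (hcxb x) (hcxb b), zpow_natCast, zpow_one]
      exact comm_eq_one (hcA (hpw x) b)
    have hne : ⁅x, b⁆ ≠ 1 := by
      intro h1
      refine hbA (hA ▸ mem_center_iff.2 fun y => ?_)
      obtain ⟨q, hq⟩ := H24.exists_pow_mul_mem (p := p) (N := M.comap j) (M := ⊤) le_top (by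
        rw [Subgroup.card_top, ← (M.comap j).card_mul_index, hBidx, mul_comm]) (mem_top x) hx (mem_top y)
      obtain ⟨q', hq'⟩ := hBline _ hq
      obtain ⟨c, hc', hy⟩ : ∃ c ∈ A, y = x ^ q * (b ^ q' * c) :=
        ⟨_, hq', by rw [mul_inv_cancel_left, mul_inv_cancel_left]⟩
      rw [hy]
      exact (((commute_of_comm h1).pow_left q).mul_left
        (((Commute.refl b).zpow_left q').mul_left (hcA hc' b))).eq
    have hWw : j ⁅x, b⁆ ∈ ⁅M, M⁆ := by
      have he : Cfsg.IsExtraspecial p E := by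
        rcases h with ⟨h2, -⟩ | ⟨-, he, -⟩
        · have := Nat.pow_right_injective hp.out.two_le (h2.symm.trans h3); omega
        · exact he
      have hle : center S ≤ (center E).map j := fun z hz => by
        obtain ⟨y, hy, hyc⟩ := hcE z hz
        exact ⟨y, hyc, hy⟩
      have heq := Subgroup.eq_of_le_of_card_ge hle (by rw [card_map_of_injective hjinj, he.2, hcc])
      rw [← hZW, heq]
      exact mem_map_of_mem j (hA ▸ hcomm x b)
    have h1 := hw _ hWw
    rw [hfj, hfw] at h1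
    have h2 := cast_eq_of_zpow (fun e => hne (hjinj (e.trans (map_one j).symm))) (cfg.w_exp hWw)
      (i := (1 : ℤ)) (j := k ^ 5) (by rw [zpow_one]; exact h1)
    push_cast at h2
    exact h2.symm

end Cfsg.Agent.H24.OrderFive
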