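import Mathlib

/-!
A vector fixed by the normalizer of a Sylow `p`-subgroup that acts quadratically through a single element on an
elementary abelian group, `p` odd, is fixed by the whole group.
-/

set_option autoImplicit false

namespace Cfsg.Agent.H24.OrderFive

open Subgroup

variable {A : Type*} [Group A] [Finite A] {D : Type*} [CommGroup D] [Finite D] {p : ℕ} [hp : Fact p.Prime]

theorem orbit_fixed (hp2 : p ≠ 2) (hexp : ∀ d : D, d ^ p = 1) (ρ : A →* MulAut D) (T : Sylow p A) (ψ : D)
    (hN : ∀ a ∈ normalizer ((T : Subgroup A) : Set A), ρ a ψ = ψ) {τ : A} (hτ : τ ∈ (T : Subgroup A))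
    (hgen : ∀ s ∈ (T : Subgroup A), ∃ i : ℕ, ρ s = ρ τ ^ i)
    (hquad : ∀ w : D, ρ τ (w⁻¹ * ρ τ w) = w⁻¹ * ρ τ w) : ∀ a : A, ρ a ψ = ψ := by
  classical
  have := Fintype.ofFinite A
  have := Fintype.ofFinite D
  have hiter : ∀ (w : D) (i : ℕ), (ρ τ ^ i) w = w * (w⁻¹ * ρ τ w) ^ i := by
    intro w i
    induction i with
    | zero => simp
    | succ i ih =>
      rw [pow_succ', MulAut.mul_apply, ih, map_mul, map_pow, hquad, pow_succ', ← mul_assoc w,
        mul_inv_cancel_left]
  -- the only point of the orbit fixed by the Sylow subgroup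
  have hfix : ∀ a : A, ρ τ (ρ a ψ) = ρ a ψ → ρ a ψ = ψ := by
    intro a ha
    let St : Subgroup A :=
      { carrier := {b | ρ b ψ = ψ}
        one_mem' := by simp
        mul_mem' := fun {b c} hb hc => by
          simp only [Set.mem_setOf_eq] at *
          rw [map_mul, MulAut.mul_apply, hc, hb]
        inv_mem' := fun {b} hb => by
          simp only [Set.mem_setOf_eq] at *
          conv_lhs => rw [← hb]
          rw [map_inv, MulAut.inv_apply_self] }
    have hTa : ∀ s ∈ (T : Subgroup A), a⁻¹ * s * a ∈ St := by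
      intro s hs
      obtain ⟨i, hi⟩ := hgen s hs
      show ρ (a⁻¹ * s * a) ψ = ψ
      rw [map_mul, map_mul, MulAut.mul_apply, MulAut.mul_apply, hi, hiter, ha, inv_mul_cancel, one_pow,
        mul_one, map_inv, MulAut.inv_apply_self]
    have hT : (T : Subgroup A) ≤ St := fun s hs => hN s (le_normalizer hs)
    obtain ⟨T', hT'⟩ : ∃ T', T' = a⁻¹ • T := ⟨_, rfl⟩
    have hT'St : (T' : Subgroup A) ≤ St := by
      intro s hs
      rw [hT', Sylow.coe_subgroup_smul, Subgroup.mem_pointwise_smul_iff_inv_smul_mem] at hs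
      have := hTa _ hs
      simpa [mul_assoc] using this
    obtain ⟨n, hn⟩ := MulAction.exists_smul_eq St (T'.subtype hT'St) (T.subtype hT)
    have hna : (n : A) * a⁻¹ ∈ normalizer ((T : Subgroup A) : Set A) := by
      refine (Sylow.smul_eq_iff_mem_normalizer (P := T)).1 ?_
      rw [mul_smul, ← hT']
      rw [Sylow.smul_subtype hT'St n] at hn
      exact Sylow.subtype_injective hn
    have h1 : ρ a⁻¹ ψ = ψ := by
      have h2 := hN _ hna
      rw [map_mul, MulAut.mul_apply] at h2
      exact (ρ (n : A)).injective (h2.trans n.2.symm)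
    conv_lhs => rw [← h1]
    rw [map_inv, MulAut.apply_inv_self]
  -- the product over the orbit
  let W : Finset D := Finset.univ.image fun a => ρ a ψ
  have hmem : ∀ {w}, w ∈ W → ∃ a, ρ a ψ = w := fun hw => by simpa [W] using hw
  have hψW : ψ ∈ W := Finset.mem_image.2 ⟨1, Finset.mem_univ _, by simp⟩
  have hWinv : ∀ b w, w ∈ W → ρ b w ∈ W := fun b w hw => by
    obtain ⟨a, rfl⟩ := hmem hw
    exact Finset.mem_image.2 ⟨b * a, Finset.mem_univ _, by rw [map_mul, MulAut.mul_apply]⟩
  have hprod : ∀ b, ρ b (∏ w ∈ W, w) = ∏ w ∈ W, w := by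
    intro b
    rw [map_prod]
    refine Finset.prod_bij (fun w _ => ρ b w) (fun w hw => hWinv b w hw) (fun _ _ _ _ h => (ρ b).injective h)
      (fun w hw => ⟨ρ b⁻¹ w, hWinv _ _ hw, by rw [map_inv, MulAut.apply_inv_self]⟩) fun w _ => rfl
  let O : D → Finset D := fun w => (Finset.range p).image fun i => (ρ τ ^ i) w
  have hperiod : ∀ w i, (ρ τ ^ i) w = (ρ τ ^ (i % p)) w := fun w i => by
    rw [hiter, hiter, pow_eq_pow_mod i (hexp _)]
  have hO : ∀ w i, O ((ρ τ ^ i) w) = O w := by
    intro w i
    ext v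
    simp only [O, Finset.mem_image, Finset.mem_range]
    constructor
    · rintro ⟨j, -, rfl⟩
      exact ⟨(j + i) % p, Nat.mod_lt _ hp.out.pos, by rw [← hperiod, pow_add, MulAut.mul_apply]⟩
    · rintro ⟨j, hj, rfl⟩
      refine ⟨(j + (p - i % p)) % p, Nat.mod_lt _ hp.out.pos, ?_⟩
      have hm := Nat.mod_lt i hp.out.pos
      rw [← hperiod, ← MulAut.mul_apply, ← pow_add, hperiod _ j, hperiod]
      congr 2
      rw [show j + (p - i % p) + i = j + (p - i % p + i % p) + p * (i / p) by
        have := Nat.mod_add_div i p; omega, Nat.add_mul_mod_self_left,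
        Nat.sub_add_cancel hm.le, Nat.add_mod_right]
  have hrest : ∏ w ∈ W.erase ψ, w = 1 := by
    rw [← Finset.prod_fiberwise_of_maps_to (t := (W.erase ψ).image O) (g := O)
      (fun w hw => Finset.mem_image_of_mem _ hw)]
    refine Finset.prod_eq_one fun o ho => ?_
    obtain ⟨w, hw, rfl⟩ := Finset.mem_image.1 ho
    obtain ⟨hwψ, hwW⟩ := Finset.mem_erase.1 hw
    have hd : w⁻¹ * ρ τ w ≠ 1 := by
      intro h
      obtain ⟨a, rfl⟩ := hmem hwW
      exact hwψ (hfix a (inv_mul_eq_one.1 h).symm)
    have hset : (W.erase ψ).filter (fun v => O v = O w) = O w := by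
      ext v
      rw [Finset.mem_filter]
      constructor
      · rintro ⟨-, hv⟩
        rw [← hv]
        exact Finset.mem_image.2 ⟨0, Finset.mem_range.2 hp.out.pos, by simp⟩
      · intro hv
        obtain ⟨i, -, rfl⟩ := Finset.mem_image.1 hv
        refine ⟨Finset.mem_erase.2 ⟨fun e => hd ?_, ?_⟩, hO w i⟩
        · have h2 : ρ τ ψ = ψ := hN τ (le_normalizer hτ)
          rw [← e, ← MulAut.mul_apply, ← pow_succ', pow_succ, MulAut.mul_apply] at h2
          rw [inv_mul_eq_one]
          exact ((ρ τ ^ i).injective h2).symm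
        · rw [← map_pow]
          exact hWinv _ _ hwW
    rw [hset]
    show ∏ v ∈ (Finset.range p).image (fun i => (ρ τ ^ i) w), v = 1
    rw [Finset.prod_image]
    · simp only [hiter, Finset.prod_mul_distrib, Finset.prod_const, Finset.card_range, hexp, one_mul]
      rw [Finset.prod_pow_eq_pow_sum]
      obtain ⟨m, hm⟩ : p ∣ ∑ i ∈ Finset.range p, i := by
        obtain ⟨k, hk⟩ := hp.out.odd_of_ne_two hp2
        refine ⟨k, ?_⟩
        have h2 := Finset.sum_range_id_mul_two p
        rw [hk] at h2 ⊢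
        simp only [Nat.add_sub_cancel] at h2
        linarith
      rw [show (∑ x ∈ Finset.range p, x) = p * m from hm, pow_mul, hexp, one_pow]
    · intro i hi j hj h
      simp only [hiter, mul_right_inj] at h
      have h3 : orderOf (w⁻¹ * ρ τ w) = p := orderOf_eq_prime (hexp _) hd
      exact pow_injOn_Iio_orderOf (by simpa [h3] using hi) (by simpa [h3] using hj) h
  have hP : ∏ w ∈ W, w = ψ := by
    rw [← Finset.mul_prod_erase W (fun w => w) hψW, hrest, mul_one]
  intro a
  rw [← hP]
  exact hprod a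

end Cfsg.Agent.H24.OrderFive
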