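import Cfsg.Agent.H93.Essential
import Cfsg.Agent.H93.Mor
import Cfsg.Agent.H93.PearlData
import Cfsg.Agent.H24.OrderFive.Orbit

/-!
A homomorphism of `S` into an elementary abelian group that is invariant under `Aut_F(S)` is invariant under
the whole system, if every essential subgroup is normalized by a single quadratic element modulo itself.
-/

set_option autoImplicit false

namespace Cfsg.Agent.H24.OrderFive

open Subgroup Cfsg.FusionSystem
open Agent.H93

variable {Ω : Type*} [Group Ω] {S : Subgroup Ω} [Finite S] {p : ℕ} [hp : Fact p.Prime] {F : FusionSystem S}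

/-- A map of a fully normalized subgroup compatible with conjugation extends to the normalizer. -/
theorem extend_normalizer (hS : IsPGroup p S) (hF : F.IsSaturated p) {R : Subgroup Ω}
    (hR : F.IsFullyNormalized R) {f : Ω → Ω} (hf : Mor F R R f)
    (hc : ∀ n ∈ normalizerIn S R, ∃ h ∈ S, ∀ x ∈ R, f (n * x * n⁻¹) = h * f x * h⁻¹) :
    ∃ g : Ω → Ω, Mor F (normalizerIn S R) (normalizerIn S R) g ∧ ∀ x ∈ R, g x = f x := by
  obtain ⟨g, X, hg, hgR, hgRR⟩ := hf.extend (IsFullyNormalized.isReceptive hS hF hR)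
    (M := normalizerIn S R) fun m hm => ⟨hm, hc m hm⟩
  rw [sup_eq_right.2 (le_normalizerIn hR.1)] at hg
  have hle : X ≤ normalizerIn S R := fun y hy => by
    obtain ⟨x, hx, rfl⟩ := hg.surj hy
    exact hg.map_mem_normalizerIn hgRR (le_normalizerIn hR.1) hx hx.2
  have := finite_of_le (normalizerIn_le S R)
  rw [Subgroup.eq_of_le_of_card_ge hle hg.card_eq.le] at hg
  exact ⟨g, hg, hgR⟩

/-- An automorphism normalizing `Aut_S(R)` extends to `N_S(R)`. -/
theorem extend_of_normalizes (hS : IsPGroup p S) (hF : F.IsSaturated p) {R : Subgroup Ω}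
    (hR : F.IsFullyNormalized R) {α : MulAut R} (hα : α ∈ F.autGroup R)
    (hn : ∀ β ∈ autInducedBy S R, α * β * α⁻¹ ∈ autInducedBy S R) :
    ∃ g : Ω → Ω, Mor F (normalizerIn S R) (normalizerIn S R) g ∧ ∀ x : R, g x = ((α x : R) : Ω) := by
  obtain ⟨f, hf, hfα⟩ := exists_mor_of_aut hR.1 hα
  obtain ⟨g, hg, hgf⟩ := extend_normalizer hS hF hR hf fun n hn' => by
    obtain ⟨h, hh, he⟩ := mem_autInducedBy.1 (hn _ (mem_autInducedBy.2
      ⟨n, hn'.1, fun x => conjAut_apply S R ⟨n, hn'⟩ x⟩))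
    refine ⟨h, hh, fun x hx => ?_⟩
    have h1 := he (α ⟨x, hx⟩)
    rw [MulAut.mul_apply, MulAut.mul_apply, MulAut.inv_apply_self] at h1
    rw [show f x = _ from hfα ⟨x, hx⟩, ← h1]
    exact hfα (conjAut S R ⟨n, hn'⟩ ⟨x, hx⟩)
  exact ⟨g, hg, fun x => (hgf x x.2).trans (hfα x)⟩

/-- Invariance of an essential automizer, given invariance of the larger maps. -/
theorem invariant_step (hS : IsPGroup p S) (hF : F.IsSaturated p) (hp2 : p ≠ 2) {Q : Type*} [CommGroup Q]
    [Finite Q] (hQ : ∀ q : Q, q ^ p = 1) (χ : Ω → Q) (hχ : ∀ x ∈ S, ∀ y ∈ S, χ (x * y) = χ x * χ y)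
    {R : Subgroup Ω} (hR : F.IsEssential p R)
    (hbig : ∀ g : Ω → Ω, Mor F (normalizerIn S R) (normalizerIn S R) g →
      ∀ x ∈ normalizerIn S R, χ (g x) = χ x)
    {g : Ω} (hg : g ∈ normalizerIn S R) (hgen : ∀ n ∈ normalizerIn S R, ∃ i : ℕ, (g ^ i)⁻¹ * n ∈ R)
    (hquad : ∀ (η : R →* Q) (x : R), ∀ h : g * (g * x * g⁻¹ * (x : Ω)⁻¹) * g⁻¹ *
      (g * x * g⁻¹ * (x : Ω)⁻¹)⁻¹ ∈ R, η ⟨_, h⟩ = 1) :
    ∀ α ∈ F.autGroup R, ∀ x : R, χ ((α x : R) : Ω) = χ x := by
  classical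
  obtain ⟨-, hn, -⟩ := hR
  have hRS : R ≤ S := hn.1
  have := finite_of_le hRS
  have := finite_mulAut hRS
  have : Finite (R →* Q) := Finite.of_injective _ DFunLike.coe_injective
  let η₀ : R →* Q := MonoidHom.mk' (fun x => χ x) fun a b => hχ _ (hRS a.2) _ (hRS b.2)
  let σ : MulAut R → MulAut (R →* Q) := fun a =>
    { toFun := fun η => η.comp (a⁻¹ : MulAut R).toMonoidHom
      invFun := fun η => η.comp a.toMonoidHom
      left_inv := fun η => MonoidHom.ext fun x => by simp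
      right_inv := fun η => MonoidHom.ext fun x => by simp
      map_mul' := fun η θ => rfl }
  let ρ : F.autGroup R →* MulAut (R →* Q) := MonoidHom.mk' (fun a => σ (a : MulAut R)) fun a b =>
    MulEquiv.ext fun η => MonoidHom.ext fun x => by simp [σ]
  have hρ : ∀ (a : F.autGroup R) (η : R →* Q) (x : R), ρ a η x = η ((a : MulAut R)⁻¹ x) := fun _ _ _ => rfl
  obtain ⟨-, T, hT⟩ := IsFullyNormalized.isFullyAutomized hS hF hn
  have hmemT : ∀ s : F.autGroup R, s ∈ (T : Subgroup _) ↔ (s : MulAut R) ∈ autInducedBy S R := fun s => by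
    rw [hT]; rfl
  let τ : F.autGroup R := ⟨conjAut S R ⟨g, hg⟩, autInducedBy_le_autGroup F hRS (by
    rw [autInducedBy_eq_range]; exact ⟨_, rfl⟩)⟩
  have hτ : τ ∈ (T : Subgroup _) := (hmemT τ).2 (by rw [autInducedBy_eq_range]; exact ⟨_, rfl⟩)
  have hinn : ∀ (η : R →* Q) (r x : R), η (r * x * r⁻¹) = η x := fun η r x => by
    rw [map_mul, map_mul, map_inv, mul_comm (η r), mul_inv_cancel_right]
  have hexp : ∀ d : R →* Q, d ^ p = 1 := fun d => MonoidHom.ext fun x => hQ _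
  have key := orbit_fixed hp2 hexp ρ T η₀ ?_ hτ ?_ ?_
  · intro α hα x
    have h := key ⟨α⁻¹, Subgroup.inv_mem _ hα⟩
    have h2 := congrArg (fun η : R →* Q => η x) h
    simp only [hρ, inv_inv] at h2
    exact h2
  · intro a ha
    refine MonoidHom.ext fun x => ?_
    obtain ⟨k, hk, hka⟩ := extend_of_normalizes hS hF hn (Subgroup.inv_mem _ a.2) fun β hβ => by
      have h1 := (mem_normalizer_iff.1 (inv_mem ha) ⟨β, autInducedBy_le_autGroup F hRS hβ⟩).1
        ((hmemT _).2 hβ)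
      exact (hmemT _).1 h1
    rw [hρ]
    show χ _ = χ _
    rw [← hka x]
    exact hbig k hk _ (le_normalizerIn hRS x.2)
  · intro s hs
    obtain ⟨n, hn', he⟩ := mem_autInducedBy.1 ((hmemT s).1 hs)
    have hnN : n ∈ normalizerIn S R := ⟨hn', mem_normalizer_of_conj_eq he⟩
    obtain ⟨i, hi⟩ := hgen n hnN
    refine ⟨i, MulEquiv.ext fun η => MonoidHom.ext fun x => ?_⟩
    rw [← map_pow, hρ, hρ]
    obtain ⟨r, hr⟩ : ∃ r : R, (r : Ω) = (g ^ i)⁻¹ * n := ⟨⟨_, hi⟩, rfl⟩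
    have hs' : (s : MulAut R) = ((τ ^ i : F.autGroup R) : MulAut R) * MulAut.conj r := by
      refine MulEquiv.ext fun y => Subtype.ext ?_
      rw [he y, MulAut.mul_apply]
      show _ = ((((conjAut S R ⟨g, hg⟩) ^ i) (MulAut.conj r y) : R) : Ω)
      rw [← map_pow, conjAut_apply]
      show _ = g ^ i * ((r : Ω) * y * (r : Ω)⁻¹) * (g ^ i)⁻¹
      rw [hr]
      simp [mul_assoc]
    rw [hs', mul_inv_rev, MulAut.mul_apply]
    generalize ((τ ^ i : F.autGroup R) : MulAut R)⁻¹ x = y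
    rw [← map_inv, MulAut.conj_apply, hinn]
  · intro η
    refine MonoidHom.ext fun x => ?_
    obtain ⟨y, rfl⟩ : ∃ y, x = (τ : MulAut R) ((τ : MulAut R) y) := ⟨(τ : MulAut R)⁻¹ ((τ : MulAut R)⁻¹ x),
      by simp⟩
    simp only [hρ, MonoidHom.mul_apply, MonoidHom.inv_apply, MulAut.inv_apply_self]
    have e : ∀ z : R, (((τ : MulAut R) z : R) : Ω) = g * z * g⁻¹ := fun z => rfl
    have h1 := hquad η y
    set w : R := (τ : MulAut R) y * y⁻¹ with hw
    have hw' : (w : Ω) = g * y * g⁻¹ * (y : Ω)⁻¹ := by rw [hw]; simp [e]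
    have h2 : η ((τ : MulAut R) w * w⁻¹) = 1 := by
      rw [← hw'] at h1
      refine Eq.trans (congrArg η (Subtype.ext ?_)) (h1 ((τ : MulAut R) w * w⁻¹).2)
      simp [e]
    simp only [hw, map_mul, map_inv, mul_inv_rev, inv_inv] at h2
    rw [← mul_inv_eq_one]
    rw [← h2]
    simp only [mul_inv_rev, inv_inv]
    ac_rfl

/-- Invariance under the whole system. -/
theorem hom_invariant (hS : IsPGroup p S) (hF : F.IsSaturated p) (hp2 : p ≠ 2) {Q : Type*} [CommGroup Q]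
    [Finite Q] (hQ : ∀ q : Q, q ^ p = 1) (χ : Ω → Q) (hχ : ∀ x ∈ S, ∀ y ∈ S, χ (x * y) = χ x * χ y)
    (hAut : ∀ α ∈ F.autGroup S, ∀ x : S, χ ((α x : S) : Ω) = χ x)
    (hess : ∀ R, F.IsEssential p R → ∃ g ∈ normalizerIn S R,
      (∀ n ∈ normalizerIn S R, ∃ i : ℕ, (g ^ i)⁻¹ * n ∈ R) ∧
      ∀ (η : R →* Q) (x : R), ∀ h : g * (g * x * g⁻¹ * (x : Ω)⁻¹) * g⁻¹ *
        (g * x * g⁻¹ * (x : Ω)⁻¹)⁻¹ ∈ R, η ⟨_, h⟩ = 1)
    {P : Subgroup Ω} {φ : P →* Ω} (hφ : φ ∈ F.Hom P) (x : P) : χ (φ x) = χ x := by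
  suffices main : ∀ (d : ℕ) (R : Subgroup Ω), Nat.card S - Nat.card R = d → F.IsEssential p R →
      ∀ α ∈ F.autGroup R, ∀ x : R, χ ((α x : R) : Ω) = χ x by
    refine alperin_essential_induction hS hF (fun P φ => ∀ x : P, χ (φ x) = χ x)
      (fun P R h φ _ hc x => hc (Subgroup.inclusion h x))
      (fun P Q φ ψ _ _ h1 h2 hh x => (h2 ⟨φ x, hh x⟩).trans (h1 x)) (fun U hU α hα => ?_) hφ x
    rcases hU with rfl | hU
    · exact hAut α hα
    · exact main _ U rfl hU α hα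
  intro d
  induction d using Nat.strong_induction_on with
  | _ d ih =>
  intro R hd hR
  obtain ⟨g, hg, hgen, hquad⟩ := hess R hR
  refine invariant_step hS hF hp2 hQ χ hχ hR ?_ hg hgen hquad
  intro k hk y hy
  obtain ⟨φ', hφ', -, hv⟩ := hk
  rw [← hv ⟨y, hy⟩]
  have := finite_of_le (normalizerIn_le S R)
  have hlt : Nat.card R < Nat.card (normalizerIn S R) :=
    lt_of_le_of_ne (Subgroup.card_le_of_le (le_normalizerIn hR.2.1.1)) fun e =>
      (lt_normalizerIn hS (lt_of_le_of_ne hR.2.1.1 (IsEssential.ne_self hS hF hR))).ne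
        (Subgroup.eq_of_le_of_card_ge (le_normalizerIn hR.2.1.1) e.ge)
  refine (alperin_essential_induction hS hF (fun P φ => Nat.card P ≤ Nat.card R ∨ ∀ x : P, χ (φ x) = χ x)
    ?_ ?_ ?_ hφ').resolve_left hlt.not_ge ⟨y, hy⟩
  · rintro A B h φ hA (hc | hc)
    · have := finite_of_le (le_of_hom hA)
      exact Or.inl ((Subgroup.card_le_of_le h).trans hc)
    · exact Or.inr fun x => hc (Subgroup.inclusion h x)
  · rintro A B φ ψ hA hB (hc | hc) hc' h
    · exact Or.inl hc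
    rcases hc' with hc' | hc'
    · refine Or.inl (le_trans ?_ hc')
      have := finite_of_le (le_of_hom hB)
      exact Nat.card_le_card_of_injective (φ.codRestrict B h) fun a b e =>
        F.injective_of_mem hA (congrArg Subtype.val e)
    · exact Or.inr fun x => (hc' ⟨φ x, h x⟩).trans (hc x)
  · rintro U (rfl | hU) α hα
    · exact Or.inr (hAut α hα)
    rcases le_or_gt (Nat.card U) (Nat.card R) with hle | hgt
    · exact Or.inl hle
    · refine Or.inr (ih _ ?_ U rfl hU α hα)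
      have : Nat.card U ≤ Nat.card S := Subgroup.card_le_of_le hU.2.1.1
      omega

end Cfsg.Agent.H24.OrderFive
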