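import Cfsg.Agent.H24.OrderFive.Torus
import Cfsg.Agent.H24.OrderFive.Focal
import Cfsg.Agent.H24.OrderFive.Bilinear
import Cfsg.Agent.H95.NormalCriteria

/-!
Tori of essential subgroups with a transvection in their automizer.
-/

set_option autoImplicit false

namespace Cfsg.Agent.H24.OrderFive

open Subgroup Cfsg.FusionSystem
open Agent.H93

/-- The action on the quotient by an invariant normal subgroup. -/
def quotAut {E : Type*} [Group E] (N : Subgroup E) [N.Normal] (A : Subgroup (MulAut E))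
    (h : ∀ a ∈ A, ∀ x ∈ N, a x ∈ N) : A →* MulAut (E ⧸ N) :=
  MonoidHom.mk' (fun a => MonoidHom.toMulEquiv
      (QuotientGroup.map N N (a : MulAut E).toMonoidHom fun x hx => h _ a.2 x hx)
      (QuotientGroup.map N N (a⁻¹ : A).1.toMonoidHom fun x hx => h _ (a⁻¹ : A).2 x hx)
      (MonoidHom.ext fun q => QuotientGroup.induction_on q fun x => by simp)
      (MonoidHom.ext fun q => QuotientGroup.induction_on q fun x => by simp))
    fun a b => MulEquiv.ext fun q => QuotientGroup.induction_on q fun x => by simp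

@[simp] theorem quotAut_mk {E : Type*} [Group E] (N : Subgroup E) [N.Normal] (A : Subgroup (MulAut E))
    (h : ∀ a ∈ A, ∀ x ∈ N, a x ∈ N) (a : A) (x : E) :
    quotAut N A h a (x : E ⧸ N) = (((a : MulAut E) x : E) : E ⧸ N) := rfl

variable {Ω : Type*} [Group Ω] {S : Subgroup Ω} [Finite S] {p : ℕ} [hp : Fact p.Prime] {F : FusionSystem S}

/-- An automorphism stabilizing an invariant chain of an essential subgroup is inner. -/
theorem mem_inn_of_chain (hS : IsPGroup p S) {E : Subgroup Ω} (hE : F.IsEssential p E) [Finite E] (m : ℕ)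
    (W : ℕ → Subgroup E) (h0 : W 0 = ⊥) (hm : W m = ⊤)
    (hinv : ∀ α ∈ F.autGroup E, ∀ i ≤ m, ∀ x ∈ W i, α x ∈ W i) {a : MulAut E}
    (ha : a ∈ F.autGroup E) (haW : a ∈ H95.chainStab W m) : a ∈ Inn E := by
  have hrad := IsEssential.isRadical hS hE
  have hES : E ≤ S := hE.2.1.1
  set N := (H95.chainStab W m).subgroupOf (F.autGroup E) with hN
  have hNn : N.Normal := by
    refine ⟨fun γ hγ α i hi x hx => ?_⟩
    have hy : (α : MulAut E)⁻¹ x ∈ W (i + 1) := hinv _ (Subgroup.inv_mem _ α.2) (i + 1) hi x hx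
    obtain ⟨h1, h2⟩ := hγ i hi _ hy
    refine ⟨?_, hinv _ α.2 (i + 1) hi _ h2⟩
    have h3 := hinv _ α.2 i hi.le _ h1
    rw [map_mul, map_inv, MulAut.apply_inv_self] at h3
    exact h3
  have hNp : IsPGroup p N :=
    (H95.isPGroup_chainStab (hS.to_le hES) h0 hm).comap_of_injective _ (F.autGroup E).subtype_injective
  exact hrad.2.le ⟨⟨a, ha⟩, H19.le_pCore (N := N) hNn hNp haW, rfl⟩

/-- Conjugation by an element of `N_S(E)` as a member of `Aut_F(E)`. -/
noncomputable def nAut (F : FusionSystem S) {E : Subgroup Ω} (hES : E ≤ S) :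
    normalizerIn S E →* F.autGroup E :=
  (conjAut S E).codRestrict (F.autGroup E) fun g => autInducedBy_le_autGroup F hES (by
    rw [autInducedBy_eq_range]; exact ⟨g, rfl⟩)

omit [Finite S] in
theorem nAut_apply {E : Subgroup Ω} (hES : E ≤ S) (n : normalizerIn S E) (x : E) :
    ((((nAut F hES n : F.autGroup E) : MulAut E) x : E) : Ω) = n * (x : Ω) * (n : Ω)⁻¹ := rfl

/-- The torus of an essential subgroup with a transvection. -/
theorem essential_torus (hS : IsPGroup p S) (hF : F.IsSaturated p) {E : Subgroup Ω}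
    (hE : F.IsEssential p E) (hES : E ≤ S) {M : Type*} [CommGroup M] [Finite M] (hexp : ∀ m : M, m ^ p = 1)
    (ρ : F.autGroup E →* MulAut M) (hker : ∀ a, ρ a = 1 → (a : MulAut E) ∈ Inn E)
    (hinn : ∀ a : F.autGroup E, (a : MulAut E) ∈ Inn E → ρ a = 1)
    (t : normalizerIn S E) (htE : (t : Ω) ∉ E) {z : M}
    (move : ∀ m, ∃ i : ℤ, ρ (nAut F hES t) m = m * z ^ i)
    (fix : ∀ n, ρ (nAut F hES n) z = z) :
    (∀ n ∈ normalizerIn S E, ∃ i : ℕ, ((t : Ω) ^ i)⁻¹ * n ∈ E) ∧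
      ∀ l k : ℤ, (p : ℤ) ∣ l * k - 1 → ∃ α : F.autGroup E, ρ α z = z ^ l ∧
        (∀ m, ρ (nAut F hES t) m = m → m⁻¹ * ρ α m ∈ zpowers z) ∧
        (∀ m, ρ (nAut F hES t) ((m ^ k)⁻¹ * ρ α m) = (m ^ k)⁻¹ * ρ α m) ∧
        ∃ g : Ω → Ω, Mor F (normalizerIn S E) (normalizerIn S E) g ∧
          (∀ x : E, g x = (((α : MulAut E) x : E) : Ω)) ∧ ((t : Ω) ^ (l * l))⁻¹ * g t ∈ E := by
  classical
  obtain ⟨hc, hn, hnor, H, hH⟩ := id hE
  have hCE : centralizerIn S E ≤ E := hc.2 E (isConj_refl F hES)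
  have := finite_of_le hES
  have := finite_mulAut hES
  have := finite_of_le (normalizerIn_le S E)
  set I := (Inn E).subgroupOf (F.autGroup E) with hI
  let φ : (F.autGroup E ⧸ I) →* MulAut M := QuotientGroup.lift I ρ fun a ha => hinn a ha
  have hφ : Function.Injective φ := by
    rw [injective_iff_map_eq_one]
    intro a
    induction a using QuotientGroup.induction_on with | H a => ?_
    intro h
    exact (QuotientGroup.eq_one_iff a).2 (hker a h)
  let ι : normalizerIn S E →* F.autGroup E ⧸ I := (QuotientGroup.mk' I).comp (nAut F hES)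
  have hker' : ∀ n : normalizerIn S E, ι n = 1 → (n : Ω) ∈ E := by
    intro n hn'
    have h0 : nAut F hES n ∈ I := (QuotientGroup.eq_one_iff (nAut F hES n)).1 hn'
    obtain ⟨u, hu⟩ : ∃ u : E, MulAut.conj u = ((nAut F hES n : F.autGroup E) : MulAut E) := h0
    have h1 : (u : Ω)⁻¹ * n ∈ centralizerIn S E := by
      refine mem_centralizerIn.2 ⟨mul_mem (inv_mem (hES u.2)) n.2.1, fun x hx => ?_⟩
      have e : (u : Ω) * x * (u : Ω)⁻¹ = n * x * (n : Ω)⁻¹ := by
        have h2 := congrArg (fun f : MulAut E => ((f ⟨x, hx⟩ : E) : Ω)) hu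
        simp only [nAut_apply, MulAut.conj_apply, Subgroup.coe_mul, InvMemClass.coe_inv] at h2
        exact h2
      calc (u : Ω)⁻¹ * n * x * ((u : Ω)⁻¹ * n)⁻¹ = (u : Ω)⁻¹ * (n * x * (n : Ω)⁻¹) * u := by simp [mul_assoc]
        _ = x := by rw [← e]; simp [mul_assoc]
    simpa using E.mul_mem u.2 (hCE h1)
  have hU : IsPGroup p ι.range :=
    (isPGroup_of_le hS (normalizerIn_le S E)).of_surjective _ ι.rangeRestrict_surjective
  have hfix : ∀ g ∈ ι.range, φ g z = z := by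
    rintro _ ⟨n, rfl⟩; exact fix n
  have ht1 : ι t ≠ 1 := fun h => htE (hker' _ h)
  have hUeq : ι.range = zpowers (ι t) :=
    (transvection_spe hexp φ hφ hH hU ⟨t, rfl⟩ ht1 move hfix).1
  refine ⟨fun n hn' => ?_, fun l k hlk => ?_⟩
  · obtain ⟨i, hi⟩ : ∃ i : ℕ, ι t ^ i = ι ⟨n, hn'⟩ :=
      (mem_powers_iff_mem_zpowers).2 (hUeq ▸ ⟨_, rfl⟩ : ι ⟨n, hn'⟩ ∈ zpowers (ι t))
    refine ⟨i, hker' ((t ^ i)⁻¹ * ⟨n, hn'⟩) ?_⟩
    rw [map_mul, map_inv, map_pow, hi, inv_mul_cancel]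
  obtain ⟨β, hβt, hβz, hβfix⟩ := spe_torus hexp φ hφ hH ht1 (hU.to_le (zpowers_le.2 ⟨t, rfl⟩))
    (z := z) move (hfix _ ⟨t, rfl⟩) hlk
  obtain ⟨α, rfl⟩ := QuotientGroup.mk'_surjective I β
  refine ⟨α, hβz, hβfix, fun m => ?_, ?_⟩
  · obtain ⟨i, hi⟩ := move m
    obtain ⟨j, hj⟩ := move (ρ α m)
    have hz : ∀ q : ℤ, ρ (nAut F hES t) (z ^ q) = z ^ q := fun q => by rw [map_zpow, fix]
    by_cases hz1 : z = 1
    · obtain ⟨q, hq⟩ := move ((m ^ k)⁻¹ * ρ α m)
      rw [hq, hz1, one_zpow, mul_one]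
    have h1 : φ (ι t ^ (l * l)) (ρ α m) = φ (QuotientGroup.mk' I α) (φ (ι t) m) := by
      rw [← hβt]
      simp only [map_mul, map_inv, MulAut.mul_apply]
      show φ (QuotientGroup.mk' I α) (φ (ι t) ((φ (QuotientGroup.mk' I α))⁻¹ (φ (QuotientGroup.mk' I α) m))) = _
      rw [MulAut.inv_apply_self]
    rw [map_zpow, H95.zpow_apply_of_fixed (φ (ι t)) (m := ρ α m) hj (hz j),
      show φ (ι t) m = m * z ^ i from hi, map_mul, map_zpow,
      show φ (QuotientGroup.mk' I α) z = z ^ l from hβz] at h1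
    rw [← zpow_mul, ← zpow_mul] at h1
    have h2 := cast_eq_of_zpow hz1 (hexp z) (mul_left_cancel h1)
    have h3 : ((l * k : ℤ) : ZMod p) = ((1 : ℤ) : ZMod p) :=
      ((ZMod.intCast_eq_intCast_iff_dvd_sub _ _ _).2 hlk).symm
    push_cast at h2 h3
    rw [map_mul, map_inv, map_zpow, hi, hj, mul_zpow, ← zpow_mul, mul_inv, mul_mul_mul_comm,
      ← zpow_neg z, ← zpow_add, zpow_eq_of_cast (hexp z) (j := (0 : ℤ)) ?_, zpow_zero, mul_one]
    push_cast
    linear_combination (k : ZMod p) ^ 2 * h2 - (j : ZMod p) * ((l : ZMod p) * k + 1) * h3 +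
      (i : ZMod p) * k * h3
  · have hmem : ∀ n : normalizerIn S E, ∃ n' : normalizerIn S E, ι n' =
        QuotientGroup.mk' I α * ι n * (QuotientGroup.mk' I α)⁻¹ := by
      intro n
      obtain ⟨i, hi⟩ := (hUeq ▸ ⟨n, rfl⟩ : ι n ∈ zpowers (ι t))
      exact ⟨t ^ (l * l * i), by rw [← hi, ← conj_zpow, hβt, map_zpow, zpow_mul]⟩
    obtain ⟨g, hg, hgα⟩ := extend_of_normalizes hS hF hn α.2 fun b hb => by
      rw [autInducedBy_eq_range] at hb ⊢
      obtain ⟨n, rfl⟩ := hb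
      obtain ⟨n', hn'⟩ := hmem n
      have h1 : (nAut F hES n')⁻¹ * (α * nAut F hES n * α⁻¹) ∈ I := by
        rw [← QuotientGroup.eq_one_iff]
        show QuotientGroup.mk' I _ = 1
        rw [map_mul, map_mul, map_mul, map_inv, map_inv]
        exact inv_mul_eq_one.2 hn'
      obtain ⟨u, hu⟩ : ∃ u : E, MulAut.conj u =
          (((nAut F hES n')⁻¹ * (α * nAut F hES n * α⁻¹) : F.autGroup E) : MulAut E) := h1
      refine ⟨n' * ⟨(u : Ω), le_normalizerIn hES u.2⟩, ?_⟩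
      rw [map_mul]
      have hu' : conjAut S E ⟨(u : Ω), le_normalizerIn hES u.2⟩ = MulAut.conj u :=
        MulEquiv.ext fun x => Subtype.ext rfl
      rw [hu', hu]
      show (conjAut S E n') * ((conjAut S E n')⁻¹ * _) = _
      rw [mul_inv_cancel_left]
      rfl
    refine ⟨g, hg, hgα, ?_⟩
    have hgt : g t ∈ normalizerIn S E := hg.map_mem t.2
    have h1 : nAut F hES ⟨g t, hgt⟩ = α * nAut F hES t * α⁻¹ := by
      refine Subtype.ext (MulEquiv.ext fun x => Subtype.ext ?_)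
      obtain ⟨y, rfl⟩ := (α : MulAut E).surjective x
      rw [nAut_apply]
      show g t * _ * (g t)⁻¹ =
        (((α : MulAut E) ((nAut F hES t : MulAut E) ((α : MulAut E)⁻¹ ((α : MulAut E) y)))) : Ω)
      rw [MulAut.inv_apply_self, ← hgα, ← hgα, ← hg.map_conj t.2 (le_normalizerIn hES y.2)]
      rfl
    refine hker' ((t ^ (l * l))⁻¹ * ⟨g t, hgt⟩) ?_
    rw [map_mul, map_inv, map_zpow, ← hβt]
    show (QuotientGroup.mk' I α * ι t * (QuotientGroup.mk' I α)⁻¹)⁻¹ * QuotientGroup.mk' I (nAut F hES ⟨g t, hgt⟩) = 1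
    rw [h1, map_mul, map_mul, map_inv]
    exact inv_mul_cancel _

end Cfsg.Agent.H24.OrderFive
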