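import Cfsg.Agent.H24.OrderFive.Cfg
import Cfsg.Agent.H24.OrderFive.EssentialTorus

/-!
Extension of maps to the whole group, and translation between a subgroup of `S` in `Ω` and in `↥S`.
-/

set_option autoImplicit false

namespace Cfsg.Agent.H24.OrderFive

open Subgroup Cfsg.FusionSystem
open Agent.H93
open scoped commutatorElement

variable {Ω : Type*} [Group Ω] {S : Subgroup Ω} [Finite S] {p : ℕ} [hp : Fact p.Prime] {F : FusionSystem S}

/-- A map of a subgroup larger than all essential subgroups extends to `S`. -/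
theorem extend_to_top (hS : IsPGroup p S) (hF : F.IsSaturated p) {X Y : Subgroup Ω} {g : Ω → Ω}
    (hg : Mor F X Y g) (hbig : ∀ R, F.IsEssential p R → Nat.card R < Nat.card X) :
    ∃ f ∈ F.autGroup S, ∀ x : S, (x : Ω) ∈ X → ((f x : S) : Ω) = g x := by
  obtain ⟨φ, hφ, -, hv⟩ := hg
  have hle := le_of_hom hφ
  have := finite_of_le hle
  have h := (alperin_essential_induction hS hF
    (fun P φ => Nat.card P < Nat.card X ∨
      ∃ f ∈ F.autGroup S, ∀ (x : P) (hx : (x : Ω) ∈ S), φ x = ((f ⟨x, hx⟩ : S) : Ω))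
    ?_ ?_ ?_ hφ).resolve_left (lt_irrefl _)
  · obtain ⟨f, hf, hfe⟩ := h
    exact ⟨f, hf, fun x hx => (hfe ⟨x, hx⟩ x.2).symm.trans (hv ⟨x, hx⟩)⟩
  · rintro A B h φ hA (hc | ⟨f, hf, hfe⟩)
    · have := finite_of_le (le_of_hom hA)
      exact Or.inl ((Subgroup.card_le_of_le h).trans_lt hc)
    · exact Or.inr ⟨f, hf, fun x hx => hfe (Subgroup.inclusion h x) hx⟩
  · rintro A B φ ψ hA hB (hc | ⟨f, hf, hfe⟩) hc' h
    · exact Or.inl hc
    rcases hc' with hc' | ⟨f', hf', hfe'⟩
    · refine Or.inl (lt_of_le_of_lt ?_ hc')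
      have := finite_of_le (le_of_hom hB)
      exact Nat.card_le_card_of_injective (φ.codRestrict B h) fun a b e =>
        F.injective_of_mem hA (congrArg Subtype.val e)
    · refine Or.inr ⟨f' * f, mul_mem hf' hf, fun x hx => ?_⟩
      show ψ ⟨φ x, h x⟩ = _
      rw [hfe' ⟨φ x, h x⟩ (apply_mem hA x), MulAut.mul_apply]
      exact congrArg (fun y : S => ((f' y : S) : Ω)) (Subtype.ext (hfe x hx))
  · rintro U (rfl | hU) α hα
    · exact Or.inr ⟨α, hα, fun x hx => rfl⟩
    · exact Or.inl (hbig U hU)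

omit [Finite S] in
theorem mem_zs_iff {E : Subgroup Ω} (hES : E ≤ S) {x : S} :
    x ∈ zs (E.subgroupOf S) ↔ (x : Ω) ∈ E ∧ ∀ y ∈ E, y * (x : Ω) = (x : Ω) * y := by
  simp only [zs, mem_inf, mem_subgroupOf, mem_centralizer_iff, SetLike.mem_coe]
  refine and_congr_right fun _ => ⟨fun h y hy => ?_, fun h y hy => Subtype.ext (h y hy)⟩
  exact congrArg Subtype.val (h ⟨y, hES hy⟩ hy)

omit [Finite S] in
theorem mem_zs_center {E : Subgroup Ω} (hES : E ≤ S) (x : E) :
    (⟨x, hES x.2⟩ : S) ∈ zs (E.subgroupOf S) ↔ x ∈ center E := by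
  rw [mem_zs_iff hES, mem_center_iff]
  exact ⟨fun h y => Subtype.ext (h.2 y y.2), fun h => ⟨x.2, fun y hy => congrArg Subtype.val (h ⟨y, hy⟩)⟩⟩

omit [Finite S] in
theorem card_zs {E : Subgroup Ω} (hES : E ≤ S) :
    Nat.card (zs (E.subgroupOf S)) = Nat.card (center E) := by
  have h : (zs (E.subgroupOf S)).map S.subtype = (center E).map E.subtype := by
    ext y
    constructor
    · rintro ⟨x, hx, rfl⟩
      exact ⟨⟨x, ((mem_zs_iff hES).1 hx).1⟩, (mem_zs_center hES ⟨x, _⟩).1 hx, rfl⟩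
    · rintro ⟨x, hx, rfl⟩
      exact ⟨_, (mem_zs_center hES x).2 hx, rfl⟩
  rw [← card_map_of_injective S.subtype_injective, h, card_map_of_injective E.subtype_injective]

omit [Finite S] in
theorem comm_map {E : Subgroup Ω} (hES : E ≤ S) :
    (⁅E.subgroupOf S, E.subgroupOf S⁆ : Subgroup S).map S.subtype = (commutator E).map E.subtype := by
  rw [map_commutator, map_subgroupOf_eq_of_le hES, map_subtype_commutator]

omit [Finite S] in
theorem mem_comm_iff {E : Subgroup Ω} (hES : E ≤ S) (x : E) :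
    (⟨x, hES x.2⟩ : S) ∈ (⁅E.subgroupOf S, E.subgroupOf S⁆ : Subgroup S) ↔ x ∈ commutator E := by
  rw [← mem_map_iff_mem (f := S.subtype) S.subtype_injective, comm_map hES]
  exact mem_map_iff_mem (f := E.subtype) E.subtype_injective

end Cfsg.Agent.H24.OrderFive
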