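import Cfsg.Agent.H24.MaxClassEssential
import Cfsg.Agent.H24.OrderFive.Top
import Cfsg.Agent.H24.OrderFive.Four
import Cfsg.Agent.H24.OrderFive.Rigid
import Cfsg.Agent.H24.OrderFive.CaseFour

/-!
An elementary abelian essential subgroup of order `p ^ 3` in a group of order `p ^ 5` without abelian subgroup
of index `p`.
-/

set_option autoImplicit false

namespace Cfsg.Agent.H24.OrderFive

open Subgroup Cfsg.FusionSystem
open Agent.H93
open scoped commutatorElement

variable {Ω : Type*} [Group Ω] {S : Subgroup Ω} [Finite S] {p : ℕ} [hp : Fact p.Prime] {F : FusionSystem S}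

/-- The normalizer in `S` read inside `↥S`. -/
theorem normalizer_subgroupOf {E : Subgroup Ω} (hES : E ≤ S) :
    normalizer (E.subgroupOf S : Set S) = (normalizerIn S E).subgroupOf S := by
  ext g
  rw [mem_normalizer_iff, mem_subgroupOf]
  constructor
  · intro h
    refine ⟨g.2, mem_normalizer_iff.2 fun x => ⟨fun hx => (h ⟨x, hES hx⟩).1 hx, fun hx => ?_⟩⟩
    have hxS : x ∈ S := by simpa [mul_assoc] using mul_mem (mul_mem (inv_mem g.2) (hES hx)) g.2
    exact (h ⟨x, hxS⟩).2 hx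
  · intro h x
    exact mem_normalizer_iff.1 h.2 x

/-- The configuration of an elementary abelian essential subgroup of order `p ^ 3`. -/
theorem three_shape (hS : IsPGroup p S) (hF : F.IsSaturated p) (hcard : Nat.card S = p ^ 5)
    (hnab : ∀ A : Subgroup S, IsMulCommutative A → A.index ≠ p) {E : Subgroup Ω} (hE : F.IsEssential p E)
    (hE3 : Nat.card E = p ^ 3) (hab : IsMulCommutative E) (hexp : ∀ x ∈ E, x ^ p = 1) :
    Nat.card (normalizerIn S E) = p ^ 4 ∧ ∃ g e : S, Cfg p ((normalizerIn S E).subgroupOf S) g e ∧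
      (e : Ω) ∈ E ∧ ((⁅g, e⁆ : S) : Ω) ∉ E ∧ ∀ z ∈ zs ((normalizerIn S E).subgroupOf S), (z : Ω) ∈ E := by
  classical
  have hES : E ≤ S := hE.2.1.1
  have hCE : centralizerIn S E ≤ E := hE.1.2 E (isConj_refl F hES)
  have := finite_of_le hES
  have := finite_of_le (normalizerIn_le S E)
  set E₀ := E.subgroupOf S with hE₀
  have hE₀c : Nat.card E₀ = p ^ 3 := by
    rw [Nat.card_congr (subgroupOfEquivOfLe hES).toEquiv, hE3]
  have hN₀ := normalizer_subgroupOf (S := S) hES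
  have hab₀ : IsMulCommutative E₀ := ⟨⟨fun a b => Subtype.ext (Subtype.ext
    (congrArg (fun y : E => (y : Ω)) (hab.is_comm.comm ⟨_, a.2⟩ ⟨_, b.2⟩)))⟩⟩
  have hCE₀ : centralizer (E₀ : Set S) ≤ E₀ := fun g hg => hCE (mem_centralizerIn.2 ⟨g.2, fun x hx => by
    have := congrArg Subtype.val (mem_centralizer_iff.1 hg ⟨x, hES hx⟩ hx)
    simp only [Subgroup.coe_mul] at this
    show (g : Ω) * x * (g : Ω)⁻¹ = x
    rw [← this, mul_inv_cancel_right]⟩)
  have hNcard : Nat.card (normalizer (E₀ : Set S)) = Nat.card (normalizerIn S E) := by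
    rw [hN₀, Nat.card_congr (subgroupOfEquivOfLe (normalizerIn_le S E)).toEquiv]
  have hlt : E < normalizerIn S E :=
    lt_normalizerIn hS (lt_of_le_of_ne hES (IsEssential.ne_self hS hF hE))
  have hN4 : Nat.card (normalizerIn S E) = p ^ 4 := by
    have hle : Nat.card (normalizerIn S E) ≤ p ^ 4 := by
      rcases exists_fixed_transvection hS hE₀c hab₀ hCE₀ with h | ⟨t, ht, htE, z, hz, hmv, hfx⟩
      · exact hNcard ▸ h
      have memN : ∀ g : S, g ∈ normalizer (E₀ : Set S) → (g : Ω) ∈ normalizerIn S E := fun g hg => by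
        rw [hN₀] at hg; exact hg
      refine (aut_cyclic hS hE hE3 hab hexp (memN t ht) htE (z := z) hz (fun x hx => ?_)
        (fun g hg => ?_)).1
      · obtain ⟨i, hi⟩ := hmv ⟨x, hES hx⟩ hx
        exact ⟨i, by simpa using congrArg Subtype.val hi⟩
      · exact congrArg Subtype.val (hfx ⟨g, hg.1⟩ (by rw [hN₀]; exact hg))
    obtain ⟨k, hk⟩ := IsPGroup.iff_card.1 (isPGroup_of_le hS (normalizerIn_le S E))
    have h3 : p ^ 3 < p ^ k := by
      rw [← hk, ← hE3]
      exact lt_of_le_of_ne (Subgroup.card_le_of_le hlt.le) fun e =>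
        hlt.ne (Subgroup.eq_of_le_of_card_ge hlt.le e.ge)
    rw [hk] at hle ⊢
    rw [le_antisymm ((Nat.pow_le_pow_iff_right hp.out.one_lt).1 hle)
      ((Nat.pow_lt_pow_iff_right hp.out.one_lt).1 h3)]
  refine ⟨hN4, ?_⟩
  set M := (normalizerIn S E).subgroupOf S with hM
  have hMc : Nat.card M = p ^ 4 := by
    rw [hM, Nat.card_congr (subgroupOfEquivOfLe (normalizerIn_le S E)).toEquiv, hN4]
  have hMidx : M.index = p := by
    have h := M.card_mul_index
    rw [hMc, hcard, show p ^ 5 = p ^ 4 * p by ring] at h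
    exact Nat.eq_of_mul_eq_mul_left (pow_pos hp.out.pos 4) h
  have hMn : M.Normal := normal_of_index_eq_minFac_card (by
    rw [hMidx, hcard, Nat.pow_minFac (by norm_num), hp.out.minFac_eq])
  have hEM : E₀ ≤ M := fun x hx => hlt.le hx
  obtain ⟨g, -, hgM⟩ : ∃ g ∈ (⊤ : Subgroup S), g ∉ M := SetLike.exists_of_lt (lt_top_iff_ne_top.2 fun h => by
    rw [h, index_top] at hMidx; exact hp.out.ne_one hMidx.symm)
  set E' := E₀.map (MulAut.conj g).toMonoidHom with hE'
  have hE'c : Nat.card E' = p ^ 3 := by rw [hE', card_map_of_injective (MulAut.conj g).injective, hE₀c]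
  have hE'M : E' ≤ M := by
    rintro _ ⟨x, hx, rfl⟩; exact hMn.conj_mem x (hEM hx) g
  have hne : ¬ E' ≤ E₀ := by
    intro h
    refine hgM (hN₀.le (mem_normalizer_iff.2 fun x => ⟨fun hx => h ⟨x, hx, rfl⟩, fun hx => ?_⟩))
    have hE : g * x * g⁻¹ ∈ E₀ := hx
    rw [← Subgroup.eq_of_le_of_card_ge h (by rw [hE₀c, hE'c])] at hE
    exact (mem_map_iff_mem (MulAut.conj g).injective).1 hE
  obtain ⟨_, ⟨e, he, rfl⟩, hgeE⟩ := SetLike.not_le_iff_exists.1 hne
  have hye : ⁅g, e⁆ ∉ E₀ := by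
    intro h
    refine hgeE ?_
    have := mul_mem h he
    rwa [commutatorElement_def, inv_mul_cancel_right] at this
  -- the centre of `M`
  have hzE : zs M ≤ E₀ := fun z hz => hCE₀ (mem_centralizer_iff.2 fun x hx =>
    mem_centralizer_iff.1 hz.2 x (hEM hx))
  have hna : ¬ IsMulCommutative M := fun h => hnab M h hMidx
  have hD : p ^ 2 ≤ Nat.card (zs M) := by
    rw [← card_inf_of_four hS hEM hE'M hE₀c hE'c hMc (fun h => hne h.ge)]
    refine Subgroup.card_le_of_le fun d hd => ⟨hEM hd.1, mem_centralizer_iff.2 fun m hm => ?_⟩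
    have hsup : E₀ ⊔ E' = M := by
      refine Subgroup.eq_of_le_of_card_ge (sup_le hEM hE'M) ?_
      obtain ⟨k, hk⟩ := IsPGroup.iff_card.1 (hS.to_subgroup (E₀ ⊔ E'))
      have h1 : p ^ 3 < Nat.card (E₀ ⊔ E' : Subgroup S) := by
        rw [← hE₀c]
        exact lt_of_le_of_ne (Subgroup.card_le_of_le le_sup_left) fun e1 => hne (by
          rw [Subgroup.eq_of_le_of_card_ge (le_sup_left : E₀ ≤ E₀ ⊔ E') e1.ge]; exact le_sup_right)
      rw [hk] at h1 ⊢
      rw [hMc]
      exact Nat.pow_le_pow_right hp.out.pos ((Nat.pow_lt_pow_iff_right hp.out.one_lt).1 h1)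
    have hle : E₀ ⊔ E' ≤ centralizer ({d} : Set S) := by
      refine sup_le (fun x hx => mem_centralizer_singleton_iff.2 ?_) ?_
      · exact congrArg Subtype.val (hab₀.is_comm.comm ⟨x, hx⟩ ⟨d, hd.1⟩)
      · rintro _ ⟨x, hx, rfl⟩
        obtain ⟨d', hd', hdd⟩ := hd.2
        rw [mem_centralizer_singleton_iff, ← hdd, ← map_mul, ← map_mul]
        exact congrArg _ (congrArg Subtype.val (hab₀.is_comm.comm ⟨x, hx⟩ ⟨d', hd'⟩))
    rw [← hsup] at hm
    exact mem_centralizer_singleton_iff.1 (hle hm)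
  have hZ : Nat.card (zs M) = p ^ 2 := by
    obtain ⟨k, hk⟩ := IsPGroup.iff_card.1 (hS.to_subgroup (zs M))
    have h3 : Nat.card (zs M) ≤ p ^ 3 := hE₀c ▸ Subgroup.card_le_of_le hzE
    rw [hk] at hD h3 ⊢
    have h2 := (Nat.pow_le_pow_iff_right hp.out.one_lt).1 hD
    have h3' := (Nat.pow_le_pow_iff_right hp.out.one_lt).1 h3
    rcases (show k = 2 ∨ k = 3 by omega) with rfl | rfl
    · rfl
    exfalso
    refine hna ?_
    have hc : Nat.card (center (normalizerIn S E)) = p ^ 3 := by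
      rw [← card_zs (normalizerIn_le S E)]; exact hk
    have hq := Subgroup.card_eq_card_quotient_mul_card_subgroup (center (normalizerIn S E))
    rw [hN4, hc, show p ^ 4 = p * p ^ 3 by ring] at hq
    have := H24.isCyclic_of_card_pow_le (G := normalizerIn S E ⧸ center (normalizerIn S E)) (k := 1)
      (p := p) (by rw [pow_one]; exact (Nat.eq_of_mul_eq_mul_right (pow_pos hp.out.pos 3) hq).symm) le_rfl
    have hcomm := H24.isMulCommutative_of_cyclic_quotient (le_refl (center (normalizerIn S E)))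
    exact ⟨⟨fun a b => Subtype.ext (Subtype.ext (congrArg (fun y : normalizerIn S E => (y : Ω))
      (hcomm.is_comm.comm ⟨_, a.2⟩ ⟨_, b.2⟩)))⟩⟩
  have hW : Nat.card (⁅M, M⁆ : Subgroup S) = p := by
    rw [hM, ← card_map_of_injective S.subtype_injective, comm_map (normalizerIn_le S E),
      card_map_of_injective (normalizerIn S E).subtype_injective]
    refine comm_card_of_center hN4 (fun h => hna ?_) (by rw [← card_zs (normalizerIn_le S E)]; exact hZ)
    exact ⟨⟨fun a b => Subtype.ext (Subtype.ext (congrArg (fun y : normalizerIn S E => (y : Ω))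
      (h.is_comm.comm ⟨_, a.2⟩ ⟨_, b.2⟩)))⟩⟩
  exact ⟨g, e, ⟨hcard, hMc, hZ, hW, hgM, hEM he, fun h => hye (hzE h)⟩, he, hye, fun z hz => hzE hz⟩

/-- The tori, when no essential subgroup has order `p ^ 4` or more. -/
theorem three_torus (hS : IsPGroup p S) (hF : F.IsSaturated p) {E : Subgroup Ω} (hE : F.IsEssential p E)
    (hab : IsMulCommutative E) (hexp : ∀ x ∈ E, x ^ p = 1)
    (hN4 : Nat.card (normalizerIn S E) = p ^ 4) (hbig : ∀ R, F.IsEssential p R → Nat.card R < p ^ 4)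
    {g e : S} (c : Cfg p ((normalizerIn S E).subgroupOf S) g e) (he : (e : Ω) ∈ E)
    (hy : ((⁅g, e⁆ : S) : Ω) ∉ E) (hz : ∀ z ∈ zs ((normalizerIn S E).subgroupOf S), (z : Ω) ∈ E)
    (l k : ℤ) (hlk : (p : ℤ) ∣ l * k - 1) :
    ∃ f ∈ F.autGroup S, ∃ s : ℤ, (s : ZMod p) * k = (l : ZMod p) ^ 2 ∧
      (g ^ s)⁻¹ * f g ∈ (normalizerIn S E).subgroupOf S ∧
      (e ^ k)⁻¹ * f e ∈ zs ((normalizerIn S E).subgroupOf S) ⊔ zpowers ⁅g, e⁆ ∧
      ∀ z ∈ zs ((normalizerIn S E).subgroupOf S),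
        z⁻¹ * f z ∈ ⁅(normalizerIn S E).subgroupOf S, (normalizerIn S E).subgroupOf S⁆ := by
  classical
  have hES : E ≤ S := hE.2.1.1
  have := finite_of_le hES
  have := finite_mulAut hES
  have := c.finite
  have := c.zs_normal
  have := c.w_normal
  have := c.normal
  set M := (normalizerIn S E).subgroupOf S with hM
  letI : CommGroup E := { (inferInstance : Group E) with mul_comm := hab.is_comm.comm }
  have hEM : ∀ x : E, Subgroup.inclusion hES x ∈ M := fun x => le_normalizerIn hES x.2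
  let j : E →* S := Subgroup.inclusion hES
  have hjinj : Function.Injective j := Subgroup.inclusion_injective hES
  let t : normalizerIn S E := ⟨((⁅g, e⁆ : S) : Ω), c.y_mem⟩
  have hjt : ∀ x : E, j ((nAut F hES t : MulAut E) x) = ⁅⁅g, e⁆, j x⁆ * j x := fun x => Subtype.ext (by
    simp only [commutatorElement_def, inv_mul_cancel_right, Subgroup.coe_mul, InvMemClass.coe_inv]
    rfl)
  have hWE : ∀ w ∈ ⁅M, M⁆, (w : Ω) ∈ E := fun w hw => hz w (c.w_le_zs hw)
  let w₀ : E := ⟨((⁅e, ⁅g, e⁆⁆ : S) : Ω), hWE _ c.w_mem⟩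
  have hjw : j w₀ = ⁅e, ⁅g, e⁆⁆ := rfl
  have move : ∀ m : E, ∃ i : ℤ, ((nAut F hES t : MulAut E)) m = m * w₀ ^ i := by
    intro m
    have hw : ⁅⁅g, e⁆, j m⁆ ∈ ⁅M, M⁆ := commutator_mem_commutator c.y_mem (hEM m)
    obtain ⟨i, hi⟩ := mem_zpowers_of_prime (p := p) c.cardW c.w_mem c.w_ne hw
    exact ⟨i, hjinj (by rw [hjt, map_mul, map_zpow, hjw, hi, (c.comm_w hw (j m)).eq])⟩
  have fix : ∀ n : normalizerIn S E, ((nAut F hES n : MulAut E)) w₀ = w₀ := fun n => by
    refine Subtype.ext ?_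
    rw [nAut_apply]
    have h := congrArg (fun y : S => (y : Ω)) (c.comm_w c.w_mem ⟨n, n.2.1⟩).eq
    simp only [Subgroup.coe_mul] at h
    show (n : Ω) * ((⁅e, ⁅g, e⁆⁆ : S) : Ω) * (n : Ω)⁻¹ = _
    rw [← h, mul_inv_cancel_right]
  have hpe : ∀ m : E, m ^ p = 1 := fun m => Subtype.ext (by simpa using hexp m m.2)
  obtain ⟨-, htor⟩ := essential_torus hS hF hE hES hpe (F.autGroup E).subtype
    (fun a ha => by
      have ha' : (a : MulAut E) = 1 := ha
      rw [ha']
      exact one_mem _)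
    (fun a ha => by
      obtain ⟨u, hu⟩ : ∃ u : E, MulAut.conj u = (a : MulAut E) := ha
      show (a : MulAut E) = 1
      rw [← hu]
      exact MulEquiv.ext fun x => by rw [MulAut.conj_apply, MulAut.one_apply, mul_comm u, mul_inv_cancel_right])
    t hy (z := w₀) move fix
  obtain ⟨α, -, hαfix, hαk, φ, hφ, hφα, hφt⟩ := htor l k hlk
  obtain ⟨f, hf, hfv⟩ := extend_to_top hS hF hφ fun R hR => hN4 ▸ hbig R hR
  have hfj : ∀ x : E, f (j x) = j ((α : MulAut E) x) := fun x => Subtype.ext (by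
    rw [hfv _ (le_normalizerIn hES x.2)]
    exact hφα x)
  have hfe : (e ^ k)⁻¹ * f e ∈ zs M ⊔ zpowers ⁅g, e⁆ := by
    have h := congrArg j (hαk ⟨e, he⟩)
    have h0 : j ((⟨e, he⟩ : E) ^ k)⁻¹ * j ((α : MulAut E) ⟨e, he⟩) = (e ^ k)⁻¹ * f e := by
      rw [← hfj, map_inv, map_zpow]; rfl
    rw [show ((F.autGroup E).subtype α : MulAut E) = α from rfl,
      show ((F.autGroup E).subtype (nAut F hES t) : MulAut E) = (nAut F hES t : MulAut E) from rfl, hjt,
      mul_eq_right, map_mul, h0] at h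
    refine c.mem_K_of_commute ?_ (commute_of_comm h).symm
    rw [← h0, ← map_mul]
    exact hEM _
  have hfz : ∀ z ∈ zs M, z⁻¹ * f z ∈ ⁅M, M⁆ := by
    intro z hz'
    have hjx : j ⟨z, hz z hz'⟩ = z := rfl
    have h1 : ((F.autGroup E).subtype (nAut F hES t) : MulAut E) ⟨z, hz z hz'⟩ = ⟨z, hz z hz'⟩ := hjinj (by
      show j ((nAut F hES t : MulAut E) _) = _
      rw [hjt, hjx, comm_eq_one (c.commute_zs hz' c.y_mem).symm, one_mul])
    obtain ⟨i, hi⟩ := hαfix _ h1
    have h2 := congrArg j hi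
    simp only at h2
    rw [map_zpow, hjw, map_mul, map_inv, show ((F.autGroup E).subtype α : MulAut E) = α from rfl, ← hfj,
      hjx] at h2
    rw [← h2]
    exact zpow_mem c.w_mem i
  refine ⟨f, hf, ?_⟩
  obtain ⟨s, m, hm, hfg⟩ := c.coordsG (f g)
  refine ⟨s, ?_, by rw [hfg, inv_mul_cancel_left]; exact hm, hfe, hfz⟩
  -- the exponent of `g`
  let π := QuotientGroup.mk' (zs M)
  obtain ⟨η, hη, hfe'⟩ : ∃ η ∈ zs M ⊔ zpowers ⁅g, e⁆, f e = e ^ k * η :=
    ⟨_, hfe, (mul_inv_cancel_left _ _).symm⟩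
  have hηM : η ∈ M := sup_le c.zs_le_M (zpowers_le.2 c.y_mem) hη
  have hgη : Commute (π g) (π η) := by
    obtain ⟨z, hz', v, ⟨q, rfl⟩, rfl⟩ := mem_sup_of_normal_left.1 hη
    show Commute (π g) (π (z * ⁅g, e⁆ ^ q))
    rw [map_mul, map_zpow, mk_eq_one.2 hz', one_mul]
    exact (commute_mk (c.comm_y_zs g)).zpow_right q
  have h1 : π (f ⁅g, e⁆) = π ⁅g, e⁆ ^ (s * k) := by
    rw [map_commutatorElement f, hfg, hfe', map_commutatorElement π, map_commutatorElement π g, map_mul,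
      map_mul, map_zpow, map_zpow]
    exact comm_eval (by rw [← map_commutatorElement]; exact commute_mk (comm_swap_mem (c.comm_y_zs g)))
      (by rw [← map_commutatorElement]; exact commute_mk (comm_swap_mem (c.comm_y_zs e)))
      (commute_mk (c.comm_M_zs hm c.eM)) hgη (commute_mk (c.comm_M_zs hm hηM)) _ _
  have h2 : (((⁅g, e⁆ ^ (l * l))⁻¹ * f ⁅g, e⁆ : S) : Ω) ∈ E := by
    rw [Subgroup.coe_mul, InvMemClass.coe_inv, SubgroupClass.coe_zpow, hfv ⁅g, e⁆ c.y_mem]
    exact hφt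
  have h3 : (((⁅g, e⁆ ^ (s * k))⁻¹ * f ⁅g, e⁆ : S) : Ω) ∈ E :=
    hz _ (mk_eq_one.1 (by rw [map_mul, map_inv, map_zpow, ← h1, inv_mul_cancel]))
  have h4 : ((⁅g, e⁆ ^ (s * k - l * l) : S) : Ω) ∈ E := by
    have := mul_mem h3 (inv_mem h2)
    rw [← InvMemClass.coe_inv, ← Subgroup.coe_mul, mul_inv_rev, inv_inv, mul_assoc,
      mul_inv_cancel_left, ← zpow_neg, ← zpow_add] at this
    have h := inv_mem this
    rw [← InvMemClass.coe_inv, ← zpow_neg] at h
    rwa [show -(-(s * k) + l * l) = s * k - l * l by ring] at h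
  have h5 : ((s * k - l * l : ℤ) : ZMod p) = 0 := by
    by_contra hne
    rw [ZMod.intCast_zmod_eq_zero_iff_dvd] at hne
    obtain ⟨a1, a2, ha⟩ := (Prime.coprime_iff_not_dvd (Nat.prime_iff_prime_int.1 hp.out)).2 hne
    have hyp : ((⁅g, e⁆ ^ (p : ℤ) : S) : Ω) ∈ E := by
      have h := pow_index_mem ((zs M).subgroupOf (zs M ⊔ zpowers ⁅g, e⁆))
        (⟨_, mem_sup_right (mem_zpowers ⁅g, e⁆)⟩ : ↥(zs M ⊔ zpowers ⁅g, e⁆))
      have hidx : ((zs M).subgroupOf (zs M ⊔ zpowers ⁅g, e⁆)).index = p := by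
        have h := card_mul_relIndex (le_sup_left : zs M ≤ zs M ⊔ zpowers ⁅g, e⁆)
        rw [c.cardZ, c.cardK, show p ^ 3 = p ^ 2 * p by ring] at h
        exact Nat.eq_of_mul_eq_mul_left (pow_pos hp.out.pos 2) h
      rw [hidx, mem_subgroupOf] at h
      rw [zpow_natCast]
      exact hz _ (by simpa using h)
    refine hy ?_
    have : ((⁅g, e⁆ : S) : Ω) = ((⁅g, e⁆ ^ (p : ℤ) : S) : Ω) ^ a1 * ((⁅g, e⁆ ^ (s * k - l * l) : S) : Ω) ^ a2 := by
      rw [← SubgroupClass.coe_zpow, ← SubgroupClass.coe_zpow, ← Subgroup.coe_mul, ← zpow_mul, ← zpow_mul,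
        ← zpow_add, show (p : ℤ) * a1 + (s * k - l * l) * a2 = 1 by linear_combination ha, zpow_one]
    rw [this]
    exact mul_mem (zpow_mem hyp a1) (zpow_mem h4 a2)
  push_cast at h5
  linear_combination h5

end Cfsg.Agent.H24.OrderFive
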