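import Cfsg.Agent.H24.OrderFive.Bilinear
import Cfsg.Agent.H24.MaxClassLie
import Cfsg.Agent.H24.MaxClassSmallSelfCentralizing

/-!
A group of order `p ^ 5` with a non-abelian maximal subgroup `M` of derived length two and centre of order
`p ^ 2`, and an element outside `M` acting nontrivially on `M / Z(M)`.
-/

set_option autoImplicit false

namespace Cfsg.Agent.H24.OrderFive

open Subgroup
open scoped commutatorElement

variable {G : Type*} [Group G]

/-- The centre of a subgroup, as a subgroup of the ambient group. -/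
def zs (M : Subgroup G) : Subgroup G := M ⊓ centralizer (M : Set G)

/-- The configuration. -/
structure Cfg (p : ℕ) (M : Subgroup G) (g e : G) : Prop where
  card : Nat.card G = p ^ 5
  cardM : Nat.card M = p ^ 4
  cardZ : Nat.card (zs M) = p ^ 2
  cardW : Nat.card (⁅M, M⁆ : Subgroup G) = p
  gM : g ∉ M
  eM : e ∈ M
  yZ : ⁅g, e⁆ ∉ zs M

variable {p : ℕ} [hp : Fact p.Prime] {M : Subgroup G} {g e : G}

/-- Every element of a subgroup of prime order is a power of each nontrivial one. -/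
theorem mem_zpowers_of_prime {W : Subgroup G} (hW : Nat.card W = p) {x y : G} (hx : x ∈ W) (hx1 : x ≠ 1)
    (hy : y ∈ W) : ∃ k : ℤ, x ^ k = y := by
  have := mem_zpowers_of_prime_card (G := W) hW (g := ⟨x, hx⟩) (g' := ⟨y, hy⟩)
    (fun h => hx1 (congrArg Subtype.val h))
  obtain ⟨k, hk⟩ := this
  exact ⟨k, congrArg Subtype.val hk⟩

namespace Cfg

section
variable (c : Cfg p M g e)
include c

theorem isP : IsPGroup p G := IsPGroup.of_card c.card

theorem finite : Finite G := Nat.finite_of_card_ne_zero (by rw [c.card]; exact pow_ne_zero _ hp.out.ne_zero)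

theorem index : M.index = p := by
  have h := M.card_mul_index
  rw [c.cardM, c.card, show p ^ 5 = p ^ 4 * p by ring] at h
  exact Nat.eq_of_mul_eq_mul_left (pow_pos hp.out.pos 4) h

theorem normal : M.Normal := by
  refine normal_of_index_eq_minFac_card ?_
  rw [c.index, c.card, Nat.pow_minFac (by norm_num), hp.out.minFac_eq]

theorem zs_normal : (zs M).Normal := by
  have := c.normal
  unfold zs; infer_instance

theorem w_normal : (⁅M, M⁆ : Subgroup G).Normal := by
  have := c.normal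
  infer_instance

theorem w_le_center : ⁅M, M⁆ ≤ center G := by
  intro w hw
  refine mem_center_iff.2 fun x => ?_
  have := c.finite
  have := c.w_normal
  have h := H24.comm_mem_of_relIndex_prime c.isP (A := ⊥) (B := ⁅M, M⁆) (M := ⊤) bot_le le_top
    (by rw [normalizer_eq_top]) (by rw [normalizer_eq_top]) (by rw [relIndex_bot_left, c.cardW])
    (g := x) (mem_top _) hw
  exact commutatorElement_eq_one_iff_mul_comm.1 (mem_bot.1 h)

theorem w_le_zs : ⁅M, M⁆ ≤ zs M :=
  le_inf (commutator_le.2 fun a ha b hb => mul_mem (mul_mem (mul_mem ha hb) (inv_mem ha)) (inv_mem hb))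
    (c.w_le_center.trans (center_le_centralizer _))

theorem comm_w {w : G} (hw : w ∈ ⁅M, M⁆) (x : G) : Commute w x :=
  (mem_center_iff.1 (c.w_le_center hw) x).symm

theorem w_exp {w : G} (hw : w ∈ ⁅M, M⁆) : w ^ p = 1 := by
  have := c.finite
  have h := pow_card_eq_one' (G := (⁅M, M⁆ : Subgroup G)) (x := ⟨w, hw⟩)
  rw [c.cardW] at h
  simpa using congrArg Subtype.val h

theorem y_mem : ⁅g, e⁆ ∈ M := by
  have := c.normal
  exact mul_mem (this.conj_mem e c.eM g) (inv_mem c.eM)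

/-- Commutators are central modulo `Z(M)`. -/
theorem comm_zs (a b d : G) : ⁅⁅a, b⁆, d⁆ ∈ zs M := by
  have := c.finite
  have := c.zs_normal
  let π := QuotientGroup.mk' (zs M)
  have hQ : Nat.card (G ⧸ zs M) = p ^ 3 := by
    have h := (zs M).card_mul_index
    rw [c.cardZ, c.card, show p ^ 5 = p ^ 2 * p ^ 3 by ring] at h
    rw [← index_eq_card]
    exact Nat.eq_of_mul_eq_mul_left (pow_pos hp.out.pos 2) h
  obtain ⟨k, hk, hk'⟩ := IsPGroup.card_center_eq_prime_pow hQ (by norm_num)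
  have hQp : IsPGroup p (G ⧸ zs M) := IsPGroup.of_card hQ
  have hcomm : IsMulCommutative ((G ⧸ zs M) ⧸ center (G ⧸ zs M)) := by
    obtain ⟨j, hj⟩ := IsPGroup.iff_card.1 (hQp.to_quotient (center (G ⧸ zs M)))
    have h := Subgroup.card_eq_card_quotient_mul_card_subgroup (center (G ⧸ zs M))
    rw [hQ, hj, hk', ← pow_add] at h
    have hj2 : j ≤ 2 := by
      have := Nat.pow_right_injective hp.out.two_le h
      omega
    rcases (show j ≤ 1 ∨ j = 2 by omega) with h1 | h1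
    · have := H24.isCyclic_of_card_pow_le hj h1
      exact IsCyclic.isMulCommutative
    · exact IsPGroup.isMulCommutative_of_card_eq_prime_sq (h1 ▸ hj)
  rw [← QuotientGroup.eq_one_iff]
  show π ⁅⁅a, b⁆, d⁆ = 1
  rw [map_commutatorElement, commutatorElement_eq_one_iff_mul_comm]
  refine (mem_center_iff.1 ?_ _).symm
  rw [← QuotientGroup.eq_one_iff, map_commutatorElement]
  show QuotientGroup.mk' (center (G ⧸ zs M)) ⁅π a, π b⁆ = 1
  rw [map_commutatorElement, commutatorElement_eq_one_iff_mul_comm]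
  exact hcomm.is_comm.comm _ _

theorem comm_y_zs (x : G) : ⁅x, ⁅g, e⁆⁆ ∈ zs M := by
  rw [← commutatorElement_inv]
  exact inv_mem (c.comm_zs g e x)

theorem comm_M_zs {a b : G} (ha : a ∈ M) (hb : b ∈ M) : ⁅a, b⁆ ∈ zs M :=
  c.w_le_zs (commutator_mem_commutator ha hb)

theorem k_normal : (zs M ⊔ zpowers ⁅g, e⁆).Normal := by
  have := c.zs_normal
  refine ⟨fun x hx d => ?_⟩
  have h : zs M ⊔ zpowers ⁅g, e⁆ ≤ (zs M ⊔ zpowers ⁅g, e⁆).comap (MulAut.conj d).toMonoidHom := by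
    refine sup_le (fun z hz => mem_sup_left (this.conj_mem z hz d)) (zpowers_le.2 ?_)
    show d * ⁅g, e⁆ * d⁻¹ ∈ zs M ⊔ zpowers ⁅g, e⁆
    rw [show d * ⁅g, e⁆ * d⁻¹ = ⁅d, ⁅g, e⁆⁆ * ⁅g, e⁆ by simp [commutatorElement_def, mul_assoc]]
    exact Subgroup.mul_mem _ (mem_sup_left (c.comm_y_zs d)) (mem_sup_right (mem_zpowers _))
  exact h hx

theorem eK : e ∉ zs M ⊔ zpowers ⁅g, e⁆ := by
  intro h
  have := c.zs_normal
  refine c.yZ ((QuotientGroup.eq_one_iff _).1 ?_)
  show QuotientGroup.mk' (zs M) ⁅g, e⁆ = 1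
  obtain ⟨z, hz, v, ⟨l, rfl⟩, hzv⟩ := mem_sup_of_normal_left.1 h
  simp only at hzv
  conv_lhs => arg 2; arg 2; rw [← hzv]
  rw [map_commutatorElement, map_mul, map_zpow,
    show QuotientGroup.mk' (zs M) z = 1 from (QuotientGroup.eq_one_iff _).2 hz, one_mul,
    commutatorElement_eq_one_iff_mul_comm]
  refine ((commute_of_comm ?_).zpow_right l).eq
  rw [← map_commutatorElement]
  exact (QuotientGroup.eq_one_iff _).2 (c.comm_y_zs g)

theorem zs_le_M : zs M ≤ M := inf_le_left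

theorem commute_zs {z m : G} (hz : z ∈ zs M) (hm : m ∈ M) : Commute z m :=
  (mem_centralizer_iff.1 hz.2 m hm).symm

theorem cardK : Nat.card (zs M ⊔ zpowers ⁅g, e⁆ : Subgroup G) = p ^ 3 := by
  have := c.finite
  set K := zs M ⊔ zpowers ⁅g, e⁆
  have hKM : K ≤ M := sup_le c.zs_le_M (zpowers_le.2 c.y_mem)
  obtain ⟨k, hk⟩ := IsPGroup.iff_card.1 (c.isP.to_subgroup K)
  have h1 : p ^ 2 < Nat.card K := by
    rw [← c.cardZ]
    refine lt_of_le_of_ne (Subgroup.card_le_of_le le_sup_left) fun h => c.yZ ?_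
    rw [Subgroup.eq_of_le_of_card_ge (le_sup_left : zs M ≤ K) h.ge]
    exact mem_sup_right (mem_zpowers _)
  have h2 : Nat.card K < p ^ 4 := by
    rw [← c.cardM]
    refine lt_of_le_of_ne (Subgroup.card_le_of_le hKM) fun h => c.eK ?_
    show e ∈ K
    rw [Subgroup.eq_of_le_of_card_ge hKM h.ge]
    exact c.eM
  rw [hk] at h1 h2 ⊢
  have := (Nat.pow_lt_pow_iff_right hp.out.one_lt).1 h1
  have := (Nat.pow_lt_pow_iff_right hp.out.one_lt).1 h2
  rw [show k = 3 by omega]

/-- Coordinates in `M`. -/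
theorem coords {m : G} (hm : m ∈ M) : ∃ j l : ℤ, ∃ z ∈ zs M, m = e ^ j * (⁅g, e⁆ ^ l * z) := by
  have := c.finite
  have := c.zs_normal
  have := c.k_normal
  obtain ⟨j, hj⟩ := H24.exists_pow_mul_mem (p := p) (N := zs M ⊔ zpowers ⁅g, e⁆) (M := M)
    (sup_le c.zs_le_M (zpowers_le.2 c.y_mem)) (by rw [c.cardM, c.cardK]; ring) c.eM c.eK hm
  rw [sup_comm, mem_sup_of_normal_right] at hj
  obtain ⟨v, ⟨l, rfl⟩, z, hz, hzv⟩ := hj
  simp only at hzv
  exact ⟨j, l, z, hz, by rw [zpow_natCast, hzv, mul_inv_cancel_left]⟩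

/-- Coordinates in `G`. -/
theorem coordsG (x : G) : ∃ i : ℤ, ∃ m ∈ M, x = g ^ i * m := by
  have := c.finite
  have := c.normal
  obtain ⟨i, hi⟩ := H24.exists_pow_mul_mem (p := p) (N := M) (M := ⊤) le_top
    (by rw [Subgroup.card_top, c.card, c.cardM]; ring) (mem_top g) c.gM (mem_top x)
  exact ⟨i, _, hi, by rw [zpow_natCast, mul_inv_cancel_left]⟩

theorem commute_of_comm_eq_one (h : ⁅e, ⁅g, e⁆⁆ = 1) : False := by
  have hall : ∀ a ∈ M, ∀ b ∈ M, Commute a b := by
    intro a ha b hb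
    obtain ⟨j, l, z, hz, rfl⟩ := c.coords ha
    refine ((Commute.zpow_left ?_ j).mul_left ((Commute.zpow_left ?_ l).mul_left (c.commute_zs hz hb)))
    all_goals
      obtain ⟨j', l', z', hz', rfl⟩ := c.coords hb
      refine (Commute.zpow_right ?_ j').mul_right ((Commute.zpow_right ?_ l').mul_right ?_)
    · exact Commute.refl e
    · exact commute_of_comm h
    · exact (c.commute_zs hz' c.eM).symm
    · exact (commute_of_comm h).symm
    · exact Commute.refl _
    · exact (c.commute_zs hz' c.y_mem).symm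
  have hbot : ⁅M, M⁆ = ⊥ := by
    rw [eq_bot_iff, commutator_le]
    exact fun a ha b hb => mem_bot.2 (comm_eq_one (hall a ha b hb))
  have hW := c.cardW
  rw [hbot, card_bot] at hW
  exact hp.out.ne_one hW.symm

theorem w_ne : ⁅e, ⁅g, e⁆⁆ ≠ 1 := c.commute_of_comm_eq_one

theorem w_mem : ⁅e, ⁅g, e⁆⁆ ∈ ⁅M, M⁆ := commutator_mem_commutator c.eM c.y_mem

theorem e_pow : e ^ p ∈ zs M := by
  have := c.finite
  have := c.zs_normal
  obtain ⟨j, l, z, hz, hd⟩ := c.coords (pow_mem c.eM p)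
  -- `e ^ p` commutes with `e` and with `⁅g, e⁆` and so is central in `M`
  refine ⟨pow_mem c.eM p, mem_centralizer_iff.2 fun b hb => ?_⟩
  have hy : Commute (e ^ p) ⁅g, e⁆ := by
    refine commute_of_comm ?_
    rw [← zpow_natCast e p, show (⁅g, e⁆ : G) = ⁅g, e⁆ ^ (1 : ℤ) by rw [zpow_one],
      comm_zpow (c.comm_w c.w_mem e) (c.comm_w c.w_mem _), mul_one, zpow_natCast, c.w_exp c.w_mem]
  obtain ⟨j', l', z', hz', rfl⟩ := c.coords hb
  exact (((Commute.pow_left (Commute.refl e) p).zpow_right j').mul_right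
    ((hy.zpow_right l').mul_right (c.commute_zs hz' (pow_mem c.eM p)).symm)).eq.symm

theorem e_zpow {j : ℤ} (h : (p : ℤ) ∣ j) : e ^ j ∈ zs M := by
  obtain ⟨k, rfl⟩ := h
  rw [zpow_mul, zpow_natCast]
  exact zpow_mem c.e_pow k

theorem comm_coords_y (i : ℤ) (l : ℤ) {z : G} (hz : z ∈ zs M) :
    ⁅e ^ i * (⁅g, e⁆ ^ l * z), ⁅g, e⁆⁆ = ⁅e, ⁅g, e⁆⁆ ^ i := by
  rw [comm_mul_left (((Commute.refl _).zpow_left l).mul_left (c.commute_zs hz c.y_mem))]
  conv_lhs => arg 2; rw [← zpow_one ⁅g, e⁆]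
  rw [comm_zpow (c.comm_w c.w_mem _) (c.comm_w c.w_mem _), mul_one]

/-- The centralizer of `⁅g, e⁆` in `M`. -/
theorem mem_K_of_commute {m : G} (hm : m ∈ M) (h : Commute m ⁅g, e⁆) :
    m ∈ zs M ⊔ zpowers ⁅g, e⁆ := by
  obtain ⟨j, l, z, hz, rfl⟩ := c.coords hm
  have h1 := comm_eq_one h
  rw [c.comm_coords_y j l hz] at h1
  have hj := cast_eq_of_zpow (p := p) c.w_ne (c.w_exp c.w_mem) (i := j) (j := 0) (by rw [zpow_zero]; exact h1)
  rw [Int.cast_zero, ZMod.intCast_zmod_eq_zero_iff_dvd] at hj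
  exact mul_mem (mem_sup_left (c.e_zpow hj)) (mul_mem (mem_sup_right (zpow_mem_zpowers _ l))
    (mem_sup_left hz))

end

end Cfg

end Cfsg.Agent.H24.OrderFive
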