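import Cfsg.Agent.S5185
import Cfsg.Agent.S5186
import Cfsg.Agent.H93.Normal
import Cfsg.Agent.H24.OrderFive.CaseThree
import Cfsg.Agent.H24.OrderFive.CasePearl

/-!
A saturated fusion system over a group of order `p ^ 5`, `p` odd and not `7`, with trivial core and full
hyperfocal subgroup: the group has an abelian subgroup of index `p`.
-/

set_option autoImplicit false

namespace Cfsg.Agent.H24.OrderFive

open Subgroup Cfsg.FusionSystem
open Agent.H93
open scoped commutatorElement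

variable {Ω : Type*} [Group Ω] {S : Subgroup Ω} [Finite S] {p : ℕ} [hp : Fact p.Prime] {F : FusionSystem S}

theorem exists_essential (hS : IsPGroup p S) (hF : F.IsSaturated p) (hne : S ≠ ⊥) (hcore : F.core = ⊥) :
    ∃ E, F.IsEssential p E := by
  by_contra! hno
  refine hne (le_bot_iff.1 (hcore ▸ le_sSup ?_))
  refine isNormal_of_essential hS hF fun U hU => ⟨?_, fun α _ x _ => ?_⟩
  · rcases hU with rfl | hU
    · exact le_rfl
    · exact absurd hU (hno U)
  · rcases hU with rfl | hU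
    · exact (α x).2
    · exact absurd hU (hno U)

/-- The shape of the essential subgroups. -/
theorem essential_shape (hS : IsPGroup p S) (hF : F.IsSaturated p) (hp2 : p ≠ 2) (hcard : Nat.card S = p ^ 5)
    {R : Subgroup Ω} (hR : F.IsEssential p R) :
    Nat.card R = p ^ 4 ∨ (Nat.card R = p ^ 3 ∧ IsMulCommutative R ∧ ∀ x ∈ R, x ^ p = 1) ∨ IsPearl p R := by
  have hRS : R ≤ S := hR.2.1.1
  have := finite_of_le hRS
  obtain ⟨k, hk⟩ := IsPGroup.iff_card.1 (isPGroup_of_le hS hRS)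
  have hk5 : k < 5 := by
    refine (Nat.pow_lt_pow_iff_right hp.out.one_lt).1 ?_
    rw [← hk, ← hcard]
    exact lt_of_le_of_ne (Subgroup.card_le_of_le hRS) fun e =>
      IsEssential.ne_self hS hF hR (Subgroup.eq_of_le_of_card_ge hRS e.ge)
  have hk2 : 2 ≤ k := by
    by_contra hlt
    have hCE : centralizerIn S R ≤ R := hR.1.2 R (isConj_refl F hRS)
    have hle : (center S).map S.subtype ≤ R := by
      rintro _ ⟨z, hz, rfl⟩
      exact hCE (mem_centralizerIn.2 ⟨z.2, fun y hy => by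
        have h := congrArg (fun u : S => (u : Ω)) (mem_center_iff.1 hz ⟨y, hRS hy⟩)
        simp only [Subgroup.coe_mul] at h
        show (z : Ω) * y * (z : Ω)⁻¹ = y
        rw [← h, mul_inv_cancel_right]⟩)
    have heq : (center S).map S.subtype = R := by
      refine Subgroup.eq_of_le_of_card_ge hle ?_
      rw [card_map_of_injective S.subtype_injective, hk]
      obtain ⟨j, hj0, hj⟩ := IsPGroup.card_center_eq_prime_pow hcard (by norm_num)
      rw [hj]
      exact Nat.pow_le_pow_right hp.out.pos (by omega)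
    have hSR : S ≤ R := fun s hs => hCE (mem_centralizerIn.2 ⟨hs, fun y hy => by
      rw [← heq] at hy
      obtain ⟨z, hz, rfl⟩ := hy
      have h := congrArg (fun u : S => (u : Ω)) (mem_center_iff.1 hz ⟨s, hs⟩)
      simp only [Subgroup.coe_mul] at h
      show s * (z : Ω) * s⁻¹ = z
      rw [h, mul_inv_cancel_right]⟩)
    exact IsEssential.ne_self hS hF hR (le_antisymm hRS hSR)
  rcases (show k = 2 ∨ k = 3 ∨ k = 4 by omega) with rfl | rfl | rfl
  · exact Or.inr (Or.inr (Or.inl ⟨hk, (S5185.result p hS F hF R hR hk).1⟩))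
  · rcases S5186.result p hS F hF R hR hk with ⟨ha, he⟩ | ⟨-, he, hexp⟩ | ⟨h2, -⟩
    · exact Or.inr (Or.inl ⟨hk, ha, he⟩)
    · exact Or.inr (Or.inr (Or.inr ⟨hk, he, hexp⟩))
    · exact absurd h2 hp2
  · exact Or.inl hk

/-- Every essential subgroup is quadratic. -/
theorem essential_quad (hS : IsPGroup p S) (hF : F.IsSaturated p) (hp2 : p ≠ 2) (hcard : Nat.card S = p ^ 5)
    (hnab : ∀ A : Subgroup S, IsMulCommutative A → A.index ≠ p) {Q : Type*} [CommGroup Q] {R : Subgroup Ω}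
    (hR : F.IsEssential p R) :
    ∃ g ∈ normalizerIn S R, (∀ n ∈ normalizerIn S R, ∃ i : ℕ, (g ^ i)⁻¹ * n ∈ R) ∧
      ∀ (η : R →* Q) (x : R), ∀ h : g * (g * x * g⁻¹ * (x : Ω)⁻¹) * g⁻¹ *
        (g * x * g⁻¹ * (x : Ω)⁻¹)⁻¹ ∈ R, η ⟨_, h⟩ = 1 := by
  have hRS : R ≤ S := hR.2.1.1
  have := finite_of_le hRS
  rcases essential_shape hS hF hp2 hcard hR with h4 | ⟨h3, hab, hexp⟩ | hp'
  · obtain ⟨g, e, c, hA, -⟩ := four_cfg hS hF hp2 hcard hnab hR h4
    have hN := normalizerIn_eq (n := 4) hS hRS hcard h4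
    have := c.finite
    have := c.normal
    refine ⟨g, by rw [hN]; exact g.2, fun n hn => ?_, fun η x hx => ?_⟩
    · rw [hN] at hn
      obtain ⟨i, hi⟩ := H24.exists_pow_mul_mem (p := p) (N := R.subgroupOf S) (M := ⊤) le_top
        (by rw [Subgroup.card_top, c.card, c.cardM]; ring) (mem_top g) c.gM (mem_top (⟨n, hn⟩ : S))
      exact ⟨i, hi⟩
    · have h1 : (⟨_, hx⟩ : R) ∈ commutator R := by
        rw [← mem_comm_iff hRS]
        exact c.quad hA (x := Subgroup.inclusion hRS x) x.2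
      have h2 : commutator R ≤ η.ker := by
        rw [_root_.commutator_def, commutator_le]
        intro u _ v _
        rw [MonoidHom.mem_ker, map_commutatorElement]
        exact commutatorElement_eq_one_iff_mul_comm.2 (mul_comm _ _)
      exact h2 h1
  · obtain ⟨hN4, g, e, c, he, hy, hz⟩ := three_shape hS hF hcard hnab hR h3 hab hexp
    have := finite_of_le (normalizerIn_le S R)
    refine ⟨((⁅g, e⁆ : S) : Ω), c.y_mem, fun n hn => ?_, fun η x hx => ?_⟩
    · have : (R.subgroupOf (normalizerIn S R)).Normal :=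
        normal_subgroupOf_of_le_normalizer inf_le_right
      obtain ⟨i, hi⟩ := H24.exists_pow_mul_mem (p := p) (N := R.subgroupOf (normalizerIn S R)) (M := ⊤) le_top
        (by rw [Subgroup.card_top, hN4, Nat.card_congr (subgroupOfEquivOfLe (le_normalizerIn hRS)).toEquiv, h3]
            ring)
        (mem_top (⟨_, c.y_mem⟩ : normalizerIn S R)) hy (mem_top (⟨n, hn⟩ : normalizerIn S R))
      exact ⟨i, hi⟩
    · have hw : ⁅⁅g, e⁆, Subgroup.inclusion hRS x⁆ ∈
          ⁅(normalizerIn S R).subgroupOf S, (normalizerIn S R).subgroupOf S⁆ :=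
        commutator_mem_commutator c.y_mem (le_normalizerIn hRS x.2)
      have h2 : ⁅⁅g, e⁆, ⁅⁅g, e⁆, Subgroup.inclusion hRS x⁆⁆ = 1 := comm_eq_one (c.comm_w hw _).symm
      have h1 : (⟨_, hx⟩ : R) = 1 := Subtype.ext (by
        have h := congrArg (fun u : S => (u : Ω)) h2
        simpa [commutatorElement_def, mul_assoc] using h)
      rw [h1, map_one]
  · exact pearl_quad hS hF hR hp'

/-- A homomorphism fixed by `Aut_F(S)` forbids a full hyperfocal subgroup. -/
theorem hyperfocal_ne (hS : IsPGroup p S) (hF : F.IsSaturated p) (hp2 : p ≠ 2) (hcard : Nat.card S = p ^ 5)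
    (hnab : ∀ A : Subgroup S, IsMulCommutative A → A.index ≠ p) {c : S} (hc : c ∉ commutator S)
    (hfix : ∀ α ∈ F.autGroup S, c⁻¹ * α c ∈ commutator S) : F.hyperfocalSubgroup p ≠ S := by
  classical
  intro hhyp
  have := finite_mulAut (S := S) le_rfl
  letI : CommGroup (S ⧸ commutator S) := { (inferInstance : Group (S ⧸ commutator S)) with
    mul_comm := fun a b => QuotientGroup.induction_on a fun x => QuotientGroup.induction_on b fun y => by
      show (QuotientGroup.mk' (commutator S) x) * QuotientGroup.mk' _ y = _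
      refine (commute_of_comm ?_).eq
      rw [← map_commutatorElement]
      refine (QuotientGroup.eq_one_iff _).2 ?_
      rw [_root_.commutator_def]
      exact commutator_mem_commutator (mem_top _) (mem_top _) }
  have hinv : ∀ a ∈ F.autGroup S, ∀ x ∈ commutator S, a x ∈ commutator S := fun a _ x hx => by
    have h : (commutator S).map (a : S →* S) = commutator S := by
      rw [_root_.commutator_def, map_commutator, Subgroup.map_top_of_surjective _ a.surjective]
    exact h ▸ mem_map_of_mem _ hx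
  let ρ := quotAut (commutator S) (F.autGroup S) hinv
  -- the image has order prime to `p`
  have hcop : ¬ p ∣ Nat.card ρ.range := by
    obtain ⟨-, T, hT⟩ := IsFullyNormalized.isFullyAutomized hS hF (isFullyNormalized_top F)
    have hle : (T : Subgroup (F.autGroup S)) ≤ ρ.ker := fun a ha => by
      rw [hT, mem_subgroupOf, ← inn_eq_autInducedBy] at ha
      obtain ⟨u, hu⟩ : ∃ u : S, MulAut.conj u = (a : MulAut S) := ha
      refine MulEquiv.ext fun m => QuotientGroup.induction_on m fun x => ?_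
      rw [quotAut_mk, MulAut.one_apply, ← hu, MulAut.conj_apply, QuotientGroup.mk_mul, QuotientGroup.mk_mul,
        QuotientGroup.mk_inv, mul_comm (u : S ⧸ commutator S), mul_inv_cancel_right]
    rw [← index_ker]
    exact fun h => T.not_dvd_index (h.trans (index_dvd_of_le hle))
  have := Fintype.ofFinite ρ.range
  let N : S →* S ⧸ commutator S := MonoidHom.mk'
    (fun x => ∏ a : ρ.range, (a : MulAut (S ⧸ commutator S)) (x : S ⧸ commutator S))
    fun x y => by simp only [QuotientGroup.mk_mul, map_mul, Finset.prod_mul_distrib]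
  have hNα : ∀ α ∈ F.autGroup S, ∀ x, N (α x) = N x := by
    intro α hα x
    show ∏ a : ρ.range, _ = ∏ a : ρ.range, _
    rw [show ((α x : S) : S ⧸ commutator S) = ρ ⟨α, hα⟩ (x : S ⧸ commutator S) from rfl]
    exact Fintype.prod_equiv (Equiv.mulRight (⟨ρ ⟨α, hα⟩, ⟨⟨α, hα⟩, rfl⟩⟩ : ρ.range)) _ _ fun a => rfl
  have hNc : N c ≠ 1 := by
    have h1 : ∀ a : ρ.range, (a : MulAut (S ⧸ commutator S)) (c : S ⧸ commutator S) = c := by
      rintro ⟨_, ⟨α, hα⟩, rfl⟩
      rw [quotAut_mk]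
      exact (QuotientGroup.eq.2 (hfix α hα)).symm
    show ∏ a : ρ.range, _ ≠ 1
    rw [Finset.prod_congr rfl fun a _ => h1 a, Finset.prod_const, Finset.card_univ, ← Nat.card_eq_fintype_card]
    intro h
    have hd := orderOf_dvd_of_pow_eq_one h
    obtain ⟨j, hj⟩ := (hS.to_quotient (commutator S)) (c : S ⧸ commutator S)
    obtain ⟨i, -, hi⟩ := (Nat.dvd_prime_pow hp.out).1 (orderOf_dvd_of_pow_eq_one hj)
    rw [hi] at hd
    rcases Nat.eq_zero_or_pos i with rfl | hi0
    · exact hc ((QuotientGroup.eq_one_iff c).1 (orderOf_eq_one_iff.1 (by rw [hi, pow_zero])))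
    · exact hcop ((dvd_pow_self p hi0.ne').trans hd)
  -- pass to exponent `p`
  let P := (powMonoidHom p : N.range →* N.range).range
  have hP : P ≠ ⊤ := by
    intro h
    have hsurj : Function.Surjective (fun a : N.range => a ^ p) := fun a => by
      obtain ⟨b, hb⟩ := (h ▸ mem_top a : a ∈ P)
      exact ⟨b, hb⟩
    have hinj := (Finite.injective_iff_surjective.2 hsurj)
    obtain ⟨j, hj⟩ := (((hS.to_quotient (commutator S)).to_subgroup N.range)) ⟨N c, c, rfl⟩
    have hne : (⟨N c, c, rfl⟩ : N.range) ≠ 1 := fun e => hNc (congrArg Subtype.val e)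
    generalize (⟨N c, c, rfl⟩ : N.range) = a at hj hne
    induction j with
    | zero => exact hne (by simpa using hj)
    | succ j ih =>
      refine ih (hinj ?_)
      show (a ^ p ^ j) ^ p = 1 ^ p
      rw [← pow_mul, ← pow_succ, hj, one_pow]
  obtain ⟨d, -, hd⟩ := SetLike.exists_of_lt hP.lt_top
  let N' : S →* N.range ⧸ P := (QuotientGroup.mk' P).comp N.rangeRestrict
  let χ : Ω → N.range ⧸ P := fun y => if hy : y ∈ S then N' ⟨y, hy⟩ else 1
  have hχe : ∀ x : S, χ x = N' x := fun x => by simp [χ]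
  have hχ : ∀ x ∈ S, ∀ y ∈ S, χ (x * y) = χ x * χ y := fun x hx y hy => by
    rw [show χ x = _ from hχe ⟨x, hx⟩, show χ y = _ from hχe ⟨y, hy⟩,
      show χ (x * y) = _ from hχe (⟨x, hx⟩ * ⟨y, hy⟩), map_mul]
  have hQ : ∀ q : N.range ⧸ P, q ^ p = 1 := fun q => QuotientGroup.induction_on q fun a => by
    rw [← QuotientGroup.mk_pow]; exact (QuotientGroup.eq_one_iff _).2 ⟨a, rfl⟩
  have hAut : ∀ α ∈ F.autGroup S, ∀ x : S, χ ((α x : S) : Ω) = χ x := fun α hα x => by
    rw [hχe, hχe]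
    show QuotientGroup.mk' P (N.rangeRestrict (α x)) = _
    rw [show N.rangeRestrict (α x) = N.rangeRestrict x from Subtype.ext (hNα α hα x)]
    rfl
  let K : Subgroup Ω :=
    { carrier := {y | y ∈ S ∧ χ y = 1}
      one_mem' := ⟨one_mem _, by rw [show χ (1 : Ω) = _ from hχe 1, map_one]⟩
      mul_mem' := fun {a b} ha hb => ⟨mul_mem ha.1 hb.1, by rw [hχ a ha.1 b hb.1, ha.2, hb.2, mul_one]⟩
      inv_mem' := fun {a} ha => ⟨inv_mem ha.1, by
        rw [show χ a⁻¹ = _ from hχe (⟨a, ha.1⟩⁻¹), map_inv, ← hχe, ha.2, inv_one]⟩ }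
  have hle : F.hyperfocalSubgroup p ≤ K := by
    refine (Subgroup.closure_le K).2 ?_
    rintro y ⟨P', α, x, hP', -, rfl⟩
    have hφ := (mem_autGroup_iff hP').1 α.2
    have h1 := hom_invariant hS hF hp2 hQ χ hχ hAut
      (fun R hR => essential_quad hS hF hp2 hcard hnab hR) hφ x
    refine ⟨mul_mem (inv_mem (hP' x.2)) (hP' ((α : MulAut P') x).2), ?_⟩
    have h2 : χ (x : Ω)⁻¹ = (χ x)⁻¹ := by
      rw [show χ (x : Ω)⁻¹ = _ from hχe (⟨x, hP' x.2⟩⁻¹), map_inv, ← hχe]
    rw [hχ _ (inv_mem (hP' x.2)) _ (hP' ((α : MulAut P') x).2), h2]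
    exact inv_mul_eq_one.2 h1.symm
  obtain ⟨⟨_, x, rfl⟩⟩ : Nonempty N.range := ⟨d⟩
  obtain ⟨_, x, rfl⟩ := d
  have := (hle (hhyp.ge x.2)).2
  rw [hχe] at this
  exact hd ((QuotientGroup.eq_one_iff _).1 this)

/-- Units of `ZMod p` not killed by a given exponent. -/
theorem exists_unit_pow_ne {n : ℕ} (hn : ¬ (p - 1) ∣ n) :
    ∃ l k : ℤ, (p : ℤ) ∣ l * k - 1 ∧ (k : ZMod p) ^ n ≠ 1 := by
  obtain ⟨u, hu⟩ := IsCyclic.exists_ofOrder_eq_natCard (α := (ZMod p)ˣ)
  refine ⟨((u⁻¹ : (ZMod p)ˣ) : ZMod p).val, (u : ZMod p).val, ?_, fun h => hn ?_⟩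
  · rw [← ZMod.intCast_zmod_eq_zero_iff_dvd]
    push_cast
    rw [ZMod.natCast_zmod_val, ZMod.natCast_zmod_val, inv_mul_cancel₀ (Units.ne_zero u), sub_self]
  · push_cast at h
    rw [ZMod.natCast_zmod_val, ← Units.val_pow_eq_pow_val, Units.val_eq_one] at h
    have h2 := orderOf_dvd_of_pow_eq_one h
    rwa [hu, Nat.card_eq_fintype_card, ZMod.card_units] at h2

/-- The conclusion for the configuration with a commuting commutator. -/
theorem type_a_false (hS : IsPGroup p S) (hF : F.IsSaturated p) (hp2 : p ≠ 2) (hcard : Nat.card S = p ^ 5)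
    (hnab : ∀ A : Subgroup S, IsMulCommutative A → A.index ≠ p) (hhyp : F.hyperfocalSubgroup p = S)
    {M : Subgroup S} {g e : S} (c : Cfg p M g e) (hA : ⁅g, ⁅g, e⁆⁆ ∈ ⁅M, M⁆)
    (htor : ∀ l k : ℤ, (p : ℤ) ∣ l * k - 1 → ∃ f ∈ F.autGroup S,
      (e ^ k)⁻¹ * f e ∈ zs M ⊔ zpowers ⁅g, e⁆ ∧ ∀ z ∈ zs M, z⁻¹ * f z ∈ ⁅M, M⁆) : False := by
  obtain ⟨u, cu, hu, hK⟩ := c.adjust hA
  obtain ⟨z0, hz0, hne⟩ : ∃ z ∈ zs M, ⁅u, z⁆ ≠ 1 := by
    by_contra! h
    obtain ⟨A, hA1, hA2⟩ := cu.abelian_of_commute hu h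
    exact hnab A hA1 hA2
  by_cases hp3 : p = 3
  · obtain ⟨h1, h2⟩ := cu.fixed_three hu hp3 hz0 hne
    exact hyperfocal_ne hS hF hp2 hcard hnab h1 (fun α _ => h2 α) hhyp
  obtain ⟨l, k, hlk, hk⟩ := exists_unit_pow_ne (p := p) (n := 2) (fun h => by
    have h2 := hp.out.two_le
    have := Nat.le_of_dvd (by norm_num) h
    rcases (show p = 2 ∨ p = 3 by omega) with rfl | rfl
    · exact hp2 rfl
    · exact hp3 rfl)
  obtain ⟨f, -, he, hz⟩ := htor l k hlk
  exact hk (cu.sq_eq_one hu hz0 hne f (hK ▸ he) (hz z0 hz0))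

theorem exists_abelian_index (hS : IsPGroup p S) (hF : F.IsSaturated p) (hp2 : p ≠ 2) (hp7 : p ≠ 7)
    (hcard : Nat.card S = p ^ 5) (hcore : F.core = ⊥) (hhyp : F.hyperfocalSubgroup p = S) :
    ∃ A : Subgroup S, IsMulCommutative A ∧ A.index = p := by
  by_contra! hnab
  have hne : S ≠ ⊥ := fun h => by
    rw [h, Subgroup.card_bot] at hcard
    exact absurd hcard.symm (Nat.one_lt_pow (by norm_num) hp.out.one_lt).ne'
  by_cases h4 : ∃ E, F.IsEssential p E ∧ Nat.card E = p ^ 4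
  · obtain ⟨E, hE, hE4⟩ := h4
    obtain ⟨g, e, c, hA, htor⟩ := four_cfg hS hF hp2 hcard hnab hE hE4
    exact type_a_false hS hF hp2 hcard hnab hhyp c hA fun l k hlk => by
      obtain ⟨f, hf, h1, h2, -⟩ := htor l k hlk
      exact ⟨f, hf, h1, h2⟩
  push Not at h4
  by_cases h3 : ∃ E, F.IsEssential p E ∧ Nat.card E = p ^ 3 ∧ IsMulCommutative E ∧ ∀ x ∈ E, x ^ p = 1
  · obtain ⟨E, hE, hE3, hab, hexp⟩ := h3
    obtain ⟨hN4, g, e, c, he, hy, hz⟩ := three_shape hS hF hcard hnab hE hE3 hab hexp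
    have hbig : ∀ R, F.IsEssential p R → Nat.card R < p ^ 4 := fun R hR => by
      rcases essential_shape hS hF hp2 hcard hR with h | ⟨h, -⟩ | ⟨h, -⟩ | ⟨h, -⟩
      · exact absurd h (h4 R hR)
      all_goals rw [h]; exact Nat.pow_lt_pow_right hp.out.one_lt (by norm_num)
    have htor := three_torus hS hF hE hab hexp hN4 hbig c he hy hz
    obtain ⟨f, -, s, hs, hg, he', hz'⟩ := htor (-1) (-1) (by simp)
    have hA : ⁅g, ⁅g, e⁆⁆ ∈ ⁅(normalizerIn S E).subgroupOf S, (normalizerIn S E).subgroupOf S⁆ := by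
      refine c.comm_y_mem hp2 f (s := s) ?_ hg (by rwa [zpow_neg_one, inv_inv] at he') hz'
      push_cast at hs
      linear_combination ((1 : ZMod p) - s) * hs
    exact type_a_false hS hF hp2 hcard hnab hhyp c hA fun l k hlk => by
      obtain ⟨f, hf, s, -, -, h1, h2⟩ := htor l k hlk
      exact ⟨f, hf, h1, h2⟩
  push Not at h3
  have hpearl : ∀ R, F.IsEssential p R → IsPearl p R := fun R hR => by
    rcases essential_shape hS hF hp2 hcard hR with h | ⟨h, hab, hexp⟩ | h
    · exact absurd h (h4 R hR)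
    · obtain ⟨x, hx, hx1⟩ := h3 R hR h hab
      exact absurd (hexp x hx) hx1
    · exact h
  by_cases he3 : ∃ E, F.IsEssential p E ∧ Nat.card E = p ^ 3
  · obtain ⟨E, hE, hE3⟩ := he3
    have h := (pearl_weights hS hF hcard hnab hE (hpearl E hE) (fun R hR => by
      rw [hE3]
      rcases hpearl R hR with ⟨h, -⟩ | ⟨h, -⟩ <;> rw [h]
      exact Nat.pow_le_pow_right hp.out.pos (by norm_num)) (-1) (-1) (by simp)).2 hE3
    have h5 : ((2 : ℕ) : ZMod p) = 0 := by
      push_cast at h ⊢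
      linear_combination -h
    rw [ZMod.natCast_eq_zero_iff] at h5
    exact hp2 ((Nat.prime_dvd_prime_iff_eq hp.out Nat.prime_two).1 h5)
  push Not at he3
  obtain ⟨E, hE⟩ := exists_essential hS hF hne hcore
  have hE2 : ∀ R, F.IsEssential p R → Nat.card R = p ^ 2 := fun R hR => by
    rcases hpearl R hR with ⟨h, -⟩ | ⟨h, -⟩
    · exact h
    · exact absurd h (he3 R hR)
  by_cases hp3 : p = 3
  · obtain ⟨hidx, -, -, -, -, hcfg⟩ := max_cfg (maxSetting_of_pearl hS hcard hE (hpearl E hE)) hnab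
    obtain ⟨g, -, hg⟩ : ∃ g ∈ (⊤ : Subgroup S), g ∉ H24.twoStep S 3 :=
      SetLike.exists_of_lt (lt_top_iff_ne_top.2 fun h => by
        rw [h, index_top] at hidx; exact hp.out.ne_one hidx.symm)
    obtain ⟨e, c, hc, hZ⟩ := hcfg g hg
    obtain ⟨h1, h2⟩ := c.max_fixed_three hc hZ hp3
    exact hyperfocal_ne hS hF hp2 hcard hnab h1 (fun α _ => h2 α (fun x => twoStep_map α 3 x)) hhyp
  obtain ⟨l, k, hlk, hk⟩ := exists_unit_pow_ne (p := p) (n := 6) (fun h => by
    have h2 := hp.out.two_le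
    have := Nat.le_of_dvd (by norm_num) h
    have hpp := hp.out
    rcases (show p = 2 ∨ p = 3 ∨ p = 4 ∨ p = 5 ∨ p = 6 ∨ p = 7 by omega) with rfl | rfl | rfl | rfl | rfl | rfl
    all_goals first | omega | exact absurd hpp (by norm_num) | exact absurd h (by norm_num))
  have h := (pearl_weights hS hF hcard hnab hE (hpearl E hE)
    (fun R hR => by rw [hE2 R hR, hE2 E hE]) l k hlk).1 (hE2 E hE)
  refine hk ?_
  rw [pow_succ, h]
  have h1 : ((l * k - 1 : ℤ) : ZMod p) = 0 := (ZMod.intCast_zmod_eq_zero_iff_dvd _ _).2 hlk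
  push_cast at h1
  linear_combination h1

end Cfsg.Agent.H24.OrderFive
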