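import Cfsg.Agent.H95.Transvection
import Cfsg.Agent.H73.StronglyEmbedded
import Cfsg.Agent.H24.TransvectionSpe

/-!
Two transvections of an elementary abelian `p`-group that generate no `p`-group: their group holds, for
every unit `l`, an automorphism raising the first centre to the power `l`, conjugating the first
transvection to its `l ^ 2` power and fixing everything the first one fixes modulo its centre.
-/

set_option autoImplicit false

namespace Cfsg.Agent.H24.OrderFive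

open Subgroup

variable {M : Type*} [CommGroup M] [Finite M] {p : ℕ} [hp : Fact p.Prime]

omit [Finite M] in
theorem zpow_eq_one_of_dvd (hexp : ∀ m : M, m ^ p = 1) (y : M) {i : ℤ} (h : (p : ℤ) ∣ i) : y ^ i = 1 := by
  obtain ⟨k, rfl⟩ := h
  rw [zpow_mul, zpow_natCast, hexp, one_zpow]

omit [Finite M] in
theorem dvd_of_zpow_eq_one (hexp : ∀ m : M, m ^ p = 1) {y : M} (hy : y ≠ 1) {i : ℤ} (h : y ^ i = 1) :
    (p : ℤ) ∣ i := by
  rw [← orderOf_eq_prime (hexp y) hy]
  exact orderOf_dvd_iff_zpow_eq_one.2 h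

omit [Finite M] in
theorem zpow_congr (hexp : ∀ m : M, m ^ p = 1) (y : M) {i j : ℤ} (h : (p : ℤ) ∣ i - j) :
    y ^ i = y ^ j := by
  rw [show i = (i - j) + j by ring, zpow_add, zpow_eq_one_of_dvd hexp y h, one_mul]

/-- The torus element of two transvections. -/
theorem pair_torus (hexp : ∀ m : M, m ^ p = 1) {t u : MulAut M} {z c : M} (htz : t z = z) (huc : u c = c)
    (ht : ∀ m, ∃ i : ℤ, t m = m * z ^ i) (hu : ∀ m, ∃ i : ℤ, u m = m * c ^ i)
    (hnp : ¬ IsPGroup p (Subgroup.closure ({t, u} : Set (MulAut M)))) {l k : ℤ}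
    (hlk : (p : ℤ) ∣ l * k - 1) :
    ∃ β ∈ Subgroup.closure ({t, u} : Set (MulAut M)), β * t * β⁻¹ = t ^ (l * l) ∧ β z = z ^ l ∧
      ∀ m, t m = m → m⁻¹ * β m ∈ zpowers z := by
  classical
  set L := Subgroup.closure ({t, u} : Set (MulAut M))
  have htc : t c ≠ c := fun h => hnp (H95.transvection_pGroup hexp t u z c htz huc ht hu h)
  have huz : u z ≠ z := fun h => hnp (by
    have := H95.transvection_pGroup hexp u t c z huc htz hu ht h
    rwa [Set.pair_comm] at this)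
  have hiter := @H95.zpow_apply_of_fixed M _
  have hpr := Nat.prime_iff_prime_int.1 hp.out
  obtain ⟨α, hα⟩ := ht c
  obtain ⟨γ, hγ⟩ := hu z
  have hz1 : z ≠ 1 := fun h => htc (by rw [hα, h, one_zpow, mul_one])
  obtain ⟨a1, a2, ha⟩ := (Prime.coprime_iff_not_dvd hpr).2 (fun h =>
    htc (by rw [hα, zpow_eq_one_of_dvd hexp z h, mul_one]) : ¬ (p : ℤ) ∣ α)
  obtain ⟨b1, b2, hb⟩ := (Prime.coprime_iff_not_dvd hpr).2 (fun h =>
    huz (by rw [hγ, zpow_eq_one_of_dvd hexp c h, mul_one]) : ¬ (p : ℤ) ∣ γ)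
  have htzi : ∀ i : ℤ, t (z ^ i) = z ^ i := fun i => by rw [map_zpow, htz]
  have huci : ∀ i : ℤ, u (c ^ i) = c ^ i := fun i => by rw [map_zpow, huc]
  have hTz : ∀ j : ℤ, (t ^ j) z = z := fun j => by
    rw [hiter t (d := 1) (by rw [htz, mul_one]) (map_one t) j, one_zpow, mul_one]
  have hUc : ∀ j : ℤ, (u ^ j) c = c := fun j => by
    rw [hiter u (d := 1) (by rw [huc, mul_one]) (map_one u) j, one_zpow, mul_one]
  have hTc : ∀ j : ℤ, (t ^ j) c = c * z ^ (α * j) := fun j => by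
    rw [hiter t hα (htzi α) j, ← zpow_mul]
  have hUz : ∀ j : ℤ, (u ^ j) z = z * c ^ (γ * j) := fun j => by
    rw [hiter u hγ (huci γ) j, ← zpow_mul]
  -- the root elements
  let T : ℤ → MulAut M := fun j => t ^ (a2 * j)
  let U : ℤ → MulAut M := fun j => u ^ (-b2 * j)
  have hT : ∀ i j q : ℤ, T j (c ^ i * z ^ q) = c ^ i * z ^ (q + i * j) := fun i j q => by
    rw [map_mul, map_zpow, map_zpow, hTc, hTz, mul_zpow, ← zpow_mul, mul_assoc, ← zpow_add]
    congr 1
    exact zpow_congr hexp z ⟨-a1 * i * j, by linear_combination i * j * ha⟩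
  have hU : ∀ i j q : ℤ, U j (c ^ i * z ^ q) = c ^ (i - q * j) * z ^ q := fun i j q => by
    rw [map_mul, map_zpow, map_zpow, hUc, hUz, mul_zpow, ← zpow_mul, mul_left_comm (c ^ i), mul_comm,
      ← zpow_add]
    congr 1
    exact zpow_congr hexp c ⟨b1 * q * j, by linear_combination -q * j * hb⟩
  let w : ℤ → ℤ → MulAut M := fun a b => T a * (U b * T a)
  have hw : ∀ a b : ℤ, (p : ℤ) ∣ a * b - 1 → ∀ i q : ℤ,
      w a b (c ^ i * z ^ q) = c ^ (-(q * b)) * z ^ (a * i) := fun a b hab i q => by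
    show T a (U b (T a (c ^ i * z ^ q))) = _
    rw [hT, hU, hT]
    obtain ⟨d, hd⟩ := hab
    congr 1
    · exact zpow_congr hexp c ⟨-i * d, by linear_combination -i * hd⟩
    · refine zpow_congr hexp z ⟨-d * (q + i * a), ?_⟩
      linear_combination (-(q + i * a)) * hd
  obtain ⟨β, hβ⟩ : ∃ β, β = w (-l) (-k) * w 1 1 := ⟨_, rfl⟩
  have hβcz : ∀ i q : ℤ, β (c ^ i * z ^ q) = c ^ (k * i) * z ^ (l * q) := fun i q => by
    rw [hβ, MulAut.mul_apply, hw 1 1 (by simp), hw (-l) (-k) (by rwa [neg_mul_neg])]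
    congr 2 <;> ring
  have htL : t ∈ L := Subgroup.subset_closure (Set.mem_insert t _)
  have huL : u ∈ L := Subgroup.subset_closure (Set.mem_insert_of_mem t rfl)
  have hTL : ∀ j, T j ∈ L := fun j => Subgroup.zpow_mem L htL (a2 * j)
  have hUL : ∀ j, U j ∈ L := fun j => Subgroup.zpow_mem L huL (-b2 * j)
  have hwL : ∀ a b, w a b ∈ L := fun a b => mul_mem (hTL a) (mul_mem (hUL b) (hTL a))
  -- split an element into the plane and the common fixed points
  have hsplit : ∀ m : M, ∃ i q : ℤ, ∃ w0 : M, m = c ^ i * z ^ q * w0 ∧ β w0 = w0 ∧ t w0 = w0 := by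
    intro m
    obtain ⟨A, hA⟩ := ht m
    obtain ⟨B, hB⟩ := hu m
    obtain ⟨w0, hw0⟩ : ∃ w0, w0 = m * (c ^ (A * a2) * z ^ (B * b2))⁻¹ := ⟨_, rfl⟩
    have h1 : t w0 = w0 := by
      rw [hw0, map_mul, map_inv, map_mul, map_zpow, map_zpow, hA, hα, htz, mul_zpow, ← zpow_mul,
        zpow_congr hexp z (i := α * (A * a2)) (j := A) ⟨-A * a1, by linear_combination A * ha⟩]
      rw [mul_right_comm (c ^ (A * a2)), mul_inv_rev (c ^ (A * a2) * z ^ (B * b2)), ← mul_assoc,
        mul_inv_cancel_right]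
    have h2 : u w0 = w0 := by
      rw [hw0, map_mul, map_inv, map_mul, map_zpow, map_zpow, hB, hγ, huc, mul_zpow, ← zpow_mul,
        zpow_congr hexp c (i := γ * (B * b2)) (j := B) ⟨-B * b1, by linear_combination B * hb⟩,
        ← mul_assoc (c ^ (A * a2)), mul_inv_rev (c ^ (A * a2) * z ^ (B * b2)), ← mul_assoc,
        mul_inv_cancel_right]
    have h1' : ∀ j : ℤ, (t ^ j) w0 = w0 := fun j => by
      rw [hiter t (d := 1) (by rw [h1, mul_one]) (map_one t) j, one_zpow, mul_one]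
    have h2' : ∀ j : ℤ, (u ^ j) w0 = w0 := fun j => by
      rw [hiter u (d := 1) (by rw [h2, mul_one]) (map_one u) j, one_zpow, mul_one]
    refine ⟨A * a2, B * b2, w0, ?_, ?_, h1⟩
    · rw [hw0, mul_comm m, mul_inv_cancel_left]
    · rw [hβ]
      simp only [w, T, U, MulAut.mul_apply, h1', h2']
  have hβL : β ∈ L := hβ ▸ mul_mem (hwL _ _) (hwL _ _)
  refine ⟨β, hβL, ?_, ?_, fun m hm => ?_⟩
  · rw [mul_inv_eq_iff_eq_mul]
    refine MulEquiv.ext fun m => ?_
    obtain ⟨i, q, w0, rfl, hb0, ht0⟩ := hsplit m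
    have h0 : ∀ j : ℤ, (t ^ j) w0 = w0 := fun j => by
      rw [hiter t (d := 1) (by rw [ht0, mul_one]) (map_one t) j, one_zpow, mul_one]
    have e1 : t (c ^ i * z ^ q * w0) = c ^ i * z ^ (α * i + q) * w0 := by
      rw [map_mul t, map_mul t, map_zpow t, map_zpow t, hα, htz, ht0, mul_zpow, ← zpow_mul,
        mul_assoc (c ^ i), ← zpow_add]
    have e2 : ∀ i q : ℤ, β (c ^ i * z ^ q * w0) = c ^ (k * i) * z ^ (l * q) * w0 := fun i q => by
      rw [map_mul β, hb0, hβcz]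
    rw [MulAut.mul_apply, MulAut.mul_apply, e1, e2, e2, map_mul (t ^ (l * l)), h0,
      map_mul (t ^ (l * l)), map_zpow (t ^ (l * l)), map_zpow (t ^ (l * l)), hTc, hTz, mul_zpow, ← zpow_mul,
      mul_assoc (c ^ (k * i)) (z ^ (α * (l * l) * (k * i))), ← zpow_add]
    congr 2
    obtain ⟨d, hd⟩ := hlk
    exact zpow_congr hexp z ⟨-(α * i * l * d), by linear_combination (-(α * i * l)) * hd⟩
  · simpa using hβcz 0 1
  · obtain ⟨i, q, w0, rfl, hb0, ht0⟩ := hsplit m
    have hi : (p : ℤ) ∣ i := by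
      rw [map_mul, map_mul, map_zpow, map_zpow, hα, htz, ht0, mul_zpow, ← zpow_mul] at hm
      have h1 : z ^ (α * i) = 1 := by
        have := mul_right_cancel (mul_right_cancel hm)
        simpa using this
      exact ((Prime.dvd_or_dvd hpr (dvd_of_zpow_eq_one hexp hz1 h1))).resolve_left fun h =>
        htc (by rw [hα, zpow_eq_one_of_dvd hexp z h, mul_one])
    rw [zpow_eq_one_of_dvd hexp c hi, one_mul, map_mul β, hb0, map_zpow β,
      show β z = z ^ l by simpa using hβcz 0 1, ← zpow_mul]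
    refine ⟨l * q - q, ?_⟩
    show z ^ (l * q - q) = _
    rw [zpow_sub, eq_inv_mul_iff_mul_eq, mul_right_comm, ← mul_assoc,
      mul_comm (z ^ q), mul_inv_cancel_right]

variable {X : Type*} [Group X] [Finite X]

/-- The torus element in a group with a strongly `p`-embedded subgroup. -/
theorem spe_torus (hexp : ∀ m : M, m ^ p = 1) (φ : X →* MulAut M) (hφ : Function.Injective φ)
    {H : Subgroup X} (hH : IsStronglyPEmbedded p H) {t : X} (ht1 : t ≠ 1) (htp : IsPGroup p (zpowers t))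
    {z : M} (ht : ∀ m, ∃ i : ℤ, φ t m = m * z ^ i) (hfix : φ t z = z) {l k : ℤ}
    (hlk : (p : ℤ) ∣ l * k - 1) :
    ∃ β : X, β * t * β⁻¹ = t ^ (l * l) ∧ φ β z = z ^ l ∧ ∀ m, φ t m = m → m⁻¹ * φ β m ∈ zpowers z := by
  obtain ⟨T, d⟩ := H73.exists_speData_of_isStronglyPEmbedded hH
  obtain ⟨R, hR⟩ := htp.exists_le_sylow
  obtain ⟨x, hx⟩ := MulAction.exists_smul_eq X T R
  -- a conjugate of `t` that generates no `p`-group with it
  obtain ⟨s, hs⟩ : ∃ s, s = x⁻¹ * t * x := ⟨_, rfl⟩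
  have hsH : s ∈ H := by
    refine d.sylow_le ?_
    have h1 : t ∈ (R : Subgroup X) := hR (mem_zpowers t)
    rw [← hx, Sylow.coe_subgroup_smul, Subgroup.mem_pointwise_smul_iff_inv_smul_mem] at h1
    simpa [hs, mul_assoc] using h1
  have hs1 : s ≠ 1 := fun e => ht1 (by
    have := congrArg (fun y => x * y * x⁻¹) e
    simpa [hs, mul_assoc] using this)
  have hsp : IsPGroup p (zpowers s) := by
    rintro ⟨y, hy⟩
    obtain ⟨i, rfl⟩ := hy
    obtain ⟨j, hj⟩ := htp ⟨t ^ i, zpow_mem (mem_zpowers t) i⟩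
    refine ⟨j, Subtype.ext ?_⟩
    have hj' : (t ^ i) ^ p ^ j = 1 := congrArg Subtype.val hj
    show (s ^ i) ^ p ^ j = 1
    rw [hs, show x⁻¹ * t * x = MulAut.conj x⁻¹ t by simp, ← map_zpow, ← map_pow, hj', map_one]
  obtain ⟨a, -, ha⟩ := SetLike.exists_of_lt hH.2.1.lt_top
  obtain ⟨u, hu⟩ : ∃ u, u = x * a * x⁻¹ * t * (x * a * x⁻¹)⁻¹ := ⟨_, rfl⟩
  have hnp : ¬ IsPGroup p (Subgroup.closure ({φ t, φ u} : Set (MulAut M))) := by
    intro h
    have hR' : IsPGroup p (Subgroup.closure ({s, a * s * a⁻¹} : Set X)) := by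
      refine IsPGroup.of_injective ((h : IsPGroup p _).to_le ?_ : IsPGroup p
        ((Subgroup.closure ({s, a * s * a⁻¹} : Set X)).map (φ.comp (MulAut.conj x).toMonoidHom)))
        ((Subgroup.closure ({s, a * s * a⁻¹} : Set X)).equivMapOfInjective
          (φ.comp (MulAut.conj x).toMonoidHom) (hφ.comp (MulAut.conj x).injective)).toMonoidHom
        (MulEquiv.injective _)
      rw [MonoidHom.map_closure, Set.image_pair]
      refine le_of_eq (congrArg _ ?_)
      simp [hs, hu, mul_assoc]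
    have hle := d.pgroup_le hR' fun hb => hs1 (mem_bot.1
      (hb.le (mem_inf.2 ⟨subset_closure (by simp), hsH⟩)))
    exact ha (d.mem_of_conj hsH hs1 hsp (hle (subset_closure (Set.mem_insert_of_mem s rfl))))
  have hcu := conj_transvection (φ := φ) ht (x * a * x⁻¹)
  rw [← hu] at hcu
  have huc : φ u (φ (x * a * x⁻¹) z) = φ (x * a * x⁻¹) z := by
    rw [hu, map_mul _ (x * a * x⁻¹ * t), map_mul _ (x * a * x⁻¹), map_inv, MulAut.mul_apply,
      MulAut.mul_apply, MulAut.inv_apply_self, hfix]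
  obtain ⟨g, hg, hgt, hgz, hgf⟩ := pair_torus hexp hfix huc ht hcu hnp hlk
  obtain ⟨β, rfl⟩ : g ∈ φ.range := by
    refine (closure_le φ.range).2 ?_ hg
    rintro y (rfl | rfl) <;> exact ⟨_, rfl⟩
  exact ⟨β, hφ (by rw [map_mul, map_mul, map_inv, map_zpow, hgt]), hgz, hgf⟩

end Cfsg.Agent.H24.OrderFive
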